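import Mathlib

set_option autoImplicit false
set_option backward.isDefEq.respectTransparency.types false
set_option maxHeartbeats 400000

namespace Groth.Agent.Lib.Helper61.AdjTransfer

open CategoryTheory

universe v₁ v₂ v₃ u₁ u₂ u₃

section Two

variable {C : Type u₁} [Category.{v₁} C] {D : Type u₂} [Category.{v₂} D]
  {L L' : C ⥤ D} {R R' : D ⥤ C} (adj : L ⊣ R) (adj' : L' ⊣ R') (ρ : R ≅ R')

/-- the comparison of left adjoints induced by an isomorphism of right adjoints. -/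
def zmap (P : C) : L'.obj P ⟶ L.obj P :=
  (adj'.homEquiv _ _).symm (adj.unit.app P ≫ ρ.hom.app (L.obj P))

lemma homEquiv_symm_comp_app {P : C} {Q : D} (x : P ⟶ R.obj Q) :
    (adj'.homEquiv _ _).symm (x ≫ ρ.hom.app Q) = zmap adj adj' ρ P ≫ (adj.homEquiv _ _).symm x := by
  unfold zmap
  rw [← Adjunction.homEquiv_naturality_right_symm]
  congr 1
  rw [Category.assoc, ← ρ.hom.naturality, ← Category.assoc]
  congr 1
  rw [← Adjunction.homEquiv_unit, Equiv.apply_symm_apply]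

lemma zmap_zmap (P : C) : zmap adj adj' ρ P ≫ zmap adj' adj ρ.symm P = 𝟙 _ := by
  have h := homEquiv_symm_comp_app adj adj' ρ (P := P)
    (adj'.unit.app P ≫ ρ.inv.app (L'.obj P))
  have hx : (adj'.unit.app P ≫ ρ.inv.app (L'.obj P)) ≫ ρ.hom.app (L'.obj P) =
      adj'.unit.app P := by simp
  have h2 : (adj'.homEquiv P (L'.obj P)).symm (adj'.unit.app P) = 𝟙 _ := by
    rw [Equiv.symm_apply_eq, Adjunction.homEquiv_unit, CategoryTheory.Functor.map_id]
    exact (Category.comp_id _).symm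
  exact (h.symm.trans (congrArg (adj'.homEquiv P (L'.obj P)).symm hx)).trans h2

instance isIso_zmap (P : C) : IsIso (zmap adj adj' ρ P) :=
  ⟨⟨zmap adj' adj ρ.symm P, zmap_zmap adj adj' ρ P, by
    have := zmap_zmap adj' adj ρ.symm P
    exact this⟩⟩

end Two

section Three

variable {C1 : Type u₁} [Category.{v₁} C1] {C2 : Type u₂} [Category.{v₂} C2]
  {C3 : Type u₃} [Category.{v₃} C3]
  {L1 : C1 ⥤ C2} {R1 : C2 ⥤ C1} {L2 : C2 ⥤ C3} {R2 : C3 ⥤ C2} {L' : C1 ⥤ C3} {R' : C3 ⥤ C1}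

lemma comp_homEquiv_symm (adj1 : L1 ⊣ R1) (adj2 : L2 ⊣ R2) {P : C1} {Q : C2} {T : C3}
    (b₁ : P ⟶ R1.obj Q) (b₂ : Q ⟶ R2.obj T) :
    ((adj1.comp adj2).homEquiv P T).symm (b₁ ≫ R1.map b₂) =
      L2.map ((adj1.homEquiv _ _).symm b₁) ≫ (adj2.homEquiv _ _).symm b₂ := by
  rw [Adjunction.comp_homEquiv]
  simp only [Equiv.symm_trans_apply]
  rw [Adjunction.homEquiv_naturality_right_symm, Adjunction.homEquiv_naturality_left_symm]

theorem isIso_transpose_of_comp (adj1 : L1 ⊣ R1) (adj2 : L2 ⊣ R2) (adj' : L' ⊣ R')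
    (ρ : R2 ⋙ R1 ≅ R') {P : C1} {Q : C2} {T T' : C3} (b₁ : P ⟶ R1.obj Q) (b₂ : Q ⟶ R2.obj T)
    (b' : P ⟶ R'.obj T') (m : T' ⟶ T) [IsIso m]
    (h : b' ≫ R'.map m = (b₁ ≫ R1.map b₂) ≫ ρ.hom.app T)
    (h1 : IsIso ((adj1.homEquiv _ _).symm b₁)) (h2 : IsIso ((adj2.homEquiv _ _).symm b₂)) :
    IsIso ((adj'.homEquiv _ _).symm b') := by
  have e1 := homEquiv_symm_comp_app (adj1.comp adj2) adj' ρ (b₁ ≫ R1.map b₂)
  rw [comp_homEquiv_symm] at e1
  have e2 : (adj'.homEquiv _ _).symm (b' ≫ R'.map m) = (adj'.homEquiv _ _).symm b' ≫ m :=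
    Adjunction.homEquiv_naturality_right_symm _ _ _
  rw [h, e1] at e2
  have e3 : (adj'.homEquiv _ _).symm b' =
      (zmap (adj1.comp adj2) adj' ρ P ≫ L2.map ((adj1.homEquiv P Q).symm b₁) ≫
        (adj2.homEquiv Q T).symm b₂) ≫ inv m := by
    rw [e2, Category.assoc, IsIso.hom_inv_id, Category.comp_id]
  rw [e3]
  infer_instance

end Three

end Groth.Agent.Lib.Helper61.AdjTransfer
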