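import Mathlib
import Groth.Prelude.Def_RDer

set_option autoImplicit false
set_option backward.isDefEq.respectTransparency.types false
set_option maxHeartbeats 400000

namespace Groth.Agent.Lib.Helper61.RDerNat

open CategoryTheory CategoryTheory.Limits HomologicalComplex

universe v₁ v₂ v₃ v₄ u₁ u₂ u₃ u₄

section Homotopy

variable {A : Type u₁} [Category.{v₁} A] [Abelian A]
variable {Y : A} {I : InjectiveResolution Y} {L : CochainComplex A ℕ} [hL : ∀ n, Injective (L.X n)]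

/-- An auxiliary definition for `hZero`. -/
noncomputable def hZeroZero (f : I.cocomplex ⟶ L) (comm : I.ι.f 0 ≫ f.f 0 = 0) :
    I.cocomplex.X 1 ⟶ L.X 0 :=
  I.exact₀.descToInjective (f.f 0) comm

@[reassoc (attr := simp)]
lemma comp_hZeroZero (f : I.cocomplex ⟶ L) (comm : I.ι.f 0 ≫ f.f 0 = 0) :
    I.cocomplex.d 0 1 ≫ hZeroZero f comm = f.f 0 :=
  I.exact₀.comp_descToInjective _ _

/-- An auxiliary definition for `hZero`. -/
noncomputable def hZeroOne (f : I.cocomplex ⟶ L) (comm : I.ι.f 0 ≫ f.f 0 = 0) :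
    I.cocomplex.X 2 ⟶ L.X 1 :=
  (I.exact_succ 0).descToInjective (f.f 1 - hZeroZero f comm ≫ L.d 0 1)
    (by rw [Preadditive.comp_sub, comp_hZeroZero_assoc f comm,
          HomologicalComplex.Hom.comm, sub_self])

@[reassoc (attr := simp)]
lemma comp_hZeroOne (f : I.cocomplex ⟶ L) (comm : I.ι.f 0 ≫ f.f 0 = 0) :
    I.cocomplex.d 1 2 ≫ hZeroOne f comm = f.f 1 - hZeroZero f comm ≫ L.d 0 1 :=
  (I.exact_succ 0).comp_descToInjective _ _

/-- An auxiliary definition for `hZero`. -/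
noncomputable def hZeroSucc (f : I.cocomplex ⟶ L) (n : ℕ) (g : I.cocomplex.X (n + 1) ⟶ L.X n)
    (g' : I.cocomplex.X (n + 2) ⟶ L.X (n + 1))
    (w : f.f (n + 1) = I.cocomplex.d (n + 1) (n + 2) ≫ g' + g ≫ L.d n (n + 1)) :
    I.cocomplex.X (n + 3) ⟶ L.X (n + 2) :=
  (I.exact_succ (n + 1)).descToInjective (f.f (n + 2) - g' ≫ L.d _ _) (by
      dsimp
      rw [Preadditive.comp_sub, ← HomologicalComplex.Hom.comm, w, Preadditive.add_comp,
        Category.assoc, Category.assoc, HomologicalComplex.d_comp_d, comp_zero,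
        add_zero, sub_self])

@[reassoc (attr := simp)]
lemma comp_hZeroSucc (f : I.cocomplex ⟶ L) (n : ℕ) (g : I.cocomplex.X (n + 1) ⟶ L.X n)
    (g' : I.cocomplex.X (n + 2) ⟶ L.X (n + 1))
    (w : f.f (n + 1) = I.cocomplex.d (n + 1) (n + 2) ≫ g' + g ≫ L.d n (n + 1)) :
    I.cocomplex.d (n + 2) (n + 3) ≫ hZeroSucc f n g g' w = f.f (n + 2) - g' ≫ L.d _ _ :=
  (I.exact_succ (n + 1)).comp_descToInjective _ _

/-- A cochain map from an injective resolution to a complex of injectives which kills the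
augmentation is homotopic to zero. -/
noncomputable def hZero (f : I.cocomplex ⟶ L) (comm : I.ι.f 0 ≫ f.f 0 = 0) : Homotopy f 0 :=
  Homotopy.mkCoinductive _ (hZeroZero f comm) (by simp)
    (hZeroOne f comm) (by simp) (fun n ⟨g, g', w⟩ =>
    ⟨hZeroSucc f n g g' (by simp only [w, add_comm]), by simp⟩)

/-- Two cochain maps from an injective resolution to a complex of injectives which agree on the
augmentation are homotopic. -/
noncomputable def hEq (a b : I.cocomplex ⟶ L) (h : I.ι.f 0 ≫ a.f 0 = I.ι.f 0 ≫ b.f 0) :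
    Homotopy a b :=
  Homotopy.equivSubZero.invFun (hZero (a - b) (by
    rw [HomologicalComplex.sub_f_apply, Preadditive.comp_sub, h, sub_self]))

end Homotopy

section HomologyEq

variable {B : Type u₂} [Category.{v₂} B] [Abelian B] {C : Type u₃} [Category.{v₃} C] [Abelian C]

lemma homologyMap_map_eq (Ψ : B ⥤ C) [Ψ.Additive] {Y : B} {I : InjectiveResolution Y}
    {L : CochainComplex B ℕ} [∀ n, Injective (L.X n)] (a b : I.cocomplex ⟶ L)
    (h : I.ι.f 0 ≫ a.f 0 = I.ι.f 0 ≫ b.f 0) (q : ℕ) :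
    (HomologicalComplex.homologyFunctor C _ q).map ((Ψ.mapHomologicalComplex _).map a) =
      (HomologicalComplex.homologyFunctor C _ q).map ((Ψ.mapHomologicalComplex _).map b) :=
  (Ψ.mapHomotopy (hEq a b h)).homologyMap_eq q

end HomologyEq

section Comparison

variable {B : Type u₂} [Category.{v₂} B] [Abelian B] {C : Type u₃} [Category.{v₃} C] [Abelian C]
  {D : Type u₄} [Category.{v₄} D] [Abelian D]
  {ι' : Type*} {c : ComplexShape ι'}

open RDer

@[reassoc]
lemma cyclesMap_cyclesComparison (Ψ : B ⥤ C) [Ψ.Additive] [PreservesFiniteLimits Ψ]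
    {K K' : HomologicalComplex B c} (g : K ⟶ K') (i : ι') :
    cyclesMap ((Ψ.mapHomologicalComplex c).map g) i ≫ cyclesComparison Ψ K' i =
      cyclesComparison Ψ K i ≫ Ψ.map (cyclesMap g i) := by
  rw [← cancel_mono (Ψ.map (K'.iCycles i))]
  rw [Category.assoc, cyclesComparison_i]
  erw [cyclesMap_i]
  rw [Category.assoc, ← Ψ.map_comp, cyclesMap_i, Ψ.map_comp, cyclesComparison_i_assoc]
  rfl

@[reassoc]
lemma homologyMap_homologyComparison (Ψ : B ⥤ C) [Ψ.Additive] [PreservesFiniteLimits Ψ]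
    {K K' : HomologicalComplex B c} (g : K ⟶ K') (i : ι') :
    homologyMap ((Ψ.mapHomologicalComplex c).map g) i ≫ homologyComparison Ψ K' i =
      homologyComparison Ψ K i ≫ Ψ.map (homologyMap g i) := by
  rw [← cancel_epi (((Ψ.mapHomologicalComplex c).obj K).homologyπ i)]
  rw [homologyπ_naturality_assoc, homologyπ_homologyComparison, homologyπ_homologyComparison_assoc,
    cyclesMap_cyclesComparison_assoc, ← Ψ.map_comp, ← Ψ.map_comp, homologyπ_naturality]

@[reassoc]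
lemma cyclesMap_app_cyclesComparison {Ψ Ψ' : B ⥤ C} [Ψ.Additive] [PreservesFiniteLimits Ψ]
    [Ψ'.Additive] [PreservesFiniteLimits Ψ'] (α : Ψ ⟶ Ψ') (K : HomologicalComplex B c) (i : ι') :
    cyclesMap ((NatTrans.mapHomologicalComplex α c).app K) i ≫ cyclesComparison Ψ' K i =
      cyclesComparison Ψ K i ≫ α.app (K.cycles i) := by
  rw [← cancel_mono (Ψ'.map (K.iCycles i))]
  rw [Category.assoc, cyclesComparison_i]
  erw [cyclesMap_i]
  rw [Category.assoc, ← α.naturality, cyclesComparison_i_assoc]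
  rfl

@[reassoc]
lemma homologyMap_app_homologyComparison {Ψ Ψ' : B ⥤ C} [Ψ.Additive] [PreservesFiniteLimits Ψ]
    [Ψ'.Additive] [PreservesFiniteLimits Ψ'] (α : Ψ ⟶ Ψ') (K : HomologicalComplex B c) (i : ι') :
    homologyMap ((NatTrans.mapHomologicalComplex α c).app K) i ≫ homologyComparison Ψ' K i =
      homologyComparison Ψ K i ≫ α.app (K.homology i) := by
  rw [← cancel_epi (((Ψ.mapHomologicalComplex c).obj K).homologyπ i)]
  rw [homologyπ_naturality_assoc, homologyπ_homologyComparison, homologyπ_homologyComparison_assoc,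
    cyclesMap_app_cyclesComparison_assoc, α.naturality]

lemma cyclesComparison_comp (Ψ₁ : B ⥤ C) [Ψ₁.Additive] [PreservesFiniteLimits Ψ₁]
    (Ψ₂ : C ⥤ D) [Ψ₂.Additive] [PreservesFiniteLimits Ψ₂] (K : HomologicalComplex B c) (i : ι') :
    cyclesComparison (Ψ₁ ⋙ Ψ₂) K i =
      cyclesComparison Ψ₂ ((Ψ₁.mapHomologicalComplex c).obj K) i ≫
        Ψ₂.map (cyclesComparison Ψ₁ K i) := by
  have h1 : Ψ₂.map (cyclesComparison Ψ₁ K i) ≫ Ψ₂.map (Ψ₁.map (K.iCycles i)) =
      Ψ₂.map (((Ψ₁.mapHomologicalComplex c).obj K).iCycles i) :=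
    (Ψ₂.map_comp _ _).symm.trans (congrArg Ψ₂.map (cyclesComparison_i Ψ₁ K i))
  have h2 := cyclesComparison_i Ψ₂ ((Ψ₁.mapHomologicalComplex c).obj K) i
  have h3 : (cyclesComparison Ψ₂ ((Ψ₁.mapHomologicalComplex c).obj K) i ≫
      Ψ₂.map (cyclesComparison Ψ₁ K i)) ≫ Ψ₂.map (Ψ₁.map (K.iCycles i)) =
      ((Ψ₂.mapHomologicalComplex c).obj ((Ψ₁.mapHomologicalComplex c).obj K)).iCycles i :=
    (Category.assoc _ _ _).trans
      ((congrArg (fun t => cyclesComparison Ψ₂ ((Ψ₁.mapHomologicalComplex c).obj K) i ≫ t) h1).trans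
        h2)
  have h4 := cyclesComparison_i (Ψ₁ ⋙ Ψ₂) K i
  apply (cancel_mono ((Ψ₁ ⋙ Ψ₂).map (K.iCycles i))).mp
  exact h4.trans h3.symm

lemma homologyComparison_comp (Ψ₁ : B ⥤ C) [Ψ₁.Additive] [PreservesFiniteLimits Ψ₁]
    (Ψ₂ : C ⥤ D) [Ψ₂.Additive] [PreservesFiniteLimits Ψ₂] (K : HomologicalComplex B c) (i : ι') :
    homologyComparison (Ψ₁ ⋙ Ψ₂) K i =
      homologyComparison Ψ₂ ((Ψ₁.mapHomologicalComplex c).obj K) i ≫
        Ψ₂.map (homologyComparison Ψ₁ K i) := by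
  have h := homologyπ_homologyComparison_assoc Ψ₂ ((Ψ₁.mapHomologicalComplex c).obj K) i
    (Ψ₂.map (homologyComparison Ψ₁ K i))
  have h1 : Ψ₂.map (((Ψ₁.mapHomologicalComplex c).obj K).homologyπ i) ≫
      Ψ₂.map (homologyComparison Ψ₁ K i) =
      Ψ₂.map (cyclesComparison Ψ₁ K i) ≫ Ψ₂.map (Ψ₁.map (K.homologyπ i)) :=
    (Ψ₂.map_comp _ _).symm.trans ((congrArg Ψ₂.map (homologyπ_homologyComparison Ψ₁ K i)).trans
      (Ψ₂.map_comp _ _))
  have h2 := h.trans
    (congrArg (fun t => cyclesComparison Ψ₂ ((Ψ₁.mapHomologicalComplex c).obj K) i ≫ t) h1)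
  have h4 := homologyπ_homologyComparison (Ψ₁ ⋙ Ψ₂) K i
  have h5 : cyclesComparison (Ψ₁ ⋙ Ψ₂) K i ≫ (Ψ₁ ⋙ Ψ₂).map (K.homologyπ i) =
      cyclesComparison Ψ₂ ((Ψ₁.mapHomologicalComplex c).obj K) i ≫
        Ψ₂.map (cyclesComparison Ψ₁ K i) ≫ Ψ₂.map (Ψ₁.map (K.homologyπ i)) :=
    (congrArg (fun t => t ≫ (Ψ₁ ⋙ Ψ₂).map (K.homologyπ i))
      (cyclesComparison_comp Ψ₁ Ψ₂ K i)).trans (Category.assoc _ _ _)
  apply (cancel_epi ((((Ψ₁ ⋙ Ψ₂).mapHomologicalComplex c).obj K).homologyπ i)).mp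
  exact (h4.trans h5).trans h2.symm

end Comparison

end Groth.Agent.Lib.Helper61.RDerNat
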