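import Mathlib
import Groth.Prelude.Def_RDer
import Groth.Agent.Lib.Helper61.RDerNat

set_option autoImplicit false
set_option backward.isDefEq.respectTransparency.types false
set_option maxHeartbeats 400000

namespace Groth.Agent.Lib.Helper61.RDerBC

open CategoryTheory CategoryTheory.Limits HomologicalComplex
open Groth.Agent.Lib.Helper61.RDerNat

universe v₁ v₂ v₃ v₄ v₅ v₆ u₁ u₂ u₃ u₄ u₅ u₆

section Cmp

variable {A : Type u₁} [Category.{v₁} A] [Abelian A] [HasInjectiveResolutions A]
  {B : Type u₂} [Category.{v₂} B] [Abelian B] [HasInjectiveResolutions B]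

/-- the comparison cochain map `I_{ΦX} ⟶ Φ I_X`. -/
noncomputable abbrev cmp (Φ : A ⥤ B) [Φ.Additive] [Φ.PreservesInjectiveObjects] (X : A) :
    (injectiveResolution (Φ.obj X)).cocomplex ⟶
      (Φ.mapHomologicalComplex _).obj (injectiveResolution X).cocomplex :=
  RDer.descToInjectives (𝟙 (Φ.obj X)) (injectiveResolution (Φ.obj X)).cocomplex
    (injectiveResolution (Φ.obj X)).ι
    ((Φ.mapHomologicalComplex _).obj (injectiveResolution X).cocomplex)
    (RDer.mapAug Φ (injectiveResolution X).ι)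

lemma cmp_aug (Φ : A ⥤ B) [Φ.Additive] [Φ.PreservesInjectiveObjects] (X : A) :
    (injectiveResolution (Φ.obj X)).ι.f 0 ≫ (cmp Φ X).f 0 =
      Φ.map ((injectiveResolution X).ι.f 0) := by
  rw [RDer.ι_descToInjectives_f_zero, Category.id_comp]
  simp [HomologicalComplex.singleMapHomologicalComplex_inv_app_self]
  exact Category.id_comp _

end Cmp

section BC

variable {CT : Type u₁} [Category.{v₁} CT] [Abelian CT] [HasInjectiveResolutions CT]
  {CS : Type u₂} [Category.{v₂} CS] [Abelian CS]
  {CY : Type u₃} [Category.{v₃} CY] [Abelian CY] [HasInjectiveResolutions CY]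
  {CX : Type u₄} [Category.{v₄} CX] [Abelian CX] [HasInjectiveResolutions CX]

/-- abstract adjoint form of the base change map in degree `q`. -/
noncomputable def bcA (E : CY ⥤ CT) [E.Additive] [E.PreservesInjectiveObjects]
    (G : CT ⥤ CS) [G.Additive] (H : CY ⥤ CX) [H.Additive] (F : CX ⥤ CS) [F.Additive]
    [PreservesFiniteLimits F] (σ : E ⋙ G ≅ H ⋙ F) (q : ℕ) {A : CT} {B : CY} (η : A ⟶ E.obj B) :
    (G.rightDerived q).obj A ⟶ F.obj ((H.rightDerived q).obj B) :=
  (G.rightDerived q).map η ≫ RDer.edgeIn E G q B ≫ (RDer.rightDerivedIso σ q).hom.app B ≫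
    RDer.edgeOut H F q B

/-- unfolded description of `bcA` in terms of any lift of `η` to the resolutions. -/
theorem bcA_eq (E : CY ⥤ CT) [E.Additive] [E.PreservesInjectiveObjects]
    (G : CT ⥤ CS) [G.Additive] (H : CY ⥤ CX) [H.Additive] (F : CX ⥤ CS) [F.Additive]
    [PreservesFiniteLimits F] (σ : E ⋙ G ≅ H ⋙ F) (q : ℕ) {A : CT} {B : CY} (η : A ⟶ E.obj B)
    (u : (injectiveResolution A).cocomplex ⟶
      (E.mapHomologicalComplex _).obj (injectiveResolution B).cocomplex)
    (hu : (injectiveResolution A).ι.f 0 ≫ u.f 0 = η ≫ E.map ((injectiveResolution B).ι.f 0)) :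
    bcA E G H F σ q η =
      ((injectiveResolution A).isoRightDerivedObj G q).hom ≫
        (HomologicalComplex.homologyFunctor CS _ q).map ((G.mapHomologicalComplex _).map u) ≫
        (HomologicalComplex.homologyFunctor CS _ q).map
          ((NatTrans.mapHomologicalComplex σ.hom _).app (injectiveResolution B).cocomplex) ≫
        RDer.homologyComparison F
          ((H.mapHomologicalComplex _).obj (injectiveResolution B).cocomplex) q ≫
        F.map (((injectiveResolution B).isoRightDerivedObj H q).inv) := by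
  have h1 := Functor.rightDerived_map_eq G q η
    (P := injectiveResolution A) (Q := injectiveResolution (E.obj B))
    (InjectiveResolution.desc η _ _) (by simp)
  have h2 := InjectiveResolution.rightDerived_app_eq σ.hom (injectiveResolution B) q
  have h3 : (HomologicalComplex.homologyFunctor CS _ q).map ((G.mapHomologicalComplex _).map
      (InjectiveResolution.desc η (injectiveResolution (E.obj B)) (injectiveResolution A))) ≫
      (HomologicalComplex.homologyFunctor CS _ q).map ((G.mapHomologicalComplex _).map (cmp E B)) =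
      (HomologicalComplex.homologyFunctor CS _ q).map ((G.mapHomologicalComplex _).map u) := by
    rw [← Functor.map_comp, ← Functor.map_comp]
    apply homologyMap_map_eq
    rw [HomologicalComplex.comp_f, InjectiveResolution.desc_commutes_zero_assoc, hu]
    exact (Category.assoc _ _ _).trans (congrArg (fun t => η ≫ t) (cmp_aug E B))
  unfold bcA RDer.edgeIn RDer.edgeOut RDer.rightDerivedIso
  dsimp only
  rw [h1, h2]
  simp only [Category.assoc, Iso.inv_hom_id_assoc, Functor.comp_map]
  rw [reassoc_of% h3]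
  erw [Iso.inv_hom_id_assoc]
  rfl

end BC

lemma exists_lift {CT : Type u₁} [Category.{v₁} CT] [Abelian CT] [HasInjectiveResolutions CT]
    {CY : Type u₃} [Category.{v₃} CY] [Abelian CY] [HasInjectiveResolutions CY]
    (E : CY ⥤ CT) [E.Additive] [E.PreservesInjectiveObjects] {A : CT} {B : CY} (η : A ⟶ E.obj B) :
    ∃ u : (injectiveResolution A).cocomplex ⟶
      (E.mapHomologicalComplex _).obj (injectiveResolution B).cocomplex,
      (injectiveResolution A).ι.f 0 ≫ u.f 0 = η ≫ E.map ((injectiveResolution B).ι.f 0) := by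
  refine ⟨InjectiveResolution.desc η _ _ ≫ cmp E B, ?_⟩
  rw [HomologicalComplex.comp_f, InjectiveResolution.desc_commutes_zero_assoc]
  exact (Category.assoc _ _ _).trans (congrArg (fun t => η ≫ t) (cmp_aug E B))

lemma chase {C : Type*} {D : Type*} [Category C] [Category D] (F : D ⥤ C)
    {X0 X1 X2 X3 X2' X3' X3'' : C} {Y4 Y4' Y5 Y6 Y7 Y8 : D}
    (a : X0 ⟶ X1) (M1 : X1 ⟶ X2) (S1 : X2 ⟶ X3) (c1 : X3 ⟶ F.obj Y4) (ib : Y4' ≅ Y4)
    (M2 : Y4 ⟶ Y5) (S2 : Y5 ⟶ Y6) (c2 : Y6 ⟶ Y7) (z : Y7 ⟶ Y8)
    (ge : X2 ⟶ X2') (S1' : X2' ⟶ X3') (fs : X3' ⟶ X3'') (c1'' : X3'' ⟶ F.obj Y6)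
    (fh : X3 ⟶ X3') (c1' : X3' ⟶ F.obj Y5)
    (k1 : fh ≫ c1' = c1 ≫ F.map M2) (k2 : fs ≫ c1'' = c1' ≫ F.map S2)
    (k4 : ge ≫ S1' = S1 ≫ fh) :
    (a ≫ M1 ≫ S1 ≫ c1 ≫ F.map ib.inv) ≫ F.map (ib.hom ≫ M2 ≫ S2 ≫ c2 ≫ z) =
      a ≫ (M1 ≫ ge) ≫ (S1' ≫ fs) ≫ (c1'' ≫ F.map c2) ≫ F.map z := by
  simp only [Category.assoc, Functor.map_comp, Iso.map_inv_hom_id_assoc]
  rw [reassoc_of% k4, reassoc_of% k2, reassoc_of% k1]

section VComp

variable {CT : Type u₁} [Category.{v₁} CT] [Abelian CT] [HasInjectiveResolutions CT]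
  {CS : Type u₂} [Category.{v₂} CS] [Abelian CS]
  {CY : Type u₃} [Category.{v₃} CY] [Abelian CY] [HasInjectiveResolutions CY]
  {CX : Type u₄} [Category.{v₄} CX] [Abelian CX] [HasInjectiveResolutions CX]
  {CZ : Type u₅} [Category.{v₅} CZ] [Abelian CZ] [HasInjectiveResolutions CZ]
  {CW : Type u₆} [Category.{v₆} CW] [Abelian CW] [HasInjectiveResolutions CW]

variable (E : CY ⥤ CT) [E.Additive] [E.PreservesInjectiveObjects]
  (G : CT ⥤ CS) [G.Additive] (H : CY ⥤ CX) [H.Additive] (F : CX ⥤ CS) [F.Additive]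
  [PreservesFiniteLimits F] (σ₁ : E ⋙ G ≅ H ⋙ F)
  (K : CZ ⥤ CY) [K.Additive] [K.PreservesInjectiveObjects] (J : CZ ⥤ CW) [J.Additive]
  (I : CW ⥤ CX) [I.Additive] [PreservesFiniteLimits I] (σ₂ : K ⋙ H ≅ J ⋙ I)
  (σ : (K ⋙ E) ⋙ G ≅ J ⋙ (I ⋙ F))
  (hσ : ∀ M : CZ, σ.hom.app M = σ₁.hom.app (K.obj M) ≫ F.map (σ₂.hom.app M))
  (q : ℕ) {A : CT} {B : CY} {C : CZ} (η₁ : A ⟶ E.obj B) (η₂ : B ⟶ K.obj C)

include hσ in
theorem bcA_vcomp :
    bcA E G H F σ₁ q η₁ ≫ F.map (bcA K H J I σ₂ q η₂) =
      bcA (K ⋙ E) G J (I ⋙ F) σ q (η₁ ≫ E.map η₂) := by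
  obtain ⟨u₁, hu₁⟩ := exists_lift E η₁
  obtain ⟨u₂, hu₂⟩ := exists_lift K η₂
  let u : (injectiveResolution A).cocomplex ⟶
      ((K ⋙ E).mapHomologicalComplex _).obj (injectiveResolution C).cocomplex :=
    u₁ ≫ (E.mapHomologicalComplex _).map u₂
  have hu : (injectiveResolution A).ι.f 0 ≫ u.f 0 =
      (η₁ ≫ E.map η₂) ≫ (K ⋙ E).map ((injectiveResolution C).ι.f 0) := by
    have h1 : (injectiveResolution A).ι.f 0 ≫ u.f 0 =
        ((injectiveResolution A).ι.f 0 ≫ u₁.f 0) ≫ E.map (u₂.f 0) := (Category.assoc _ _ _).symm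
    have h2 : E.map ((injectiveResolution B).ι.f 0) ≫ E.map (u₂.f 0) =
        E.map η₂ ≫ E.map (K.map ((injectiveResolution C).ι.f 0)) :=
      (E.map_comp _ _).symm.trans ((congrArg E.map hu₂).trans (E.map_comp _ _))
    exact h1.trans ((congrArg (fun t => t ≫ E.map (u₂.f 0)) hu₁).trans
      ((Category.assoc _ _ _).trans ((congrArg (fun t => η₁ ≫ t) h2).trans
        (Category.assoc _ _ _).symm)))
  rw [bcA_eq E G H F σ₁ q η₁ u₁ hu₁, bcA_eq K H J I σ₂ q η₂ u₂ hu₂,
    bcA_eq (K ⋙ E) G J (I ⋙ F) σ q _ u hu]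
  have k1 : (HomologicalComplex.homologyFunctor CS _ q).map
        ((F.mapHomologicalComplex _).map ((H.mapHomologicalComplex _).map u₂)) ≫
      RDer.homologyComparison F ((H.mapHomologicalComplex _).obj
        ((K.mapHomologicalComplex _).obj (injectiveResolution C).cocomplex)) q =
      RDer.homologyComparison F
        ((H.mapHomologicalComplex _).obj (injectiveResolution B).cocomplex) q ≫
      F.map ((HomologicalComplex.homologyFunctor CX _ q).map ((H.mapHomologicalComplex _).map u₂)) :=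
    homologyMap_homologyComparison F ((H.mapHomologicalComplex _).map u₂) q
  have k2 : (HomologicalComplex.homologyFunctor CS _ q).map ((F.mapHomologicalComplex _).map
        ((NatTrans.mapHomologicalComplex σ₂.hom _).app (injectiveResolution C).cocomplex)) ≫
      RDer.homologyComparison F ((I.mapHomologicalComplex _).obj
        ((J.mapHomologicalComplex _).obj (injectiveResolution C).cocomplex)) q =
      RDer.homologyComparison F ((H.mapHomologicalComplex _).obj
        ((K.mapHomologicalComplex _).obj (injectiveResolution C).cocomplex)) q ≫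
      F.map ((HomologicalComplex.homologyFunctor CX _ q).map
        ((NatTrans.mapHomologicalComplex σ₂.hom _).app (injectiveResolution C).cocomplex)) :=
    homologyMap_homologyComparison F
      ((NatTrans.mapHomologicalComplex σ₂.hom _).app (injectiveResolution C).cocomplex) q
  have k3 := homologyComparison_comp I F
    ((J.mapHomologicalComplex _).obj (injectiveResolution C).cocomplex) q
  have k4 := (NatTrans.mapHomologicalComplex σ₁.hom (ComplexShape.up ℕ)).naturality u₂
  have k4' : (HomologicalComplex.homologyFunctor CS _ q).map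
        ((G.mapHomologicalComplex _).map ((E.mapHomologicalComplex _).map u₂)) ≫
      (HomologicalComplex.homologyFunctor CS _ q).map
        ((NatTrans.mapHomologicalComplex σ₁.hom (ComplexShape.up ℕ)).app
          ((K.mapHomologicalComplex _).obj (injectiveResolution C).cocomplex)) =
      (HomologicalComplex.homologyFunctor CS _ q).map
        ((NatTrans.mapHomologicalComplex σ₁.hom (ComplexShape.up ℕ)).app
          (injectiveResolution B).cocomplex) ≫
      (HomologicalComplex.homologyFunctor CS _ q).map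
        ((F.mapHomologicalComplex _).map ((H.mapHomologicalComplex _).map u₂)) := by
    rw [← Functor.map_comp, ← Functor.map_comp]
    exact congrArg (HomologicalComplex.homologyFunctor CS _ q).map k4
  have k5 : (NatTrans.mapHomologicalComplex σ.hom (ComplexShape.up ℕ)).app
      (injectiveResolution C).cocomplex =
      (NatTrans.mapHomologicalComplex σ₁.hom (ComplexShape.up ℕ)).app
        ((K.mapHomologicalComplex _).obj (injectiveResolution C).cocomplex) ≫
      (F.mapHomologicalComplex _).map ((NatTrans.mapHomologicalComplex σ₂.hom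
        (ComplexShape.up ℕ)).app (injectiveResolution C).cocomplex) := by
    ext n
    exact hσ _
  have k6 : (G.mapHomologicalComplex (ComplexShape.up ℕ)).map u =
      (G.mapHomologicalComplex (ComplexShape.up ℕ)).map u₁ ≫
        (G.mapHomologicalComplex (ComplexShape.up ℕ)).map
          ((E.mapHomologicalComplex (ComplexShape.up ℕ)).map u₂) :=
    Functor.map_comp _ _ _
  rw [k3, k5, k6]
  erw [(HomologicalComplex.homologyFunctor CS _ q).map_comp,
    (HomologicalComplex.homologyFunctor CS _ q).map_comp]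
  exact chase F _ _ _ _ _ _ _ _ _ _ _ _ _ _ _ k1 k2 k4'

end VComp

lemma chase2 {C : Type*} {D : Type*} [Category C] [Category D] (F F' : D ⥤ C) (τ : F ⟶ F')
    {X0 X1 X2 X3 X2b X3b X2c X3c : C} {Y4 Y4' Y5 Y5' : D}
    (a : X0 ⟶ X1) (MU' : X1 ⟶ X2) (S' : X2 ⟶ X3) (c' : X3 ⟶ F'.obj Y4) (ic' : Y4' ≅ Y4)
    (rθ : Y4' ⟶ Y5') (ic : Y5' ≅ Y5) (jθ : Y4 ⟶ Y5)
    (f'jθ : X3 ⟶ X3b) (cb : X3b ⟶ F'.obj Y5) (ge : X2 ⟶ X2b) (Sb : X2b ⟶ X3b) (gp : X2b ⟶ X2c)
    (S : X2c ⟶ X3c) (pp : X3c ⟶ X3b) (cF : X3c ⟶ F.obj Y5)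
    (n1 : ic'.inv ≫ rθ = jθ ≫ ic.inv) (n2 : f'jθ ≫ cb = c' ≫ F'.map jθ)
    (n3 : ge ≫ Sb = S' ≫ f'jθ) (n4 : Sb = gp ≫ S ≫ pp) (n5 : pp ≫ cb = cF ≫ τ.app Y5) :
    (a ≫ MU' ≫ S' ≫ c' ≫ F'.map ic'.inv) ≫ F'.map rθ =
      (a ≫ (MU' ≫ ge ≫ gp) ≫ S ≫ cF ≫ F.map ic.inv) ≫ τ.app Y5' := by
  simp only [Category.assoc]
  rw [← F'.map_comp, n1, F'.map_comp, ← reassoc_of% n2, ← reassoc_of% n3, n4]
  simp only [Category.assoc]
  rw [reassoc_of% n5, τ.naturality]

lemma aug_chase {C : Type*} [Category C] {A0 X P Q R P' Q' R' : C}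
    (i : A0 ⟶ X) (u0 : X ⟶ P) (t : P ⟶ Q) (v : Q ⟶ R) (η' : A0 ⟶ P') (e1 : P' ⟶ P)
    (e2 : P' ⟶ Q') (e3 : Q' ⟶ Q) (w : Q' ⟶ R') (e4 : R' ⟶ R) (η : A0 ⟶ R') (ph : R' ⟶ Q')
    (hu' : i ≫ u0 = η' ≫ e1) (h1 : e1 ≫ t = e2 ≫ e3) (h2 : e3 ≫ v = w ≫ e4)
    (hη : η' ≫ e2 = η ≫ ph) (h3 : ph ≫ w = 𝟙 _) :
    i ≫ (u0 ≫ t ≫ v) = η ≫ e4 := by
  rw [← Category.assoc, hu', Category.assoc, reassoc_of% h1, h2, reassoc_of% hη,
    reassoc_of% h3]

section Transport

variable {CT : Type u₁} [Category.{v₁} CT] [Abelian CT] [HasInjectiveResolutions CT]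
  {CS : Type u₂} [Category.{v₂} CS] [Abelian CS]
  {CZ : Type u₅} [Category.{v₅} CZ] [Abelian CZ] [HasInjectiveResolutions CZ]
  {CW : Type u₆} [Category.{v₆} CW] [Abelian CW] [HasInjectiveResolutions CW]

variable (E E' : CZ ⥤ CT) [E.Additive] [E.PreservesInjectiveObjects]
  [E'.Additive] [E'.PreservesInjectiveObjects] (pc : E ≅ E')
  (G : CT ⥤ CS) [G.Additive] (J : CZ ⥤ CW) [J.Additive]
  (F F' : CW ⥤ CS) [F.Additive] [PreservesFiniteLimits F] [F'.Additive] [PreservesFiniteLimits F']
  (pc' : F ≅ F') (σ : E ⋙ G ≅ J ⋙ F) (σ' : E' ⋙ G ≅ J ⋙ F')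
  (hσ : ∀ M : CZ, σ'.hom.app M =
    G.map (pc.inv.app M) ≫ σ.hom.app M ≫ pc'.hom.app (J.obj M))
  (q : ℕ) {A : CT} {C C' : CZ} (θ : C' ⟶ C) (η : A ⟶ E.obj C) (η' : A ⟶ E'.obj C')
  (hη : η' ≫ E'.map θ = η ≫ pc.hom.app C)

include hσ hη in
theorem bcA_transport :
    bcA E' G J F' σ' q η' ≫ F'.map ((J.rightDerived q).map θ) =
      bcA E G J F σ q η ≫ pc'.hom.app ((J.rightDerived q).obj C) := by
  obtain ⟨u', hu'⟩ := exists_lift E' η'
  let θt : (injectiveResolution C').cocomplex ⟶ (injectiveResolution C).cocomplex :=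
    InjectiveResolution.desc θ _ _
  have hθt : (injectiveResolution C').ι.f 0 ≫ θt.f 0 = θ ≫ (injectiveResolution C).ι.f 0 :=
    InjectiveResolution.desc_commutes_zero _ _ _
  let u : (injectiveResolution A).cocomplex ⟶
      (E.mapHomologicalComplex _).obj (injectiveResolution C).cocomplex :=
    u' ≫ (E'.mapHomologicalComplex _).map θt ≫
      (NatTrans.mapHomologicalComplex pc.inv _).app (injectiveResolution C).cocomplex
  have hu : (injectiveResolution A).ι.f 0 ≫ u.f 0 =
      η ≫ E.map ((injectiveResolution C).ι.f 0) := by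
    have h1 : E'.map ((injectiveResolution C').ι.f 0) ≫ E'.map (θt.f 0) =
        E'.map θ ≫ E'.map ((injectiveResolution C).ι.f 0) :=
      (E'.map_comp _ _).symm.trans ((congrArg E'.map hθt).trans (E'.map_comp _ _))
    have h2 : E'.map ((injectiveResolution C).ι.f 0) ≫
        pc.inv.app ((injectiveResolution C).cocomplex.X 0) =
        pc.inv.app C ≫ E.map ((injectiveResolution C).ι.f 0) := pc.inv.naturality _
    have h3 : pc.hom.app C ≫ pc.inv.app C = 𝟙 _ := by simp
    exact aug_chase _ _ _ _ _ _ _ _ _ _ _ _ hu' h1 h2 hη h3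
  rw [bcA_eq E' G J F' σ' q η' u' hu', bcA_eq E G J F σ q η u hu]
  have n1 : ((injectiveResolution C').isoRightDerivedObj J q).inv ≫ (J.rightDerived q).map θ =
      (HomologicalComplex.homologyFunctor CW _ q).map ((J.mapHomologicalComplex _).map θt) ≫
        ((injectiveResolution C).isoRightDerivedObj J q).inv :=
    InjectiveResolution.isoRightDerivedObj_inv_naturality θ _ _ θt hθt J q
  have n2 : (HomologicalComplex.homologyFunctor CS _ q).map
        ((F'.mapHomologicalComplex _).map ((J.mapHomologicalComplex _).map θt)) ≫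
      RDer.homologyComparison F'
        ((J.mapHomologicalComplex _).obj (injectiveResolution C).cocomplex) q =
      RDer.homologyComparison F'
        ((J.mapHomologicalComplex _).obj (injectiveResolution C').cocomplex) q ≫
      F'.map ((HomologicalComplex.homologyFunctor CW _ q).map
        ((J.mapHomologicalComplex _).map θt)) :=
    homologyMap_homologyComparison F' ((J.mapHomologicalComplex _).map θt) q
  have n3 : (HomologicalComplex.homologyFunctor CS _ q).map
        ((G.mapHomologicalComplex _).map ((E'.mapHomologicalComplex _).map θt)) ≫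
      (HomologicalComplex.homologyFunctor CS _ q).map
        ((NatTrans.mapHomologicalComplex σ'.hom (ComplexShape.up ℕ)).app
          (injectiveResolution C).cocomplex) =
      (HomologicalComplex.homologyFunctor CS _ q).map
        ((NatTrans.mapHomologicalComplex σ'.hom (ComplexShape.up ℕ)).app
          (injectiveResolution C').cocomplex) ≫
      (HomologicalComplex.homologyFunctor CS _ q).map
        ((F'.mapHomologicalComplex _).map ((J.mapHomologicalComplex _).map θt)) := by
    rw [← Functor.map_comp, ← Functor.map_comp]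
    exact congrArg (HomologicalComplex.homologyFunctor CS _ q).map
      ((NatTrans.mapHomologicalComplex σ'.hom (ComplexShape.up ℕ)).naturality θt)
  have n4 : (HomologicalComplex.homologyFunctor CS _ q).map
        ((NatTrans.mapHomologicalComplex σ'.hom (ComplexShape.up ℕ)).app
          (injectiveResolution C).cocomplex) =
      (HomologicalComplex.homologyFunctor CS _ q).map ((G.mapHomologicalComplex _).map
        ((NatTrans.mapHomologicalComplex pc.inv _).app (injectiveResolution C).cocomplex)) ≫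
      (HomologicalComplex.homologyFunctor CS _ q).map
        ((NatTrans.mapHomologicalComplex σ.hom (ComplexShape.up ℕ)).app
          (injectiveResolution C).cocomplex) ≫
      (HomologicalComplex.homologyFunctor CS _ q).map
        ((NatTrans.mapHomologicalComplex pc'.hom (ComplexShape.up ℕ)).app
          ((J.mapHomologicalComplex _).obj (injectiveResolution C).cocomplex)) := by
    rw [← Functor.map_comp, ← Functor.map_comp]
    refine congrArg (HomologicalComplex.homologyFunctor CS _ q).map ?_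
    ext n
    exact hσ _
  have n5 : (HomologicalComplex.homologyFunctor CS _ q).map
        ((NatTrans.mapHomologicalComplex pc'.hom (ComplexShape.up ℕ)).app
          ((J.mapHomologicalComplex _).obj (injectiveResolution C).cocomplex)) ≫
      RDer.homologyComparison F'
        ((J.mapHomologicalComplex _).obj (injectiveResolution C).cocomplex) q =
      RDer.homologyComparison F
        ((J.mapHomologicalComplex _).obj (injectiveResolution C).cocomplex) q ≫
      pc'.hom.app (((J.mapHomologicalComplex _).obj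
        (injectiveResolution C).cocomplex).homology q) :=
    homologyMap_app_homologyComparison pc'.hom _ q
  have k6 : (HomologicalComplex.homologyFunctor CS _ q).map ((G.mapHomologicalComplex _).map u) =
      (HomologicalComplex.homologyFunctor CS _ q).map ((G.mapHomologicalComplex _).map u') ≫
      (HomologicalComplex.homologyFunctor CS _ q).map
        ((G.mapHomologicalComplex _).map ((E'.mapHomologicalComplex _).map θt)) ≫
      (HomologicalComplex.homologyFunctor CS _ q).map ((G.mapHomologicalComplex _).map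
        ((NatTrans.mapHomologicalComplex pc.inv _).app (injectiveResolution C).cocomplex)) := by
    rw [← Functor.map_comp, ← Functor.map_comp, ← Functor.map_comp, ← Functor.map_comp]
  rw [k6]
  exact chase2 F F' pc'.hom _ _ _ _ _ _ _ _ _ _ _ _ _ _ _ _ n1 n2 n3 n4 n5

end Transport

end Groth.Agent.Lib.Helper61.RDerBC
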