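import Groth.Agent.Lib.Helper61.FSAdicProj
import Mathlib.RingTheory.LocalRing.ResidueField.Basic
import Mathlib.RingTheory.LocalRing.RingHom.Basic

/-!
Adic formal smoothness (for the maximal-ideal topology of a local ring `S` over a local ring `R`)
can be tested on local test rings with nilpotent maximal ideal whose quotient by the square-zero
ideal is a quotient `S ⧸ 𝔫 ^ k` of `S`: the fibre-product reduction.
-/

set_option autoImplicit false
universe u

namespace Groth.Agent.Lib.Helper61.FSLocalTest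

open IsLocalRing Groth.Agent.Lib.Helper61.FSAdic

/-- A ring with a surjection onto a local ring with square-zero kernel is local; the surjection is
a local homomorphism. -/
theorem isLocalHom_of_ker_sq {A B : Type*} [CommRing A] [CommRing B] (f : A →+* B)
    (hf : Function.Surjective f) (hker : RingHom.ker f ^ 2 = ⊥) : IsLocalHom f := by
  constructor
  intro a ha
  obtain ⟨b', hb'⟩ := ha.exists_right_inv
  obtain ⟨b, rfl⟩ := hf b'
  have hj : 1 - a * b ∈ RingHom.ker f := by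
    rw [RingHom.mem_ker, map_sub, map_mul, hb', map_one, sub_self]
  have hj2 : (1 - a * b) * (1 - a * b) = 0 := by
    have : (1 - a * b) * (1 - a * b) ∈ RingHom.ker f ^ 2 := by
      rw [pow_two]
      exact Ideal.mul_mem_mul hj hj
    rwa [hker, Ideal.mem_bot] at this
  refine IsUnit.of_mul_eq_one (b * (1 + (1 - a * b))) ?_
  have : a * (b * (1 + (1 - a * b))) = 1 - (1 - a * b) * (1 - a * b) := by ring
  rw [this, hj2, sub_zero]

section reduction

variable {R S : Type u} [CommRing R] [CommRing S] [IsLocalRing R] [IsLocalRing S] [Algebra R S]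
  [IsLocalHom (algebraMap R S)]

/-- The fibre-product reduction. -/
theorem exists_lift_of_local_test
    (C : Type u) [CommRing C] [Algebra R C] (J : Ideal C) (hJ : J ^ 2 = ⊥)
    (u : S →ₐ[R] C ⧸ J) (k : ℕ) (hk : ∀ x ∈ maximalIdeal S ^ k, u x = 0)
    (H : ∀ (A : Type u) [CommRing A] [IsLocalRing A] [Algebra R A] [IsLocalHom (algebraMap R A)]
      (J' : Ideal A), J' ^ 2 = ⊥ → (∃ n : ℕ, maximalIdeal A ^ n = ⊥) →
      ∀ [IsLocalRing (A ⧸ J')] (ψ : S →ₐ[R] A ⧸ J') [IsLocalHom ψ.toRingHom],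
        Function.Surjective ψ → (∀ x ∈ maximalIdeal S ^ (k + 1), ψ x = 0) →
        Function.Bijective (ResidueField.map ψ.toRingHom) →
        ∃ χ : S →ₐ[R] A, (Ideal.Quotient.mkₐ R J').comp χ = ψ) :
    ∃ χ : S →ₐ[R] C, (Ideal.Quotient.mkₐ R J).comp χ = u := by
  classical
  -- the quotient `S ⧸ 𝔫 ^ (k+1)`
  set 𝔫k : Ideal S := maximalIdeal S ^ (k + 1) with h𝔫k
  have h𝔫k_le : 𝔫k ≤ maximalIdeal S := Ideal.pow_le_self (Nat.succ_ne_zero k)
  haveI : Nontrivial (S ⧸ 𝔫k) := Ideal.Quotient.nontrivial_iff.mpr (fun h => by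
    have : maximalIdeal S = ⊤ := top_le_iff.mp (h ▸ h𝔫k_le)
    exact (maximalIdeal.isMaximal S).ne_top this)
  haveI : IsLocalRing (S ⧸ 𝔫k) := IsLocalRing.of_surjective' _ Ideal.Quotient.mk_surjective
  have hk' : ∀ x ∈ 𝔫k, u.toRingHom x = 0 := fun x hx =>
    hk x (Ideal.pow_le_pow_right (Nat.le_succ k) hx)
  let ū : S ⧸ 𝔫k →+* C ⧸ J := Ideal.Quotient.lift 𝔫k u.toRingHom hk'
  have hū : ∀ s : S, ū (Ideal.Quotient.mk 𝔫k s) = u s := fun s => rfl
  let p : C →+* C ⧸ J := Ideal.Quotient.mk J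
  have hp : Function.Surjective p := Ideal.Quotient.mk_surjective
  have hkerp : RingHom.ker p ^ 2 = ⊥ := by
    rw [Ideal.mk_ker]
    exact hJ
  -- the fibre product
  let A := Pull p ū
  let π : A →+* S ⧸ 𝔫k := Pull.pr₂ p ū
  have hπ : Function.Surjective π := Pull.pr₂_surjective p ū hp
  have hkerπ : RingHom.ker π ^ 2 = ⊥ := Pull.ker_pr₂_sq p ū hkerp
  haveI hπloc : IsLocalHom π := isLocalHom_of_ker_sq π hπ hkerπ
  haveI : IsLocalRing A := π.domain_isLocalRing
  -- algebra structure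
  let ρ : R →+* A := Pull.lift p ū (algebraMap R C) (algebraMap R (S ⧸ 𝔫k)) (by
    ext r
    change p (algebraMap R C r) = ū (Ideal.Quotient.mk 𝔫k (algebraMap R S r))
    rw [hū, AlgHom.commutes]
    rfl)
  letI : Algebra R A := ρ.toAlgebra
  have hρ₁ : ∀ r, Pull.pr₁ p ū (algebraMap R A r) = algebraMap R C r := fun r => rfl
  have hρ₂ : ∀ r, π (algebraMap R A r) = algebraMap R (S ⧸ 𝔫k) r := fun r => rfl
  haveI hmkloc : IsLocalHom (Ideal.Quotient.mk 𝔫k) := by
    constructor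
    intro s hs
    by_contra hns
    have h1 : s ∈ maximalIdeal S := hns
    have h2 : Ideal.Quotient.mk 𝔫k s ∈ maximalIdeal (S ⧸ 𝔫k) := by
      rw [mem_maximalIdeal, mem_nonunits_iff]
      intro hu
      obtain ⟨t', ht'⟩ := hu.exists_right_inv
      obtain ⟨t, rfl⟩ := Ideal.Quotient.mk_surjective t'
      rw [← map_mul, ← map_one (Ideal.Quotient.mk 𝔫k), Ideal.Quotient.eq] at ht'
      have h3 : (1 : S) ∈ maximalIdeal S := by
        have h4 : (1 : S) = s * t - (s * t - 1) := by ring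
        rw [h4]
        exact Ideal.sub_mem _ (Ideal.mul_mem_right _ _ h1) (h𝔫k_le ht')
      exact (maximalIdeal.isMaximal S).ne_top ((Ideal.eq_top_iff_one _).mpr h3)
    exact h2 hs
  haveI : IsLocalHom (algebraMap R A) := by
    constructor
    intro r hr
    have h1 : IsUnit (π (algebraMap R A r)) := hr.map π
    rw [hρ₂] at h1
    have h2 : IsUnit (algebraMap R S r) := IsLocalHom.map_nonunit (f := Ideal.Quotient.mk 𝔫k) _ h1
    exact IsLocalHom.map_nonunit (f := algebraMap R S) _ h2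
  -- nilpotency
  have hnil : ∃ n : ℕ, maximalIdeal A ^ n = ⊥ := by
    refine ⟨(k + 1) * 2, ?_⟩
    have h1 : maximalIdeal A ≤ (maximalIdeal (S ⧸ 𝔫k)).comap π := by
      intro a ha
      rw [Ideal.mem_comap, mem_maximalIdeal, mem_nonunits_iff]
      intro hu
      exact ha (IsLocalHom.map_nonunit (f := π) a hu)
    have h2 : maximalIdeal (S ⧸ 𝔫k) ≤ (maximalIdeal S).map (Ideal.Quotient.mk 𝔫k) := by
      intro y hy
      obtain ⟨s, rfl⟩ := Ideal.Quotient.mk_surjective y
      apply Ideal.mem_map_of_mem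
      rw [mem_maximalIdeal, mem_nonunits_iff]
      intro hs
      exact hy (hs.map _)
    have h3 : maximalIdeal (S ⧸ 𝔫k) ^ (k + 1) = ⊥ := by
      rw [eq_bot_iff]
      calc maximalIdeal (S ⧸ 𝔫k) ^ (k + 1)
          ≤ ((maximalIdeal S).map (Ideal.Quotient.mk 𝔫k)) ^ (k + 1) := Ideal.pow_right_mono h2 _
        _ = ⊥ := by rw [← Ideal.map_pow, Ideal.map_quotient_self]
    have h4 : maximalIdeal A ^ (k + 1) ≤ RingHom.ker π := by
      calc maximalIdeal A ^ (k + 1)
          ≤ ((maximalIdeal (S ⧸ 𝔫k)).comap π) ^ (k + 1) := Ideal.pow_right_mono h1 _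
        _ ≤ (maximalIdeal (S ⧸ 𝔫k) ^ (k + 1)).comap π := Ideal.le_comap_pow π _
        _ = RingHom.ker π := by rw [h3, RingHom.ker_eq_comap_bot]
    rw [pow_mul, eq_bot_iff, ← hkerπ]
    exact Ideal.pow_right_mono h4 2
  -- the test homomorphism
  let e : (A ⧸ RingHom.ker π) ≃+* (S ⧸ 𝔫k) := RingHom.quotientKerEquivOfSurjective hπ
  have he : ∀ a : A, e (Ideal.Quotient.mk _ a) = π a := fun a =>
    RingHom.quotientKerEquivOfSurjective_apply_mk hπ a
  haveI : Nontrivial (A ⧸ RingHom.ker π) := e.toEquiv.nontrivial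
  haveI : IsLocalRing (A ⧸ RingHom.ker π) :=
    IsLocalRing.of_surjective' _ Ideal.Quotient.mk_surjective
  let ψ₀ : S →+* A ⧸ RingHom.ker π := (e.symm : (S ⧸ 𝔫k) →+* A ⧸ RingHom.ker π).comp
    (Ideal.Quotient.mk 𝔫k)
  have heψ : ∀ s : S, e (ψ₀ s) = Ideal.Quotient.mk 𝔫k s := fun s => e.apply_symm_apply _
  let ψ : S →ₐ[R] A ⧸ RingHom.ker π :=
    { ψ₀ with
      commutes' := fun r => by
        apply e.injective
        change e (ψ₀ (algebraMap R S r)) = e (Ideal.Quotient.mk _ (algebraMap R A r))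
        rw [heψ, he, hρ₂]
        rfl }
  have hψ₀ : ∀ s, ψ s = ψ₀ s := fun s => rfl
  have hψsurj : Function.Surjective ψ := by
    intro y
    obtain ⟨s, hs⟩ := Ideal.Quotient.mk_surjective (e y)
    refine ⟨s, e.injective ?_⟩
    rw [hψ₀, heψ, hs]
  haveI : IsLocalHom ψ.toRingHom := by
    constructor
    intro s hs
    have h1 : IsUnit (e (ψ₀ s)) := (hs.map e)
    rw [heψ] at h1
    exact IsLocalHom.map_nonunit (f := Ideal.Quotient.mk 𝔫k) _ h1
  have hψkill : ∀ x ∈ maximalIdeal S ^ (k + 1), ψ x = 0 := by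
    intro x hx
    apply e.injective
    rw [hψ₀, heψ, map_zero, Ideal.Quotient.eq_zero_iff_mem]
    exact hx
  have hψres : Function.Bijective (ResidueField.map ψ.toRingHom) := by
    refine ⟨(ResidueField.map ψ.toRingHom).injective, ?_⟩
    intro y
    obtain ⟨a, rfl⟩ := residue_surjective y
    obtain ⟨s, rfl⟩ := hψsurj a
    exact ⟨residue S s, ResidueField.map_residue _ _⟩
  obtain ⟨χ, hχ⟩ := H A (RingHom.ker π) hkerπ hnil ψ hψsurj hψkill hψres
  have hχπ : ∀ s, π (χ s) = Ideal.Quotient.mk 𝔫k s := by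
    intro s
    have h1 : Ideal.Quotient.mk (RingHom.ker π) (χ s) = ψ s := DFunLike.congr_fun hχ s
    rw [← he, h1, hψ₀, heψ]
  let v : S →ₐ[R] C :=
    { (Pull.pr₁ p ū).comp χ.toRingHom with
      commutes' := fun r => by
        change Pull.pr₁ p ū (χ (algebraMap R S r)) = _
        rw [χ.commutes, hρ₁] }
  refine ⟨v, AlgHom.ext fun s => ?_⟩
  change p (Pull.pr₁ p ū (χ s)) = u s
  rw [Pull.comm]
  change ū (π (χ s)) = u s
  rw [hχπ, hū]

end reduction

end Groth.Agent.Lib.Helper61.FSLocalTest
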