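import Groth.Prelude.Def_CAlgX
import Mathlib.RingTheory.AdicCompletion.Completeness
import Mathlib.RingTheory.AdicCompletion.Algebra
import Mathlib.Tactic

/-!
Adic formal smoothness (discrete base) and completion of the algebra.
-/

set_option autoImplicit false
universe u

namespace Groth.Agent.Lib.Helper61.FSCompl

open AdicCompletion

section general

variable {S : Type u} [CommRing S] (𝔫 : Ideal S)

/-- `evalₐ` kills the extension of `𝔫 ^ k`. -/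
theorem evalₐ_eq_zero_of_mem {k : ℕ} {x : AdicCompletion 𝔫 S}
    (hx : x ∈ (𝔫 ^ k).map (algebraMap S (AdicCompletion 𝔫 S))) : evalₐ 𝔫 k x = 0 := by
  have h1 : (𝔫 ^ k).map (algebraMap S (AdicCompletion 𝔫 S)) ≤
      RingHom.ker (evalₐ 𝔫 k : AdicCompletion 𝔫 S →+* S ⧸ 𝔫 ^ k) := by
    rw [Ideal.map_le_iff_le_comap]
    intro s hs
    rw [Ideal.mem_comap, RingHom.mem_ker]
    change evalₐ 𝔫 k (of 𝔫 S s) = 0
    rw [evalₐ_of, Ideal.Quotient.eq_zero_iff_mem]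
    exact hs
  exact h1 hx

/-- For a finitely generated ideal the kernel of `evalₐ` is the extension of `𝔫 ^ k`. -/
theorem mem_map_of_evalₐ_eq_zero (h𝔫 : 𝔫.FG) {k : ℕ} {x : AdicCompletion 𝔫 S}
    (hx : evalₐ 𝔫 k x = 0) : x ∈ (𝔫 ^ k).map (algebraMap S (AdicCompletion 𝔫 S)) := by
  have hle : 𝔫 ^ k ≤ 𝔫 ^ k • (⊤ : Ideal S) := by
    rw [smul_eq_mul, Ideal.mul_top]
  have h1 : eval 𝔫 S k x = 0 := by
    rw [← factor_evalₐ_eq_eval 𝔫 x hle, hx, _root_.map_zero]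
  have h2 : x ∈ (𝔫 ^ k • ⊤ : Submodule S (AdicCompletion 𝔫 S)) := by
    rw [pow_smul_top_eq_ker_eval h𝔫]
    exact h1
  rw [Ideal.smul_top_eq_map] at h2
  exact h2

theorem exists_of_sub_mem (h𝔫 : 𝔫.FG) (k : ℕ) (x : AdicCompletion 𝔫 S) :
    ∃ s : S, evalₐ 𝔫 k x = Ideal.Quotient.mk (𝔫 ^ k) s ∧
      x - algebraMap S (AdicCompletion 𝔫 S) s ∈
        (𝔫 ^ k).map (algebraMap S (AdicCompletion 𝔫 S)) := by
  obtain ⟨s, hs⟩ := Ideal.Quotient.mk_surjective (evalₐ 𝔫 k x)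
  refine ⟨s, hs.symm, mem_map_of_evalₐ_eq_zero 𝔫 h𝔫 ?_⟩
  rw [map_sub]
  change evalₐ 𝔫 k x - evalₐ 𝔫 k (of 𝔫 S s) = 0
  rw [evalₐ_of, hs, sub_self]

end general

section smooth

variable {R S : Type u} [CommRing R] [CommRing S] [Algebra R S] (𝔫 : Ideal S)

theorem of_completion
    (h : CAlgX.IsAdicFormallySmooth R (AdicCompletion 𝔫 S)
      (𝔫.map (algebraMap S (AdicCompletion 𝔫 S)))) :
    CAlgX.IsAdicFormallySmooth R S 𝔫 := by
  intro A _ _ J hJ ψ hψ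
  obtain ⟨k, hk⟩ := hψ
  let ψbar : S ⧸ 𝔫 ^ k →ₐ[R] A ⧸ J := Ideal.Quotient.liftₐ (𝔫 ^ k) ψ hk
  let ψhat : AdicCompletion 𝔫 S →ₐ[R] A ⧸ J := ψbar.comp ((evalₐ 𝔫 k).restrictScalars R)
  have hψhat : ∀ x, ψhat x = ψbar (evalₐ 𝔫 k x) := fun x => rfl
  obtain ⟨χhat, hχ⟩ := h A J hJ ψhat ⟨k, fun x hx => by
    rw [← Ideal.map_pow] at hx
    rw [hψhat, evalₐ_eq_zero_of_mem 𝔫 hx, _root_.map_zero]⟩
  refine ⟨χhat.comp (IsScalarTower.toAlgHom R S (AdicCompletion 𝔫 S)), AlgHom.ext fun s => ?_⟩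
  have h1 := DFunLike.congr_fun hχ (algebraMap S (AdicCompletion 𝔫 S) s)
  simp only [AlgHom.comp_apply] at h1 ⊢
  rw [IsScalarTower.coe_toAlgHom', h1, hψhat]
  change ψbar (evalₐ 𝔫 k (of 𝔫 S s)) = ψ s
  rw [evalₐ_of]
  rfl

theorem to_completion (h𝔫 : 𝔫.FG) (h : CAlgX.IsAdicFormallySmooth R S 𝔫) :
    CAlgX.IsAdicFormallySmooth R (AdicCompletion 𝔫 S)
      (𝔫.map (algebraMap S (AdicCompletion 𝔫 S))) := by
  intro A _ _ J hJ ψhat hψ
  obtain ⟨k, hk⟩ := hψ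
  let ι : S →ₐ[R] AdicCompletion 𝔫 S := IsScalarTower.toAlgHom R S (AdicCompletion 𝔫 S)
  have hι : ∀ s, ι s = algebraMap S (AdicCompletion 𝔫 S) s := fun s => rfl
  let ψ : S →ₐ[R] A ⧸ J := ψhat.comp ι
  have hψk : ∀ x ∈ 𝔫 ^ k, ψ x = 0 := by
    intro x hx
    apply hk
    rw [← Ideal.map_pow]
    exact Ideal.mem_map_of_mem _ hx
  obtain ⟨χ, hχ⟩ := h A J hJ ψ ⟨k, hψk⟩
  have hχJ : ∀ x ∈ 𝔫 ^ k, χ x ∈ J := by
    intro x hx
    rw [← Ideal.Quotient.eq_zero_iff_mem]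
    have := DFunLike.congr_fun hχ x
    simp only [AlgHom.comp_apply] at this
    exact this.trans (hψk x hx)
  have hχ2k : ∀ x ∈ 𝔫 ^ (2 * k), χ x = 0 := by
    intro x hx
    have h1 : (𝔫 ^ (2 * k)).map (χ : S →+* A) ≤ ⊥ := by
      rw [two_mul, pow_add, Ideal.map_mul, ← hJ, pow_two]
      have h2 : (𝔫 ^ k).map (χ : S →+* A) ≤ J := by
        rw [Ideal.map_le_iff_le_comap]
        intro y hy
        exact hχJ y hy
      exact Ideal.mul_mono h2 h2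
    exact Ideal.mem_bot.mp (h1 (Ideal.mem_map_of_mem _ hx))
  let χbar : S ⧸ 𝔫 ^ (2 * k) →ₐ[R] A := Ideal.Quotient.liftₐ (𝔫 ^ (2 * k)) χ hχ2k
  let χhat : AdicCompletion 𝔫 S →ₐ[R] A := χbar.comp ((evalₐ 𝔫 (2 * k)).restrictScalars R)
  have hχhat : ∀ x, χhat x = χbar (evalₐ 𝔫 (2 * k) x) := fun x => rfl
  refine ⟨χhat, AlgHom.ext fun x => ?_⟩
  obtain ⟨s, hs1, hs2⟩ := exists_of_sub_mem 𝔫 h𝔫 (2 * k) x
  have h3 : ψhat (x - algebraMap S (AdicCompletion 𝔫 S) s) = 0 := by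
    apply hk
    rw [← Ideal.map_pow]
    exact Ideal.map_mono (Ideal.pow_le_pow_right (by omega)) hs2
  rw [map_sub, sub_eq_zero] at h3
  simp only [AlgHom.comp_apply]
  rw [hχhat, hs1, h3]
  have h4 := DFunLike.congr_fun hχ s
  simp only [AlgHom.comp_apply] at h4
  exact h4

end smooth

section base

variable {R R' T : Type u} [CommRing R] [CommRing R'] [CommRing T] [Algebra R R'] [Algebra R' T]
  [Algebra R T] [IsScalarTower R R' T] (𝔪 : Ideal R) (𝔱 : Ideal T)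

/-- Two ring homomorphisms out of `R'` that agree on `R` and kill the image of `𝔪 ^ N` are
equal, when `R → R' / 𝔪 ^ N R'` is surjective. -/
theorem ringHom_ext_of_dense {A : Type u} [CommRing A] {N : ℕ}
    (hsurj : ∀ x : R', ∃ r : R, x - algebraMap R R' r ∈ (𝔪 ^ N).map (algebraMap R R'))
    (f g : R' →+* A) (hfg : ∀ r : R, f (algebraMap R R' r) = g (algebraMap R R' r))
    (hf : ∀ m ∈ 𝔪 ^ N, f (algebraMap R R' m) = 0) (hg : ∀ m ∈ 𝔪 ^ N, g (algebraMap R R' m) = 0) :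
    f = g := by
  have hkf : (𝔪 ^ N).map (algebraMap R R') ≤ RingHom.ker f := by
    rw [Ideal.map_le_iff_le_comap]
    intro m hm
    exact hf m hm
  have hkg : (𝔪 ^ N).map (algebraMap R R') ≤ RingHom.ker g := by
    rw [Ideal.map_le_iff_le_comap]
    intro m hm
    exact hg m hm
  refine RingHom.ext fun x => ?_
  obtain ⟨r, hr⟩ := hsurj x
  have h1 : f (x - algebraMap R R' r) = 0 := hkf hr
  have h2 : g (x - algebraMap R R' r) = 0 := hkg hr
  rw [map_sub, sub_eq_zero] at h1 h2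
  rw [h1, h2, hfg]

variable (hsurj : ∀ (N : ℕ) (x : R'), ∃ r : R,
    x - algebraMap R R' r ∈ (𝔪 ^ N).map (algebraMap R R'))
  (hc : ∃ c : ℕ, (𝔪 ^ c).map (algebraMap R T) ≤ 𝔱)

include hsurj hc in
theorem change_base_up (h : CAlgX.IsAdicFormallySmooth R T 𝔱) :
    CAlgX.IsAdicFormallySmooth R' T 𝔱 := by
  intro A _ _ J hJ φ hφ
  obtain ⟨k, hk⟩ := hφ
  obtain ⟨c, hc⟩ := hc
  letI : Algebra R A := ((algebraMap R' A).comp (algebraMap R R')).toAlgebra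
  haveI : IsScalarTower R R' A := IsScalarTower.of_algebraMap_eq (fun _ => rfl)
  let φR : T →ₐ[R] A ⧸ J := φ.restrictScalars R
  obtain ⟨v, hv⟩ := h A J hJ φR ⟨k, hk⟩
  have hvφ : ∀ t, Ideal.Quotient.mk J (v t) = φ t := fun t => DFunLike.congr_fun hv t
  have hvJ : ∀ t ∈ 𝔱 ^ k, v t ∈ J := by
    intro t ht
    rw [← Ideal.Quotient.eq_zero_iff_mem, hvφ]
    exact hk t ht
  have hv2k : ∀ t ∈ 𝔱 ^ (2 * k), v t = 0 := by
    intro t ht
    have h1 : (𝔱 ^ (2 * k)).map (v : T →+* A) ≤ ⊥ := by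
      rw [two_mul, pow_add, Ideal.map_mul, ← hJ, pow_two]
      have h2 : (𝔱 ^ k).map (v : T →+* A) ≤ J := by
        rw [Ideal.map_le_iff_le_comap]
        intro y hy
        exact hvJ y hy
      exact Ideal.mul_mono h2 h2
    exact Ideal.mem_bot.mp (h1 (Ideal.mem_map_of_mem _ ht))
  have hmT : ∀ m ∈ 𝔪 ^ (c * (2 * k)), algebraMap R T m ∈ 𝔱 ^ (2 * k) := by
    intro m hm
    have h1 : (𝔪 ^ (c * (2 * k))).map (algebraMap R T) ≤ 𝔱 ^ (2 * k) := by
      rw [pow_mul, Ideal.map_pow]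
      exact Ideal.pow_right_mono hc _
    exact h1 (Ideal.mem_map_of_mem _ hm)
  have key : (v : T →+* A).comp (algebraMap R' T) = algebraMap R' A := by
    refine ringHom_ext_of_dense 𝔪 (hsurj (c * (2 * k))) _ _ ?_ ?_ ?_
    · intro r
      rw [RingHom.comp_apply, ← IsScalarTower.algebraMap_apply R R' T, RingHom.coe_coe,
        v.commutes]
      rfl
    · intro m hm
      rw [RingHom.comp_apply, ← IsScalarTower.algebraMap_apply R R' T]
      exact hv2k _ (hmT m hm)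
    · intro m hm
      have h1 : algebraMap R' A (algebraMap R R' m) = algebraMap R A m := rfl
      rw [h1, ← v.commutes]
      exact hv2k _ (hmT m hm)
  refine ⟨{ (v : T →+* A) with commutes' := fun r => DFunLike.congr_fun key r },
    AlgHom.ext fun t => hvφ t⟩

include hsurj hc in
theorem change_base_down
    (hext : ∀ (A : Type u) [CommRing A] (N : ℕ) (f : R →+* A), (∀ m ∈ 𝔪 ^ N, f m = 0) →
      ∃ g : R' →+* A, g.comp (algebraMap R R') = f)
    (h : CAlgX.IsAdicFormallySmooth R' T 𝔱) :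
    CAlgX.IsAdicFormallySmooth R T 𝔱 := by
  intro A _ _ J hJ φ hφ
  obtain ⟨k, hk⟩ := hφ
  obtain ⟨c, hc⟩ := hc
  have hmTk : ∀ m ∈ 𝔪 ^ (c * k), algebraMap R T m ∈ 𝔱 ^ k := by
    intro m hm
    have h1 : (𝔪 ^ (c * k)).map (algebraMap R T) ≤ 𝔱 ^ k := by
      rw [pow_mul, Ideal.map_pow]
      exact Ideal.pow_right_mono hc _
    exact h1 (Ideal.mem_map_of_mem _ hm)
  have hAJ : ∀ m ∈ 𝔪 ^ (c * k), algebraMap R A m ∈ J := by
    intro m hm
    rw [← Ideal.Quotient.eq_zero_iff_mem]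
    have h1 : Ideal.Quotient.mk J (algebraMap R A m) = algebraMap R (A ⧸ J) m := rfl
    rw [h1, ← φ.commutes]
    exact hk _ (hmTk m hm)
  have hA0 : ∀ m ∈ 𝔪 ^ (c * k * 2), algebraMap R A m = 0 := by
    intro m hm
    have h1 : (𝔪 ^ (c * k * 2)).map (algebraMap R A) ≤ ⊥ := by
      rw [pow_mul, Ideal.map_pow, ← hJ]
      refine Ideal.pow_right_mono ?_ 2
      rw [Ideal.map_le_iff_le_comap]
      intro y hy
      exact hAJ y hy
    exact Ideal.mem_bot.mp (h1 (Ideal.mem_map_of_mem _ hm))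
  obtain ⟨σ, hσ⟩ := hext A (c * k * 2) (algebraMap R A) hA0
  have hσr : ∀ r, σ (algebraMap R R' r) = algebraMap R A r := fun r => DFunLike.congr_fun hσ r
  letI : Algebra R' A := σ.toAlgebra
  haveI : IsScalarTower R R' A := IsScalarTower.of_algebraMap_eq (fun r => (hσr r).symm)
  have key : (φ : T →+* A ⧸ J).comp (algebraMap R' T) = (Ideal.Quotient.mk J).comp σ := by
    refine ringHom_ext_of_dense 𝔪 (hsurj (c * k * 2)) _ _ ?_ ?_ ?_
    · intro r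
      rw [RingHom.comp_apply, RingHom.comp_apply, ← IsScalarTower.algebraMap_apply R R' T,
        RingHom.coe_coe, φ.commutes, hσr]
      rfl
    · intro m hm
      rw [RingHom.comp_apply, ← IsScalarTower.algebraMap_apply R R' T]
      apply hk
      have h1 : 𝔪 ^ (c * k * 2) ≤ 𝔪 ^ (c * k) := Ideal.pow_le_pow_right (by omega)
      exact hmTk m (h1 hm)
    · intro m hm
      rw [RingHom.comp_apply, hσr, hA0 m hm, _root_.map_zero]
  let φ' : T →ₐ[R'] A ⧸ J :=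
    { (φ : T →+* A ⧸ J) with commutes' := fun r => DFunLike.congr_fun key r }
  obtain ⟨v, hv⟩ := h A J hJ φ' ⟨k, hk⟩
  refine ⟨v.restrictScalars R, AlgHom.ext fun t => ?_⟩
  exact DFunLike.congr_fun hv t

end base

end Groth.Agent.Lib.Helper61.FSCompl
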