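import Groth.Agent.Lib.Helper61.FSAdic
import Mathlib.RingTheory.TensorProduct.Basic

/-!
Base change of adic formal smoothness (unbundled form).
-/

set_option autoImplicit false
universe u

namespace Groth.Agent.Lib.Helper61.FSAdic

open TensorProduct

theorem lifts_baseChange {A B A' : Type u} [CommRing A] [CommRing B] [CommRing A']
    [Algebra A B] [Algebra A A'] (𝔞 : Ideal A) (𝔟 : Ideal B) (𝔞' : Ideal A')
    (hAA' : ∃ k : ℕ, (𝔞 ^ k).map (algebraMap A A') ≤ 𝔞')
    (hB : Lifts 𝔞 (algebraMap A B) 𝔟) :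
    Lifts 𝔞' (algebraMap A' (A' ⊗[A] B))
      (𝔞'.map (algebraMap A' (A' ⊗[A] B)) ⊔
        𝔟.map (Algebra.TensorProduct.includeRight : B →ₐ[A] A' ⊗[A] B).toRingHom) := by
  intro D _ J hJ φ' hφ' u hu hcont
  obtain ⟨m, hm⟩ := hAA'
  obtain ⟨k, hk⟩ := hφ'
  obtain ⟨l, hl⟩ := hcont
  let incl : B →+* A' ⊗[A] B :=
    (Algebra.TensorProduct.includeRight : B →ₐ[A] A' ⊗[A] B).toRingHom
  have hφ : (𝔞 ^ (m * k)).map (φ'.comp (algebraMap A A')) = ⊥ := by
    rw [eq_bot_iff, ← hk, ← Ideal.map_map]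
    apply Ideal.map_mono
    rw [pow_mul, Ideal.map_pow]
    exact Ideal.pow_right_mono hm k
  have hcompat : (u.comp incl).comp (algebraMap A B) =
      (Ideal.Quotient.mk J).comp (φ'.comp (algebraMap A A')) := by
    ext a
    have h1 : incl (algebraMap A B a) = algebraMap A' (A' ⊗[A] B) (algebraMap A A' a) := by
      change (1 : A') ⊗ₜ[A] (algebraMap A B a) = (algebraMap A A' a) ⊗ₜ[A] (1 : B)
      rw [Algebra.algebraMap_eq_smul_one, Algebra.algebraMap_eq_smul_one, TensorProduct.smul_tmul]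
    have h2 := DFunLike.congr_fun hu (algebraMap A A' a)
    simp only [RingHom.comp_apply] at h2 ⊢
    rw [h1, h2]
  obtain ⟨vB, hvB1, hvB2⟩ := hB D J hJ (φ'.comp (algebraMap A A')) ⟨m * k, hφ⟩ (u.comp incl)
    hcompat ⟨l, fun x hx => by
      apply hl
      have : incl x ∈ (𝔟.map incl) ^ l := by
        rw [← Ideal.map_pow]
        exact Ideal.mem_map_of_mem _ hx
      exact Ideal.pow_right_mono le_sup_right l this⟩
  let _ : Algebra A' D := φ'.toAlgebra
  let _ : Algebra A D := (φ'.comp (algebraMap A A')).toAlgebra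
  have : IsScalarTower A A' D := IsScalarTower.of_algebraMap_eq (fun _ => rfl)
  let vB' : B →ₐ[A] D := { vB with commutes' := fun a => DFunLike.congr_fun hvB1 a }
  let w : A' ⊗[A] B →ₐ[A'] D :=
    Algebra.TensorProduct.lift (Algebra.ofId A' D) vB' (fun _ _ => Commute.all _ _)
  refine ⟨w.toRingHom, ?_, ?_⟩
  · ext a'
    exact w.commutes a'
  · refine RingHom.ext fun x => ?_
    induction x using TensorProduct.induction_on with
    | zero => simp
    | tmul a' b =>
      have h1 : w (a' ⊗ₜ[A] b) = φ' a' * vB b := by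
        simp only [w, Algebra.TensorProduct.lift_tmul]
        rfl
      have h2 : a' ⊗ₜ[A] b = algebraMap A' (A' ⊗[A] B) a' * incl b := by
        change a' ⊗ₜ[A] b = (a' ⊗ₜ[A] (1 : B)) * ((1 : A') ⊗ₜ[A] b)
        rw [Algebra.TensorProduct.tmul_mul_tmul, mul_one, one_mul]
      have h3 := DFunLike.congr_fun hu a'
      have h4 := DFunLike.congr_fun hvB2 b
      simp only [RingHom.comp_apply] at h3 h4 ⊢
      change Ideal.Quotient.mk J (w (a' ⊗ₜ[A] b)) = u (a' ⊗ₜ[A] b)
      rw [h1, map_mul, h4, h2, map_mul, h3]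
    | add x y hx hy =>
      simp only [RingHom.comp_apply, map_add] at hx hy ⊢
      rw [hx, hy]

end Groth.Agent.Lib.Helper61.FSAdic
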