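import Groth.Prelude.Def_EGA41
import Groth.Prelude.Def_CAlgX
import Mathlib.RingTheory.Ideal.Quotient.Nilpotent
import Mathlib.RingTheory.Ideal.Quotient.Operations
import Mathlib.Tactic

/-!
Unbundled (ring-homomorphism level) form of adic formal smoothness, and the reduction of
nilpotent test ideals to square-zero test ideals.
-/

set_option autoImplicit false
universe u

namespace Groth.Agent.Lib.Helper61.FSAdic

variable {A B : Type u} [CommRing A] [CommRing B]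

/-- Unbundled lifting property with a condition `Q` on the test ideal. -/
def LiftsQ (Q : ∀ (C : Type u) [CommRing C], Ideal C → Prop)
    (𝔞 : Ideal A) (f : A →+* B) (𝔟 : Ideal B) : Prop :=
  ∀ (C : Type u) [CommRing C] (J : Ideal C), Q C J → ∀ φ : A →+* C,
    (∃ k : ℕ, (𝔞 ^ k).map φ = ⊥) → ∀ u : B →+* C ⧸ J, u.comp f = (Ideal.Quotient.mk J).comp φ →
      (∃ k : ℕ, ∀ x ∈ 𝔟 ^ k, u x = 0) →
        ∃ v : B →+* C, v.comp f = φ ∧ (Ideal.Quotient.mk J).comp v = u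

/-- The nilpotent-test-ideal version. -/
abbrev Lifts (𝔞 : Ideal A) (f : A →+* B) (𝔟 : Ideal B) : Prop :=
  LiftsQ (fun C _ J => IsNilpotent J) 𝔞 f 𝔟

/-- The square-zero-test-ideal version. -/
abbrev LiftsSq (𝔞 : Ideal A) (f : A →+* B) (𝔟 : Ideal B) : Prop :=
  LiftsQ (fun C _ J => J ^ 2 = ⊥) 𝔞 f 𝔟

theorem ega_iff [Algebra A B] (𝔞 : Ideal A) (𝔟 : Ideal B) :
    EGA41.IsFormallySmoothAdic A 𝔞 B 𝔟 ↔ Lifts 𝔞 (algebraMap A B) 𝔟 := by
  constructor
  · intro h C _ J hJ φ hφ u hu hcont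
    let _ : Algebra A C := φ.toAlgebra
    let u' : B →ₐ[A] C ⧸ J :=
      { u with commutes' := fun a => DFunLike.congr_fun hu a }
    obtain ⟨v, hv⟩ := h C J hJ hφ u' hcont
    refine ⟨v.toRingHom, ?_, ?_⟩
    · ext a; exact v.commutes a
    · ext b
      have := congrArg (fun g => g b) hv
      exact this
  · intro h C _ _ J hJ hφ u hcont
    obtain ⟨v, hv1, hv2⟩ := h C J hJ (algebraMap A C) hφ u.toRingHom (by
      ext a
      exact u.commutes a) hcont
    refine ⟨{ v with commutes' := fun a => congrArg (fun g => g a) hv1 }, ?_⟩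
    ext b
    exact congrArg (fun g => g b) hv2

theorem calgx_iff [Algebra A B] (𝔫 : Ideal B) :
    CAlgX.IsAdicFormallySmooth A B 𝔫 ↔ LiftsSq (⊥ : Ideal A) (algebraMap A B) 𝔫 := by
  constructor
  · intro h C _ J hJ φ _ u hu hcont
    let _ : Algebra A C := φ.toAlgebra
    let u' : B →ₐ[A] C ⧸ J :=
      { u with commutes' := fun a => DFunLike.congr_fun hu a }
    obtain ⟨v, hv⟩ := h C J hJ u' hcont
    refine ⟨v.toRingHom, ?_, ?_⟩
    · ext a; exact v.commutes a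
    · ext b
      have := congrArg (fun g => g b) hv
      exact this
  · intro h C _ _ J hJ u hcont
    obtain ⟨v, hv1, hv2⟩ := h C J hJ (algebraMap A C) ⟨1, by simp⟩ u.toRingHom (by
      ext a
      exact u.commutes a) hcont
    refine ⟨{ v with commutes' := fun a => congrArg (fun g => g a) hv1 }, ?_⟩
    ext b
    exact congrArg (fun g => g b) hv2

theorem liftsSq_of_lifts {𝔞 : Ideal A} {f : A →+* B} {𝔟 : Ideal B} (h : Lifts 𝔞 f 𝔟) :
    LiftsSq 𝔞 f 𝔟 := fun C _ J hJ => h C J ⟨2, hJ⟩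

/-- If `u` kills `𝔟 ^ k` modulo a nilpotent ideal then a lift of it kills a power of `𝔟`. -/
theorem exists_pow_map_eq_bot {C : Type u} [CommRing C] {J : Ideal C} (hJ : IsNilpotent J)
    {𝔟 : Ideal B} (v : B →+* C) {k : ℕ}
    (hk : ∀ x ∈ 𝔟 ^ k, Ideal.Quotient.mk J (v x) = 0) : ∃ m : ℕ, (𝔟 ^ m).map v = ⊥ := by
  obtain ⟨n, hn⟩ := hJ
  rw [Ideal.zero_eq_bot] at hn
  refine ⟨k * n, ?_⟩
  have h1 : (𝔟 ^ k).map v ≤ J := by
    rw [Ideal.map_le_iff_le_comap]
    intro x hx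
    rw [Ideal.mem_comap]
    exact Ideal.Quotient.eq_zero_iff_mem.mp (hk x hx)
  rw [pow_mul, Ideal.map_pow, eq_bot_iff]
  calc (Ideal.map v (𝔟 ^ k)) ^ n ≤ J ^ n := Ideal.pow_right_mono h1 n
    _ = ⊥ := hn

theorem lifts_of_liftsSq {𝔞 : Ideal A} {f : A →+* B} {𝔟 : Ideal B} (h : LiftsSq 𝔞 f 𝔟) :
    Lifts 𝔞 f 𝔟 := by
  intro C _ J hJ
  have key : ∀ ⦃S : Type u⦄ [CommRing S] (I : Ideal S), IsNilpotent I →
      ∀ φ : A →+* S, (∃ k : ℕ, (𝔞 ^ k).map φ = ⊥) → ∀ u : B →+* S ⧸ I,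
        u.comp f = (Ideal.Quotient.mk I).comp φ → (∃ k : ℕ, ∀ x ∈ 𝔟 ^ k, u x = 0) →
          ∃ v : B →+* S, v.comp f = φ ∧ (Ideal.Quotient.mk I).comp v = u := by
    intro S _ I hI
    refine Ideal.IsNilpotent.induction_on (S := S) I hI
      (P := fun S _ I => IsNilpotent I →
        ∀ φ : A →+* S, (∃ k : ℕ, (𝔞 ^ k).map φ = ⊥) → ∀ u : B →+* S ⧸ I,
        u.comp f = (Ideal.Quotient.mk I).comp φ → (∃ k : ℕ, ∀ x ∈ 𝔟 ^ k, u x = 0) →
          ∃ v : B →+* S, v.comp f = φ ∧ (Ideal.Quotient.mk I).comp v = u) ?_ ?_ hI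
    · intro S _ I hI2 _
      exact h S I hI2
    · intro S _ I J hIJ h₁ h₂ hJnil φ hφ u hu hcont
      have hInil : IsNilpotent I := by
        obtain ⟨n, hn⟩ := hJnil
        rw [Ideal.zero_eq_bot] at hn
        exact ⟨n, eq_bot_iff.mpr (hn ▸ Ideal.pow_right_mono hIJ n)⟩
      have hJ'nil : IsNilpotent (J.map (Ideal.Quotient.mk I)) := by
        obtain ⟨n, hn⟩ := hJnil
        rw [Ideal.zero_eq_bot] at hn
        refine ⟨n, ?_⟩
        rw [← Ideal.map_pow, hn, Ideal.map_bot]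
        rfl
      let e := DoubleQuot.quotQuotEquivQuotOfLE hIJ
      obtain ⟨k, hk⟩ := hcont
      obtain ⟨v', hv'1, hv'2⟩ := h₂ hJ'nil ((Ideal.Quotient.mk I).comp φ)
        (by
          obtain ⟨k, hk⟩ := hφ
          refine ⟨k, ?_⟩
          rw [← Ideal.map_map, hk, Ideal.map_bot])
        ((e.symm : S ⧸ J →+* _).comp u)
        (by
          rw [RingHom.comp_assoc, hu, ← RingHom.comp_assoc,
            DoubleQuot.quotQuotEquivQuotOfLE_symm_comp_mk]
          rfl)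
        ⟨k, fun x hx => by simp [hk x hx]⟩
      obtain ⟨m, hm⟩ := exists_pow_map_eq_bot hJ'nil v' (k := k) (fun x hx => by
        have := congrArg (fun g => g x) hv'2
        simp only [RingHom.comp_apply] at this
        rw [this, hk x hx, map_zero])
      obtain ⟨v, hv1, hv2⟩ := h₁ hInil φ hφ v' hv'1
        ⟨m, fun x hx => by
          have : v' x ∈ (𝔟 ^ m).map v' := Ideal.mem_map_of_mem _ hx
          rw [hm] at this
          exact this⟩
      refine ⟨v, hv1, ?_⟩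
      have hmk : (Ideal.Quotient.mk J) = (e : _ →+* S ⧸ J).comp
          ((Ideal.Quotient.mk (J.map (Ideal.Quotient.mk I))).comp (Ideal.Quotient.mk I)) := by
        ext x; rfl
      rw [hmk, RingHom.comp_assoc, RingHom.comp_assoc, hv2, hv'2]
      ext x
      simp
  exact key J hJ

theorem lifts_iff_liftsSq {𝔞 : Ideal A} {f : A →+* B} {𝔟 : Ideal B} :
    Lifts 𝔞 f 𝔟 ↔ LiftsSq 𝔞 f 𝔟 := ⟨liftsSq_of_lifts, lifts_of_liftsSq⟩

/-- If `(𝔟 ^ m).map g ≤ 𝔠` and `u` kills `𝔠 ^ k` then `u ∘ g` kills `𝔟 ^ (m * k)`. -/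
theorem kills_comp {B C D : Type u} [CommRing B] [CommRing C] [CommRing D]
    {𝔟 : Ideal B} {𝔠 : Ideal C} (g : B →+* C) {m : ℕ} (hm : (𝔟 ^ m).map g ≤ 𝔠)
    (u : C →+* D) {k : ℕ} (hk : ∀ x ∈ 𝔠 ^ k, u x = 0) :
    ∀ x ∈ 𝔟 ^ (m * k), u (g x) = 0 := by
  intro x hx
  apply hk
  have h1 : (𝔟 ^ (m * k)).map g ≤ 𝔠 ^ k := by
    rw [pow_mul, Ideal.map_pow]
    exact Ideal.pow_right_mono hm k
  exact h1 (Ideal.mem_map_of_mem g hx)

theorem Lifts.comp {C : Type u} [CommRing C] {𝔞 : Ideal A} {𝔟 : Ideal B} {𝔠 : Ideal C}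
    {f : A →+* B} {g : B →+* C} (hBC : ∃ k : ℕ, (𝔟 ^ k).map g ≤ 𝔠)
    (hB : Lifts 𝔞 f 𝔟) (hC : Lifts 𝔟 g 𝔠) : Lifts 𝔞 (g.comp f) 𝔠 := by
  intro D _ J hJ φ hφ u hu hcont
  obtain ⟨m, hm⟩ := hBC
  obtain ⟨k, hk⟩ := hcont
  have hk' := kills_comp g hm u hk
  obtain ⟨v₁, hv₁1, hv₁2⟩ := hB D J hJ φ hφ (u.comp g) (by rw [RingHom.comp_assoc, hu])
    ⟨m * k, hk'⟩
  obtain ⟨n, hn⟩ := exists_pow_map_eq_bot hJ v₁ (k := m * k) (fun x hx => by
    have := DFunLike.congr_fun hv₁2 x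
    simp only [RingHom.comp_apply] at this
    rw [this]
    exact hk' x hx)
  obtain ⟨v, hv1, hv2⟩ := hC D J hJ v₁ ⟨n, hn⟩ u hv₁2.symm ⟨k, hk⟩
  exact ⟨v, by rw [← RingHom.comp_assoc, hv1, hv₁1], hv2⟩

/-- Adic formal smoothness is detected on the quotients by powers of `𝔞`. -/
theorem lifts_iff_forall_quotient [Algebra A B] (𝔞 : Ideal A) (𝔟 : Ideal B) :
    Lifts 𝔞 (algebraMap A B) 𝔟 ↔
      ∀ n : ℕ, Lifts (⊥ : Ideal (A ⧸ 𝔞 ^ n))
        (algebraMap (A ⧸ 𝔞 ^ n) (B ⧸ (𝔞 ^ n).map (algebraMap A B)))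
        (𝔟.map (Ideal.Quotient.mk ((𝔞 ^ n).map (algebraMap A B)))) := by
  constructor
  · intro h n D _ J hJ φ' _ u' hu' hcont'
    have hsq : (algebraMap (A ⧸ 𝔞 ^ n) (B ⧸ (𝔞 ^ n).map (algebraMap A B))).comp
        (Ideal.Quotient.mk (𝔞 ^ n)) =
        (Ideal.Quotient.mk ((𝔞 ^ n).map (algebraMap A B))).comp (algebraMap A B) := by
      ext a; rfl
    obtain ⟨k, hk⟩ := hcont'
    obtain ⟨v, hv1, hv2⟩ := h D J hJ (φ'.comp (Ideal.Quotient.mk (𝔞 ^ n)))
      ⟨n, by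
        rw [← Ideal.map_map, Ideal.map_quotient_self, Ideal.map_bot]⟩
      (u'.comp (Ideal.Quotient.mk ((𝔞 ^ n).map (algebraMap A B))))
      (by rw [RingHom.comp_assoc, ← hsq, ← RingHom.comp_assoc, hu', RingHom.comp_assoc])
      ⟨k, fun x hx => by
        apply hk
        rw [← Ideal.map_pow]
        exact Ideal.mem_map_of_mem _ hx⟩
    have hvker : ∀ x ∈ (𝔞 ^ n).map (algebraMap A B), v x = 0 := by
      intro x hx
      have h1 : (𝔞 ^ n).map (algebraMap A B) ≤ RingHom.ker v := by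
        rw [Ideal.map_le_iff_le_comap]
        intro a ha
        rw [Ideal.mem_comap, RingHom.mem_ker]
        have := DFunLike.congr_fun hv1 a
        simp only [RingHom.comp_apply] at this
        rw [this, Ideal.Quotient.eq_zero_iff_mem.mpr ha, map_zero]
      exact h1 hx
    refine ⟨Ideal.Quotient.lift _ v hvker, ?_, ?_⟩
    · ext a
      have := DFunLike.congr_fun hv1 a
      change Ideal.Quotient.lift _ v hvker (Ideal.Quotient.mk _ (algebraMap A B a)) = _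
      rw [Ideal.Quotient.lift_mk]
      exact this
    · ext b
      have := DFunLike.congr_fun hv2 b
      change Ideal.Quotient.mk J (Ideal.Quotient.lift _ v hvker (Ideal.Quotient.mk _ b)) = _
      rw [Ideal.Quotient.lift_mk]
      exact this
  · intro h D _ J hJ φ hφ u hu hcont
    obtain ⟨n, hn⟩ := hφ
    have hφker : ∀ a ∈ 𝔞 ^ n, φ a = 0 := by
      intro a ha
      have : φ a ∈ (𝔞 ^ n).map φ := Ideal.mem_map_of_mem _ ha
      rwa [hn] at this
    have huker : ∀ x ∈ (𝔞 ^ n).map (algebraMap A B), u x = 0 := by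
      intro x hx
      have h1 : (𝔞 ^ n).map (algebraMap A B) ≤ RingHom.ker u := by
        rw [Ideal.map_le_iff_le_comap]
        intro a ha
        rw [Ideal.mem_comap, RingHom.mem_ker]
        have := DFunLike.congr_fun hu a
        simp only [RingHom.comp_apply] at this
        rw [this, hφker a ha, map_zero]
      exact h1 hx
    obtain ⟨k, hk⟩ := hcont
    obtain ⟨v, hv1, hv2⟩ := h n D J hJ (Ideal.Quotient.lift _ φ hφker) ⟨1, by simp⟩
      (Ideal.Quotient.lift _ u huker)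
      (by
        ext a
        have := DFunLike.congr_fun hu a
        change Ideal.Quotient.lift _ u huker (Ideal.Quotient.mk _ (algebraMap A B a)) =
          Ideal.Quotient.mk J (Ideal.Quotient.lift _ φ hφker (Ideal.Quotient.mk _ a))
        rw [Ideal.Quotient.lift_mk, Ideal.Quotient.lift_mk]
        exact this)
      ⟨k, fun x hx => by
        rw [← Ideal.map_pow] at hx
        obtain ⟨y, hy, rfl⟩ := (Ideal.mem_map_iff_of_surjective _
          Ideal.Quotient.mk_surjective).mp hx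
        simpa using hk y hy⟩
    refine ⟨v.comp (Ideal.Quotient.mk _), ?_, ?_⟩
    · ext a
      have := DFunLike.congr_fun hv1 (Ideal.Quotient.mk _ a)
      change v (Ideal.Quotient.mk _ (algebraMap A B a)) = _
      rw [show φ a = Ideal.Quotient.lift _ φ hφker (Ideal.Quotient.mk _ a) from
        (Ideal.Quotient.lift_mk _ _ _).symm]
      exact this
    · ext b
      have := DFunLike.congr_fun hv2 (Ideal.Quotient.mk _ b)
      change Ideal.Quotient.mk J (v (Ideal.Quotient.mk _ b)) = _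
      rw [show u b = Ideal.Quotient.lift _ u huker (Ideal.Quotient.mk _ b) from
        (Ideal.Quotient.lift_mk _ _ _).symm]
      exact this

end Groth.Agent.Lib.Helper61.FSAdic
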