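import Mathlib.RingTheory.MvPowerSeries.Equiv
import Mathlib.RingTheory.AdicCompletion.Completeness
import Mathlib.RingTheory.MvPolynomial.Ideal

/-!
A power series in finitely many variables all of whose coefficients of total degree `< M` vanish
lies in the `M`-th power of the ideal generated by the variables.
-/

set_option autoImplicit false

namespace Groth.Agent.Lib.Helper61.MvPSIdeal

open MvPowerSeries

variable {σ R : Type*} [Finite σ] [CommRing R]

theorem map_idealOfVars_pow (M : ℕ) :
    ((MvPolynomial.idealOfVars σ R) ^ M).map (algebraMap (MvPolynomial σ R) (MvPowerSeries σ R)) =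
      (Ideal.span (Set.range (X : σ → MvPowerSeries σ R))) ^ M := by
  rw [Ideal.map_pow, MvPolynomial.idealOfVars, Ideal.map_span, ← Set.range_comp]
  congr 3
  ext1 i
  simp only [Function.comp_apply, algebraMap_apply', Algebra.algebraMap_self, map_id,
    RingHom.id_apply]
  exact MvPolynomial.coe_X i

theorem mem_pow_span_X_of_coeff_eq_zero (M : ℕ) (g : MvPowerSeries σ R)
    (hg : ∀ e : σ →₀ ℕ, e.degree < M → coeff e g = 0) :
    g ∈ (Ideal.span (Set.range (X : σ → MvPowerSeries σ R))) ^ M := by
  classical
  let I := MvPolynomial.idealOfVars σ R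
  let e := toAdicCompletionAlgEquiv σ R
  have htr : truncTotal M g = 0 := by
    ext x
    rw [coeff_truncTotal_eq_ite]
    split_ifs with h
    · rw [hg x h]; rfl
    · rfl
  have h1 : AdicCompletion.eval I (MvPolynomial σ R) M (e g) = 0 := by
    rw [AdicCompletion.eval_apply]
    change (toAdicCompletion σ R g).val M = 0
    rw [toAdicCompletion_apply_eq_mk_truncTotal, htr]
    rfl
  have h2 : e g ∈ (I ^ M • ⊤ : Submodule (MvPolynomial σ R) (AdicCompletion I (MvPolynomial σ R))) := by
    rw [AdicCompletion.pow_smul_top_eq_ker_eval (MvPolynomial.idealOfVars_fg σ R)]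
    exact h1
  have h3 : ∀ y ∈ (I ^ M • ⊤ :
      Submodule (MvPolynomial σ R) (AdicCompletion I (MvPolynomial σ R))),
      e.symm y ∈ (Ideal.span (Set.range (X : σ → MvPowerSeries σ R))) ^ M := by
    intro y hy
    refine Submodule.smul_induction_on hy ?_ ?_
    · intro r hr z _
      rw [map_smul, Algebra.smul_def]
      apply Ideal.mul_mem_right
      rw [← map_idealOfVars_pow]
      exact Ideal.mem_map_of_mem _ hr
    · intro x y hx hy
      rw [map_add]
      exact Ideal.add_mem _ hx hy
  have := h3 _ h2
  rwa [AlgEquiv.symm_apply_apply] at this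

end Groth.Agent.Lib.Helper61.MvPSIdeal
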