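import Groth.Agent.Lib.Helper61.MvPS
import Groth.Agent.Lib.Helper61.MvPSIdeal

/-!
`MvPowerSeries σ R` (finitely many variables) is adically complete with respect to the ideal
generated by the variables.
-/

set_option autoImplicit false

namespace Groth.Agent.Lib.Helper61.MvPSComplete

open MvPowerSeries

variable {σ R : Type*} [CommRing R]

/-- The ideal of power series of order `≥ M`. -/
def ordIdeal (M : ℕ) : Ideal (MvPowerSeries σ R) where
  carrier := {f | (M : ℕ∞) ≤ f.order}
  add_mem' := fun ha hb => le_trans (le_min ha hb) min_order_le_add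
  zero_mem' := by simp [order_zero]
  smul_mem' := fun c x hx => by
    show (M : ℕ∞) ≤ (c * x).order
    exact le_trans (le_trans hx le_add_self) le_order_mul

theorem mem_ordIdeal {M : ℕ} {f : MvPowerSeries σ R} : f ∈ ordIdeal M ↔ (M : ℕ∞) ≤ f.order :=
  Iff.rfl

theorem span_X_le : Ideal.span (Set.range (X : σ → MvPowerSeries σ R)) ≤ ordIdeal 1 := by
  rw [Ideal.span_le]
  rintro _ ⟨i, rfl⟩
  show ((1 : ℕ) : ℕ∞) ≤ (X i : MvPowerSeries σ R).order
  rw [Nat.cast_one, one_le_order_iff_constCoeff_eq_zero]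
  exact constantCoeff_X i

theorem span_X_pow_le (M : ℕ) :
    (Ideal.span (Set.range (X : σ → MvPowerSeries σ R))) ^ M ≤ ordIdeal M := by
  induction M with
  | zero =>
    intro f _
    show ((0 : ℕ) : ℕ∞) ≤ f.order
    simp
  | succ n ih =>
    rw [pow_succ]
    refine Ideal.mul_le.mpr fun a ha b hb => ?_
    have h1 : (n : ℕ∞) ≤ a.order := ih ha
    have h2 : ((1 : ℕ) : ℕ∞) ≤ b.order := span_X_le hb
    show ((n + 1 : ℕ) : ℕ∞) ≤ (a * b).order
    refine le_trans ?_ le_order_mul
    push_cast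
    exact add_le_add h1 (by simpa using h2)

theorem le_order_of_mem_pow {M : ℕ} {f : MvPowerSeries σ R}
    (hf : f ∈ (Ideal.span (Set.range (X : σ → MvPowerSeries σ R))) ^ M) : (M : ℕ∞) ≤ f.order :=
  span_X_pow_le M hf

theorem mem_pow_of_le_order [Finite σ] {M : ℕ} {f : MvPowerSeries σ R}
    (hf : (M : ℕ∞) ≤ f.order) : f ∈ (Ideal.span (Set.range (X : σ → MvPowerSeries σ R))) ^ M :=
  MvPSIdeal.mem_pow_span_X_of_coeff_eq_zero M f fun e he =>
    coeff_of_lt_order (lt_of_lt_of_le (by exact_mod_cast he) hf)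

theorem mem_pow_iff [Finite σ] {M : ℕ} {f : MvPowerSeries σ R} :
    f ∈ (Ideal.span (Set.range (X : σ → MvPowerSeries σ R))) ^ M ↔ (M : ℕ∞) ≤ f.order :=
  ⟨le_order_of_mem_pow, mem_pow_of_le_order⟩

instance isHausdorff_span_X :
    IsHausdorff (Ideal.span (Set.range (X : σ → MvPowerSeries σ R))) (MvPowerSeries σ R) := by
  constructor
  intro f hf
  apply Groth.Agent.Lib.Helper61.eq_zero_of_forall_le_order
  intro n
  have h := hf n
  rw [SModEq.zero, smul_eq_mul, Ideal.mul_top] at h
  exact le_order_of_mem_pow h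

instance isPrecomplete_span_X [Finite σ] :
    IsPrecomplete (Ideal.span (Set.range (X : σ → MvPowerSeries σ R))) (MvPowerSeries σ R) := by
  constructor
  intro f hf
  have h1 : ∀ n : ℕ, (n : ℕ∞) ≤ (f (n + 1) - f n).order := by
    intro n
    have h := hf (Nat.le_succ n)
    rw [SModEq.sub_mem, smul_eq_mul, Ideal.mul_top] at h
    have h' := le_order_of_mem_pow h
    rwa [← order_neg, neg_sub] at h'
  obtain ⟨L, hL⟩ := Groth.Agent.Lib.Helper61.exists_limit f h1
  refine ⟨L, fun n => ?_⟩
  rw [SModEq.sub_mem, smul_eq_mul, Ideal.mul_top]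
  apply mem_pow_of_le_order
  have := hL n
  rwa [← order_neg, neg_sub] at this

instance isAdicComplete_span_X [Finite σ] :
    IsAdicComplete (Ideal.span (Set.range (X : σ → MvPowerSeries σ R))) (MvPowerSeries σ R) where

end Groth.Agent.Lib.Helper61.MvPSComplete
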