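import Groth.Agent.S0543
import Mathlib.RingTheory.MvPowerSeries.Rename
import Mathlib.RingTheory.PowerSeries.Basic

/-!
Evaluation of power series (over a base ring `k`) at a family `b` of elements of a `k`-algebra `R`
which is adically complete for the ideal generated by `b`.
-/

set_option autoImplicit false
universe u

namespace Groth.Agent.Lib.Helper61.PSEval

/-- Evaluation of power series at a family `b` in a ring complete for the ideal generated by `b`. -/
theorem exists_eval (k R : Type u) [CommRing k] [CommRing R] [Algebra k R]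
    {d : ℕ} (b : Fin d → R) [IsAdicComplete (Ideal.span (Set.range b)) R] :
    ∃ ψ : MvPowerSeries (Fin d) k →ₐ[k] R, ∀ i, ψ (MvPowerSeries.X i) = b i := by
  let e : R ≃ₐ[R] AdicCompletion (Ideal.span (Set.range b)) R :=
    AdicCompletion.ofAlgEquiv (Ideal.span (Set.range b))
  let ψ₀ : MvPowerSeries (Fin d) k →+* R :=
    (e.symm : AdicCompletion (Ideal.span (Set.range b)) R →+* R).comp
      ((Groth.Agent.S0543.psMap b).comp (MvPowerSeries.map (algebraMap k R)))
  have hcomm : ∀ c : k, ψ₀ (algebraMap k (MvPowerSeries (Fin d) k) c) = algebraMap k R c := by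
    intro c
    have h1 : algebraMap k (MvPowerSeries (Fin d) k) c = MvPowerSeries.C c := rfl
    have h2 : (MvPowerSeries.C (algebraMap k R c) : MvPowerSeries (Fin d) R) =
        ((MvPolynomial.C (algebraMap k R c) : MvPolynomial (Fin d) R) :
          MvPowerSeries (Fin d) R) := (MvPolynomial.coe_C _).symm
    simp only [ψ₀, RingHom.comp_apply, RingHom.coe_coe]
    rw [h1, MvPowerSeries.map_C, h2, Groth.Agent.S0543.psMap_coe, MvPolynomial.aeval_C]
    exact AdicCompletion.ofAlgEquiv_symm_of _ _
  refine ⟨{ ψ₀ with commutes' := hcomm }, fun i => ?_⟩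
  change ψ₀ (MvPowerSeries.X i) = b i
  have h2 : (MvPowerSeries.X i : MvPowerSeries (Fin d) R) =
      ((MvPolynomial.X i : MvPolynomial (Fin d) R) : MvPowerSeries (Fin d) R) :=
    (MvPolynomial.coe_X i).symm
  simp only [ψ₀, RingHom.comp_apply, RingHom.coe_coe]
  rw [MvPowerSeries.map_X, h2, Groth.Agent.S0543.psMap_coe, MvPolynomial.aeval_X]
  exact AdicCompletion.ofAlgEquiv_symm_of _ _

end Groth.Agent.Lib.Helper61.PSEval

namespace Groth.Agent.Lib.Helper61.PSEval

/-- One-variable version: evaluation of `PowerSeries k` at `b` when `R` is `(b)`-adically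
complete. -/
theorem exists_eval_one (k R : Type u) [CommRing k] [CommRing R] [Algebra k R]
    (b : R) [IsAdicComplete (Ideal.span {b}) R] :
    ∃ ψ : PowerSeries k →ₐ[k] R, ψ PowerSeries.X = b := by
  have hr : Set.range (fun _ : Fin 1 => b) = {b} := Set.range_const
  haveI : IsAdicComplete (Ideal.span (Set.range (fun _ : Fin 1 => b))) R := by
    rw [hr]
    infer_instance
  obtain ⟨ψ, hψ⟩ := exists_eval k R (fun _ : Fin 1 => b)
  let ρ : MvPowerSeries Unit k ≃ₐ[k] MvPowerSeries (Fin 1) k :=
    MvPowerSeries.renameEquiv k (finOneEquiv.symm : Unit ≃ Fin 1)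
  refine ⟨ψ.comp ρ.toAlgHom, ?_⟩
  change ψ (MvPowerSeries.rename _ (MvPowerSeries.X ())) = b
  rw [MvPowerSeries.rename_X]
  exact hψ _

end Groth.Agent.Lib.Helper61.PSEval
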