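import Mathlib

/-!
# Stacks 090T: completeness for a smaller finitely generated ideal

If `I ≤ J`, `I` finitely generated and `M` is `J`-adically complete, then `M` is `I`-adically
complete.
-/

set_option autoImplicit false

namespace Groth.Agent.Lib.Helper61.CompleteLE

variable {A : Type*} [CommRing A] {M : Type*} [AddCommGroup M] [Module A M]

/-- elements of `𝔞 • N`, for `𝔞` generated by the finite family `g`, are combinations of the `g j`
with coefficients in `N`. -/
theorem exists_sum_of_mem_smul {s : ℕ} (g : Fin s → A) (N : Submodule A M) (z : M)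
    (hz : z ∈ Ideal.span (Set.range g) • N) :
    ∃ y : Fin s → M, (∀ j, y j ∈ N) ∧ z = ∑ j, g j • y j := by
  refine Submodule.smul_induction_on hz ?_ ?_
  · intro r hr n hn
    obtain ⟨c, rfl⟩ := (Ideal.mem_span_range_iff_exists_fun).mp hr
    refine ⟨fun j => c j • n, fun j => N.smul_mem _ hn, ?_⟩
    rw [Finset.sum_smul]
    refine Finset.sum_congr rfl fun j _ => ?_
    rw [smul_smul, mul_comm]
  · rintro x y ⟨y₁, h₁, rfl⟩ ⟨y₂, h₂, rfl⟩
    refine ⟨fun j => y₁ j + y₂ j, fun j => N.add_mem (h₁ j) (h₂ j), ?_⟩
    rw [← Finset.sum_add_distrib]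
    refine Finset.sum_congr rfl fun j _ => ?_
    rw [smul_add]

theorem isAdicComplete_of_le (I J : Ideal A) (hIJ : I ≤ J) (hI : I.FG) [IsAdicComplete J M] :
    IsAdicComplete I M := by
  classical
  have hpow : ∀ n : ℕ, (I ^ n • ⊤ : Submodule A M) ≤ J ^ n • ⊤ := fun n =>
    Submodule.smul_mono_left (Ideal.pow_right_mono hIJ n)
  haveI hH : IsHausdorff I M := by
    constructor
    intro x hx
    apply IsHausdorff.haus (inferInstance : IsHausdorff J M)
    intro n
    have := hx n
    rw [SModEq.zero] at this ⊢
    exact hpow n this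
  refine { toIsHausdorff := hH, toIsPrecomplete := ⟨?_⟩ }
  intro f hf
  -- `f` is `J`-Cauchy
  have hfJ : ∀ {m n}, m ≤ n → f m ≡ f n [SMOD (J ^ m • ⊤ : Submodule A M)] := by
    intro m n hmn
    have := hf hmn
    rw [SModEq.sub_mem] at this ⊢
    exact hpow m this
  obtain ⟨L, hL⟩ := IsPrecomplete.prec (inferInstance : IsPrecomplete J M) hfJ
  refine ⟨L, ?_⟩
  intro n
  -- generators of `I ^ n`
  obtain ⟨s, g, hg⟩ := Submodule.fg_iff_exists_fin_generating_family.mp (hI.pow (n := n))
  replace hg : Ideal.span (Set.range g) = I ^ n := hg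
  -- decompose the successive differences
  have hdiff : ∀ i : ℕ, ∃ y : Fin s → M, (∀ j, y j ∈ (I ^ i • ⊤ : Submodule A M)) ∧
      f (n + i + 1) - f (n + i) = ∑ j, g j • y j := by
    intro i
    apply exists_sum_of_mem_smul
    change f (n + i + 1) - f (n + i) ∈ Ideal.span (Set.range g) • (I ^ i • ⊤ : Submodule A M)
    rw [hg, ← Submodule.mul_smul, ← pow_add]
    have := hf (Nat.le_succ (n + i))
    rw [SModEq.sub_mem] at this
    rw [← neg_sub]
    exact neg_mem this
  choose y hy hysum using hdiff
  -- partial sums
  let T : ℕ → Fin s → M := fun i j => ∑ l ∈ Finset.range i, y l j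
  have hT : ∀ i, f (n + i) - f n = ∑ j, g j • T i j := by
    intro i
    induction i with
    | zero => simp [T]
    | succ i ih =>
      have : f (n + (i + 1)) - f n = (f (n + i + 1) - f (n + i)) + (f (n + i) - f n) := by
        rw [← add_assoc]; abel
      rw [this, ih, hysum i, ← Finset.sum_add_distrib]
      refine Finset.sum_congr rfl fun j _ => ?_
      simp only [T]
      rw [Finset.sum_range_succ, smul_add, add_comm]
  -- the partial sums are `J`-Cauchy
  have hTc : ∀ j, ∃ Y : M, ∀ i, T i j ≡ Y [SMOD (J ^ i • ⊤ : Submodule A M)] := by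
    intro j
    apply IsPrecomplete.prec (inferInstance : IsPrecomplete J M)
    have h1 : AdicCompletion.IsAdicCauchy J M (fun i => T i j) := by
      rw [AdicCompletion.isAdicCauchy_iff]
      intro i
      rw [SModEq.sub_mem]
      have : T i j - T (i + 1) j = - y i j := by
        simp only [T]
        rw [Finset.sum_range_succ]; abel
      rw [this]
      exact neg_mem (hpow i (hy i j))
    exact fun {m n} hmn => h1 hmn
  choose Y hY using hTc
  -- identify the limit
  have hlim : L - f n - ∑ j, g j • Y j = 0 := by
    apply IsHausdorff.haus (inferInstance : IsHausdorff J M)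
    intro i
    rw [SModEq.zero]
    have h1 : L - f n - ∑ j, g j • Y j =
        (L - f (n + i)) + ∑ j, g j • (T i j - Y j) := by
      have h2 : ∑ j, g j • (T i j - Y j) = ∑ j, g j • T i j - ∑ j, g j • Y j := by
        rw [← Finset.sum_sub_distrib]
        refine Finset.sum_congr rfl fun j _ => ?_
        rw [smul_sub]
      rw [h2, ← hT i]; abel
    rw [h1]
    apply add_mem
    · have := hL (n + i)
      rw [SModEq.sub_mem] at this
      rw [← neg_sub]
      refine neg_mem ?_
      exact Submodule.smul_mono_left (Ideal.pow_le_pow_right (Nat.le_add_left i n)) this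
    · apply Submodule.sum_mem
      intro j _
      apply Submodule.smul_mem
      have := hY j i
      rwa [SModEq.sub_mem] at this
  rw [SModEq.sub_mem, ← neg_sub]
  refine neg_mem ?_
  have h3 : L - f n = ∑ j, g j • Y j := by
    rw [sub_eq_zero] at hlim; exact hlim
  rw [h3]
  apply Submodule.sum_mem
  intro j _
  apply Submodule.smul_mem_smul _ Submodule.mem_top
  rw [← hg]
  exact Ideal.subset_span ⟨j, rfl⟩

end Groth.Agent.Lib.Helper61.CompleteLE
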