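import Groth.Agent.Lib.Helper61.FSAdic
import Mathlib.RingTheory.AdicCompletion.RingHom

/-!
Lifting continuous maps from an adically formally smooth algebra into a complete ring
(EGA 0_IV 19.3.10), in ring-homomorphism form.
-/

set_option autoImplicit false
universe u

namespace Groth.Agent.Lib.Helper61.FSAdic

open Ideal.Quotient

section general

variable {C : Type*} [CommRing C]

/-- An element of `C ⧸ (I₁ ⊓ I₂)` is determined by its images in `C ⧸ I₁` and `C ⧸ I₂`. -/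
theorem quotient_inf_ext {I₁ I₂ : Ideal C} {x y : C ⧸ (I₁ ⊓ I₂)}
    (h1 : factor (inf_le_left : I₁ ⊓ I₂ ≤ I₁) x = factor inf_le_left y)
    (h2 : factor (inf_le_right : I₁ ⊓ I₂ ≤ I₂) x = factor inf_le_right y) : x = y := by
  obtain ⟨c, rfl⟩ := Ideal.Quotient.mk_surjective x
  obtain ⟨c', rfl⟩ := Ideal.Quotient.mk_surjective y
  rw [factor_mk, factor_mk, Ideal.Quotient.eq] at h1 h2
  rw [Ideal.Quotient.eq]
  exact ⟨h1, h2⟩

/-- `C ⧸ (I₁ ⊓ I₂)` is the fibre product of `C ⧸ I₁` and `C ⧸ I₂` over `C ⧸ (I₁ ⊔ I₂)`. -/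
theorem exists_ringHom_quotient_inf {B : Type*} [CommRing B] (I₁ I₂ : Ideal C)
    (f₁ : B →+* C ⧸ I₁) (f₂ : B →+* C ⧸ I₂)
    (hcompat : (factor (le_sup_left : I₁ ≤ I₁ ⊔ I₂)).comp f₁ =
      (factor (le_sup_right : I₂ ≤ I₁ ⊔ I₂)).comp f₂) :
    ∃ f : B →+* C ⧸ (I₁ ⊓ I₂), (factor inf_le_left).comp f = f₁ ∧
      (factor inf_le_right).comp f = f₂ := by
  have hex : ∀ b : B, ∃ x : C ⧸ (I₁ ⊓ I₂),
      factor inf_le_left x = f₁ b ∧ factor inf_le_right x = f₂ b := by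
    intro b
    obtain ⟨c₁, hc₁⟩ := Ideal.Quotient.mk_surjective (f₁ b)
    obtain ⟨c₂, hc₂⟩ := Ideal.Quotient.mk_surjective (f₂ b)
    have h := DFunLike.congr_fun hcompat b
    simp only [RingHom.comp_apply] at h
    rw [← hc₁, ← hc₂, factor_mk, factor_mk, Ideal.Quotient.eq, Submodule.mem_sup] at h
    obtain ⟨i₁, hi₁, i₂, hi₂, hsum⟩ := h
    refine ⟨Ideal.Quotient.mk _ (c₁ - i₁), ?_, ?_⟩
    · rw [factor_mk, ← hc₁, Ideal.Quotient.eq]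
      have : c₁ - i₁ - c₁ = -i₁ := by ring
      rw [this]
      exact I₁.neg_mem hi₁
    · rw [factor_mk, ← hc₂, Ideal.Quotient.eq]
      have : c₁ - i₁ - c₂ = i₂ := by linear_combination -hsum
      rw [this]
      exact hi₂
  choose g hg1 hg2 using hex
  have huniq : ∀ (b : B) (x : C ⧸ (I₁ ⊓ I₂)),
      factor inf_le_left x = f₁ b → factor inf_le_right x = f₂ b → x = g b := by
    intro b x h1 h2
    exact quotient_inf_ext (h1.trans (hg1 b).symm) (h2.trans (hg2 b).symm)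
  refine ⟨{ toFun := g
            map_one' := (huniq 1 1 (by simp) (by simp)).symm
            map_mul' := fun a b => (huniq (a * b) (g a * g b)
              (by rw [map_mul, hg1, hg1, map_mul]) (by rw [map_mul, hg2, hg2, map_mul])).symm
            map_zero' := (huniq 0 0 (by simp) (by simp)).symm
            map_add' := fun a b => (huniq (a + b) (g a + g b)
              (by rw [map_add, hg1, hg1, map_add]) (by rw [map_add, hg2, hg2, map_add])).symm },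
    ?_, ?_⟩
  · ext b; exact hg1 b
  · ext b; exact hg2 b

/-- `(J ⊔ K) ^ m ≤ J ^ m ⊔ K`. -/
theorem sup_pow_le (J K : Ideal C) (m : ℕ) : (J ⊔ K) ^ m ≤ J ^ m ⊔ K := by
  induction m with
  | zero => simp
  | succ m ih =>
    calc (J ⊔ K) ^ (m + 1) = (J ⊔ K) ^ m * (J ⊔ K) := pow_succ _ _
      _ ≤ (J ^ m ⊔ K) * (J ⊔ K) := Ideal.mul_mono_left ih
      _ ≤ J ^ (m + 1) ⊔ K := by
        rw [Ideal.sup_mul, Ideal.mul_sup, Ideal.mul_sup, ← pow_succ]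
        refine sup_le (sup_le le_sup_left (Ideal.mul_le_right.trans le_sup_right))
          (sup_le (Ideal.mul_le_left.trans le_sup_right) (Ideal.mul_le_right.trans le_sup_right))

end general

variable {A B : Type u} [CommRing A] [CommRing B]

/-- The lifting property for surjections with nilpotent kernel. -/
theorem Lifts.surj {𝔞 : Ideal A} {f : A →+* B} {𝔟 : Ideal B} (h : Lifts 𝔞 f 𝔟)
    {D E : Type u} [CommRing D] [CommRing E] (p : D →+* E) (hp : Function.Surjective p)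
    (hker : IsNilpotent (RingHom.ker p)) (φ : A →+* D) (hφ : ∃ k : ℕ, (𝔞 ^ k).map φ = ⊥)
    (u : B →+* E) (hu : u.comp f = p.comp φ) (hcont : ∃ k : ℕ, ∀ x ∈ 𝔟 ^ k, u x = 0) :
    ∃ v : B →+* D, v.comp f = φ ∧ p.comp v = u := by
  let e := RingHom.quotientKerEquivOfSurjective hp
  obtain ⟨k, hk⟩ := hcont
  obtain ⟨v, hv1, hv2⟩ := h D (RingHom.ker p) hker φ hφ ((e.symm : E →+* _).comp u)
    (by
      ext a
      have := DFunLike.congr_fun hu a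
      simp only [RingHom.comp_apply] at this ⊢
      rw [this]
      exact RingHom.quotientKerEquivOfSurjective_symm_apply hp (φ a))
    ⟨k, fun x hx => by simp [hk x hx]⟩
  refine ⟨v, hv1, ?_⟩
  ext b
  have := DFunLike.congr_fun hv2 b
  simp only [RingHom.comp_apply] at this ⊢
  have h2 : e (Ideal.Quotient.mk _ (v b)) = p (v b) :=
    RingHom.quotientKerEquivOfSurjective_apply_mk hp (v b)
  rw [← h2, this]
  exact e.apply_symm_apply (u b)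

section complete

variable {C : Type u} [CommRing C]

/-- The invariant carried along the successive approximation. -/
def Inv (𝔠 J : Ideal C) (f : A →+* B) (g : A →+* C) (u : B →+* C ⧸ J) (𝔟 : Ideal B) (n : ℕ)
    (v : B →+* C ⧸ 𝔠 ^ n) : Prop :=
  v.comp f = (Ideal.Quotient.mk (𝔠 ^ n)).comp g ∧
  (factor (le_sup_right : 𝔠 ^ n ≤ J ⊔ 𝔠 ^ n)).comp v =
    (factor (le_sup_left : J ≤ J ⊔ 𝔠 ^ n)).comp u ∧
  ∃ k : ℕ, ∀ x ∈ 𝔟 ^ k, v x = 0

theorem lift_step {𝔞 : Ideal A} {𝔟 : Ideal B} {f : A →+* B} (h : Lifts 𝔞 f 𝔟)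
    (𝔠 : Ideal C) (g : A →+* C) (hAC : ∃ k : ℕ, (𝔞 ^ k).map g ≤ 𝔠)
    (J : Ideal C) (hJ : ∃ t : ℕ, J ^ t ≤ 𝔠)
    (u : B →+* C ⧸ J) (hu : u.comp f = (Ideal.Quotient.mk J).comp g)
    (hcont : ∃ k : ℕ, (𝔟 ^ k).map u ≤ 𝔠.map (Ideal.Quotient.mk J))
    (n : ℕ) (v : B →+* C ⧸ 𝔠 ^ n) (hv : Inv 𝔠 J f g u 𝔟 n v) :
    ∃ v' : B →+* C ⧸ 𝔠 ^ (n + 1), Inv 𝔠 J f g u 𝔟 (n + 1) v' ∧
      (factor (Ideal.pow_le_pow_right (Nat.le_succ n) : 𝔠 ^ (n + 1) ≤ 𝔠 ^ n)).comp v' = v := by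
  obtain ⟨hv1, hv2, k₁, hk₁⟩ := hv
  let f₂ : B →+* C ⧸ (J ⊔ 𝔠 ^ (n + 1)) := (factor (le_sup_left : J ≤ (J ⊔ 𝔠 ^ (n + 1)))).comp u
  have hle : J ⊔ 𝔠 ^ n ≤ (𝔠 ^ n) ⊔ (J ⊔ 𝔠 ^ (n + 1)) := sup_le (le_sup_left.trans le_sup_right) le_sup_left
  have hcompat : (factor (le_sup_left : (𝔠 ^ n) ≤ (𝔠 ^ n) ⊔ (J ⊔ 𝔠 ^ (n + 1)))).comp v =
      (factor (le_sup_right : (J ⊔ 𝔠 ^ (n + 1)) ≤ (𝔠 ^ n) ⊔ (J ⊔ 𝔠 ^ (n + 1)))).comp f₂ := by
    calc (factor (le_sup_left : (𝔠 ^ n) ≤ (𝔠 ^ n) ⊔ (J ⊔ 𝔠 ^ (n + 1)))).comp v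
        = ((factor hle).comp (factor (le_sup_right : 𝔠 ^ n ≤ J ⊔ 𝔠 ^ n))).comp v := by
          rw [factor_comp]
      _ = (factor hle).comp ((factor (le_sup_left : J ≤ J ⊔ 𝔠 ^ n)).comp u) := by
          rw [RingHom.comp_assoc, hv2]
      _ = (factor (le_sup_right : (J ⊔ 𝔠 ^ (n + 1)) ≤ (𝔠 ^ n) ⊔ (J ⊔ 𝔠 ^ (n + 1)))).comp f₂ := by
          rw [← RingHom.comp_assoc, ← RingHom.comp_assoc, factor_comp, factor_comp]
  obtain ⟨w, hw1, hw2⟩ := exists_ringHom_quotient_inf (𝔠 ^ n) (J ⊔ 𝔠 ^ (n + 1)) v f₂ hcompat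
  have hle' : 𝔠 ^ (n + 1) ≤ (𝔠 ^ n) ⊓ (J ⊔ 𝔠 ^ (n + 1)) :=
    le_inf (Ideal.pow_le_pow_right (Nat.le_succ n)) le_sup_right
  let p : C ⧸ 𝔠 ^ (n + 1) →+* C ⧸ ((𝔠 ^ n) ⊓ (J ⊔ 𝔠 ^ (n + 1))) := factor hle'
  have hp : Function.Surjective p := factor_surjective hle'
  obtain ⟨t, ht⟩ := hJ
  have hkerle : RingHom.ker p ≤ (J ⊔ 𝔠 ^ (n + 1)).map (Ideal.Quotient.mk (𝔠 ^ (n + 1))) := by
    intro x hx
    obtain ⟨c, rfl⟩ := Ideal.Quotient.mk_surjective x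
    rw [RingHom.mem_ker, factor_mk, Ideal.Quotient.eq_zero_iff_mem] at hx
    exact Ideal.mem_map_of_mem _ hx.2
  have hI2pow : (J ⊔ 𝔠 ^ (n + 1)) ^ (t * (n + 1)) ≤ 𝔠 ^ (n + 1) := by
    refine (sup_pow_le J (𝔠 ^ (n + 1)) _).trans (sup_le ?_ le_rfl)
    rw [pow_mul]
    exact Ideal.pow_right_mono ht (n + 1)
  have hker : IsNilpotent (RingHom.ker p) := by
    refine ⟨t * (n + 1), ?_⟩
    rw [Ideal.zero_eq_bot, eq_bot_iff]
    calc RingHom.ker p ^ (t * (n + 1))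
        ≤ ((J ⊔ 𝔠 ^ (n + 1)).map (Ideal.Quotient.mk (𝔠 ^ (n + 1)))) ^ (t * (n + 1)) :=
          Ideal.pow_right_mono hkerle _
      _ = ((J ⊔ 𝔠 ^ (n + 1)) ^ (t * (n + 1))).map (Ideal.Quotient.mk (𝔠 ^ (n + 1))) := (Ideal.map_pow _ _ _).symm
      _ ≤ (𝔠 ^ (n + 1)).map (Ideal.Quotient.mk (𝔠 ^ (n + 1))) := Ideal.map_mono hI2pow
      _ = ⊥ := Ideal.map_quotient_self _
  let φ : A →+* C ⧸ 𝔠 ^ (n + 1) := (Ideal.Quotient.mk (𝔠 ^ (n + 1))).comp g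
  have hφ : ∃ k : ℕ, (𝔞 ^ k).map φ = ⊥ := by
    obtain ⟨k₀, hk₀⟩ := hAC
    refine ⟨k₀ * (n + 1), ?_⟩
    rw [eq_bot_iff, ← Ideal.map_map]
    calc ((𝔞 ^ (k₀ * (n + 1))).map g).map (Ideal.Quotient.mk (𝔠 ^ (n + 1)))
        ≤ (𝔠 ^ (n + 1)).map (Ideal.Quotient.mk (𝔠 ^ (n + 1))) := by
          apply Ideal.map_mono
          rw [pow_mul, Ideal.map_pow]
          exact Ideal.pow_right_mono hk₀ (n + 1)
      _ = ⊥ := Ideal.map_quotient_self _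
  have hwf : w.comp f = p.comp φ := by
    ext a
    simp only [RingHom.comp_apply]
    apply quotient_inf_ext
    · have h1 := DFunLike.congr_fun hw1 (f a)
      have h2 := DFunLike.congr_fun hv1 a
      simp only [RingHom.comp_apply] at h1 h2
      rw [h1, h2]
      simp [p, φ]
    · have h1 := DFunLike.congr_fun hw2 (f a)
      have h2 := DFunLike.congr_fun hu a
      simp only [RingHom.comp_apply] at h1 h2
      rw [h1]
      simp only [f₂, RingHom.comp_apply]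
      rw [h2]
      simp [p, φ]
  obtain ⟨k, hk⟩ := hcont
  have hfac0 : ∀ y ∈ (𝔠 ^ (n + 1)).map (Ideal.Quotient.mk J),
      factor (le_sup_left : J ≤ (J ⊔ 𝔠 ^ (n + 1))) y = 0 := by
    intro y hy
    have h1 : (𝔠 ^ (n + 1)).map (Ideal.Quotient.mk J) ≤
        RingHom.ker (factor (le_sup_left : J ≤ (J ⊔ 𝔠 ^ (n + 1)))) := by
      rw [Ideal.map_le_iff_le_comap]
      intro c hc
      rw [Ideal.mem_comap, RingHom.mem_ker, factor_mk, Ideal.Quotient.eq_zero_iff_mem]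
      exact le_sup_right (a := J) hc
    exact h1 hy
  have hwcont : ∃ K : ℕ, ∀ x ∈ 𝔟 ^ K, w x = 0 := by
    refine ⟨k₁ + k * (n + 1), fun x hx => ?_⟩
    apply quotient_inf_ext
    · have h1 := DFunLike.congr_fun hw1 x
      simp only [RingHom.comp_apply] at h1
      rw [h1, map_zero]
      exact hk₁ x (Ideal.pow_le_pow_right (Nat.le_add_right _ _) hx)
    · have h1 := DFunLike.congr_fun hw2 x
      simp only [RingHom.comp_apply] at h1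
      rw [h1, map_zero]
      simp only [f₂, RingHom.comp_apply]
      apply hfac0
      have hx' : x ∈ 𝔟 ^ (k * (n + 1)) := Ideal.pow_le_pow_right (Nat.le_add_left _ _) hx
      have h3 : (𝔟 ^ (k * (n + 1))).map u ≤ (𝔠 ^ (n + 1)).map (Ideal.Quotient.mk J) := by
        rw [pow_mul, Ideal.map_pow]
        exact (Ideal.pow_right_mono hk (n + 1)).trans (le_of_eq (Ideal.map_pow _ _ _).symm)
      exact h3 (Ideal.mem_map_of_mem u hx')
  obtain ⟨v', hv'1, hv'2⟩ := h.surj p hp hker φ hφ w hwf hwcont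
  refine ⟨v', ⟨hv'1, ?_, ?_⟩, ?_⟩
  · calc (factor (le_sup_right : 𝔠 ^ (n + 1) ≤ J ⊔ 𝔠 ^ (n + 1))).comp v'
        = ((factor (inf_le_right : (𝔠 ^ n) ⊓ (J ⊔ 𝔠 ^ (n + 1)) ≤ (J ⊔ 𝔠 ^ (n + 1)))).comp p).comp v' := by
          simp only [p]
          rw [factor_comp]
      _ = (factor (inf_le_right : (𝔠 ^ n) ⊓ (J ⊔ 𝔠 ^ (n + 1)) ≤ (J ⊔ 𝔠 ^ (n + 1)))).comp w := by rw [RingHom.comp_assoc, hv'2]
      _ = (factor (le_sup_left : J ≤ J ⊔ 𝔠 ^ (n + 1))).comp u := hw2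
  · obtain ⟨K, hK⟩ := hwcont
    obtain ⟨m, hm⟩ := hker
    rw [Ideal.zero_eq_bot] at hm
    refine ⟨K * m, fun x hx => ?_⟩
    have h1 : (𝔟 ^ K).map v' ≤ RingHom.ker p := by
      rw [Ideal.map_le_iff_le_comap]
      intro y hy
      rw [Ideal.mem_comap, RingHom.mem_ker]
      have := DFunLike.congr_fun hv'2 y
      simp only [RingHom.comp_apply] at this
      rw [this]
      exact hK y hy
    have h2 : (𝔟 ^ (K * m)).map v' ≤ ⊥ := by
      rw [pow_mul, Ideal.map_pow, ← hm]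
      exact Ideal.pow_right_mono h1 m
    exact (Ideal.mem_bot.mp (h2 (Ideal.mem_map_of_mem v' hx)))
  · calc (factor (Ideal.pow_le_pow_right (Nat.le_succ n) : 𝔠 ^ (n + 1) ≤ 𝔠 ^ n)).comp v'
        = ((factor (inf_le_left : (𝔠 ^ n) ⊓ (J ⊔ 𝔠 ^ (n + 1)) ≤ (𝔠 ^ n))).comp p).comp v' := by
          simp only [p]
          rw [factor_comp]
      _ = (factor (inf_le_left : (𝔠 ^ n) ⊓ (J ⊔ 𝔠 ^ (n + 1)) ≤ (𝔠 ^ n))).comp w := by rw [RingHom.comp_assoc, hv'2]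
      _ = v := hw1

theorem lift_to_complete {𝔞 : Ideal A} {𝔟 : Ideal B} {f : A →+* B} (h : Lifts 𝔞 f 𝔟)
    (𝔠 : Ideal C) [IsAdicComplete 𝔠 C] (g : A →+* C) (hAC : ∃ k : ℕ, (𝔞 ^ k).map g ≤ 𝔠)
    (J : Ideal C) (hJ : ∃ t : ℕ, J ^ t ≤ 𝔠)
    [IsHausdorff (𝔠.map (Ideal.Quotient.mk J)) (C ⧸ J)]
    (u : B →+* C ⧸ J) (hu : u.comp f = (Ideal.Quotient.mk J).comp g)
    (hcont : ∃ k : ℕ, (𝔟 ^ k).map u ≤ 𝔠.map (Ideal.Quotient.mk J)) :
    ∃ v : B →+* C, v.comp f = g ∧ (Ideal.Quotient.mk J).comp v = u ∧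
      ∃ k : ℕ, (𝔟 ^ k).map v ≤ 𝔠 := by
  -- the trivial start
  have hsub0 : Subsingleton (C ⧸ 𝔠 ^ 0) := Ideal.Quotient.subsingleton_iff.mpr (by simp)
  have hsub0' : Subsingleton (C ⧸ (J ⊔ 𝔠 ^ 0)) := Ideal.Quotient.subsingleton_iff.mpr (by simp)
  let v0 : B →+* C ⧸ 𝔠 ^ 0 :=
    { toFun := fun _ => 0
      map_one' := Subsingleton.elim _ _
      map_mul' := fun _ _ => Subsingleton.elim _ _
      map_zero' := rfl
      map_add' := fun _ _ => Subsingleton.elim _ _ }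
  have hv0 : Inv 𝔠 J f g u 𝔟 0 v0 :=
    ⟨RingHom.ext fun _ => Subsingleton.elim _ _, RingHom.ext fun _ => Subsingleton.elim _ _,
      0, fun _ _ => Subsingleton.elim _ _⟩
  have hstep : ∀ (n : ℕ) (v : {v : B →+* C ⧸ 𝔠 ^ n // Inv 𝔠 J f g u 𝔟 n v}),
      ∃ v' : {v' : B →+* C ⧸ 𝔠 ^ (n + 1) // Inv 𝔠 J f g u 𝔟 (n + 1) v'},
        (factor (Ideal.pow_le_pow_right (Nat.le_succ n) : 𝔠 ^ (n + 1) ≤ 𝔠 ^ n)).comp v'.1 = v.1 := by
    intro n v
    obtain ⟨v', hv', htr⟩ := lift_step h 𝔠 g hAC J hJ u hu hcont n v.1 v.2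
    exact ⟨⟨v', hv'⟩, htr⟩
  choose next hnext using hstep
  let seq : ∀ n : ℕ, {v : B →+* C ⧸ 𝔠 ^ n // Inv 𝔠 J f g u 𝔟 n v} :=
    fun n => Nat.rec ⟨v0, hv0⟩ (fun n v => next n v) n
  have hseq : ∀ n, (factor (Ideal.pow_le_pow_right (Nat.le_succ n) : 𝔠 ^ (n + 1) ≤ 𝔠 ^ n)).comp
      (seq (n + 1)).1 = (seq n).1 := fun n => hnext n (seq n)
  let V : B →+* C := IsAdicComplete.StrictMono.liftRingHom 𝔠 strictMono_id
    (fun n => (seq n).1) (fun {m} => hseq m)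
  have hV : ∀ (n : ℕ) (b : B), Ideal.Quotient.mk (𝔠 ^ n) (V b) = (seq n).1 b := fun n b =>
    IsAdicComplete.StrictMono.mk_liftRingHom 𝔠 strictMono_id (fun n => (seq n).1)
      (fun {m} => hseq m) b
  refine ⟨V, ?_, ?_, ?_⟩
  · ext a
    simp only [RingHom.comp_apply]
    rw [IsHausdorff.eq_iff_smodEq (I := 𝔠)]
    intro n
    rw [SModEq.sub_mem, smul_eq_mul, Ideal.mul_top, ← Ideal.Quotient.eq, hV]
    exact DFunLike.congr_fun (seq n).2.1 a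
  · ext b
    simp only [RingHom.comp_apply]
    rw [IsHausdorff.eq_iff_smodEq (I := 𝔠.map (Ideal.Quotient.mk J))]
    intro n
    rw [SModEq.sub_mem, smul_eq_mul, Ideal.mul_top, ← Ideal.map_pow]
    have h1 : factor (le_sup_left : J ≤ J ⊔ 𝔠 ^ n) (Ideal.Quotient.mk J (V b) - u b) = 0 := by
      rw [map_sub, sub_eq_zero, factor_mk]
      have h2 := DFunLike.congr_fun (seq n).2.2.1 b
      simp only [RingHom.comp_apply] at h2
      rw [← h2, ← hV, factor_mk]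
    obtain ⟨c, hc⟩ := Ideal.Quotient.mk_surjective (Ideal.Quotient.mk J (V b) - u b)
    rw [← hc, factor_mk, Ideal.Quotient.eq_zero_iff_mem, Submodule.mem_sup] at h1
    obtain ⟨j, hj, e, he, hsum⟩ := h1
    rw [← hc, ← hsum, map_add, Ideal.Quotient.eq_zero_iff_mem.mpr hj, zero_add]
    exact Ideal.mem_map_of_mem _ he
  · obtain ⟨k₁, hk₁⟩ := (seq 1).2.2.2
    refine ⟨k₁, ?_⟩
    rw [Ideal.map_le_iff_le_comap]
    intro x hx
    rw [Ideal.mem_comap]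
    have := hk₁ x hx
    rw [← hV, Ideal.Quotient.eq_zero_iff_mem, pow_one] at this
    exact this

end complete

end Groth.Agent.Lib.Helper61.FSAdic
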