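import Mathlib

universe u
set_option autoImplicit false
open CategoryTheory CategoryTheory.Limits AlgebraicGeometry

namespace Groth.Agent.Lib.Helper61.NeutRepISO

theorem isOpenImmersion_of_represents {X Y : Scheme.{u}} (i : Y ⟶ X) [Mono i] (E : Set X)
    (hE : IsOpen E)
    (hrep : ∀ (T : Scheme.{u}) (g : T ⟶ X), (∃ z : T ⟶ Y, z ≫ i = g) ↔ Set.range g.base ⊆ E) :
    IsOpenImmersion i ∧ Set.range i.base = E := by
  obtain ⟨U, hU⟩ : ∃ U : X.Opens, (U : Set X) = E := ⟨⟨E, hE⟩, rfl⟩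
  have hi : Set.range i.base ⊆ E := (hrep Y i).1 ⟨𝟙 Y, Category.id_comp _⟩
  have hUι : Set.range U.ι.base = E := by
    rw [← hU]
    exact Scheme.Opens.range_ι U
  have hi' : Set.range i.base ⊆ Set.range U.ι.base := by rw [hUι]; exact hi
  obtain ⟨z, hz⟩ := (hrep U U.ι).2 (by rw [hUι])
  have hj : IsOpenImmersion.lift U.ι i hi' ≫ U.ι = i := IsOpenImmersion.lift_fac _ _ _
  have h1 : IsOpenImmersion.lift U.ι i hi' ≫ z = 𝟙 Y := by
    rw [← cancel_mono i, Category.assoc, hz, hj, Category.id_comp]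
  have h2 : z ≫ IsOpenImmersion.lift U.ι i hi' = 𝟙 _ := by
    rw [← cancel_mono U.ι, Category.assoc, hj, hz, Category.id_comp]
  haveI : IsIso (IsOpenImmersion.lift U.ι i hi') := ⟨z, h1, h2⟩
  have hi2 : i = IsOpenImmersion.lift U.ι i hi' ≫ U.ι := hj.symm
  constructor
  · rw [hi2]
    infer_instance
  · apply Set.Subset.antisymm hi
    rw [← hUι]
    rintro _ ⟨u, rfl⟩
    refine ⟨z.base u, ?_⟩
    rw [← Scheme.Hom.comp_apply, hz]

end Groth.Agent.Lib.Helper61.NeutRepISO
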