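import Mathlib

universe u
set_option autoImplicit false
open CategoryTheory CategoryTheory.Limits AlgebraicGeometry

namespace Groth.Agent.Lib.Helper61.NeutRepK4

theorem injective_pi_quotient (A : Type u) [CommRing A] [IsDomain A] [IsLocalRing A]
    (hA : ¬ IsField A) :
    Function.Injective (RingHom.pi (fun a : {a : A // a ≠ 0 ∧ ¬ IsUnit a} =>
      Ideal.Quotient.mk (Ideal.span {(a : A)}))) := by
  rw [injective_iff_map_eq_zero]
  intro b hb
  by_contra hb0
  have hmem : ∀ a : {a : A // a ≠ 0 ∧ ¬ IsUnit a}, b ∈ Ideal.span {(a : A)} := by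
    intro a
    have := congrFun hb a
    simpa [Ideal.Quotient.eq_zero_iff_mem] using this
  by_cases hu : IsUnit b
  · -- pick a nonzero nonunit
    obtain ⟨a, ha0, hau⟩ : ∃ a : A, a ≠ 0 ∧ ¬ IsUnit a := by
      by_contra hcon
      push_neg at hcon
      apply hA
      exact ⟨⟨0, 1, zero_ne_one⟩, mul_comm, fun {x} hx => (hcon x hx).exists_right_inv⟩
    have h := hmem ⟨a, ha0, hau⟩
    rw [Ideal.mem_span_singleton] at h
    exact hau (isUnit_of_dvd_unit h hu)
  · have h := hmem ⟨b ^ 2, pow_ne_zero 2 hb0, fun h => hu (isUnit_pow_iff two_ne_zero |>.1 h)⟩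
    rw [Ideal.mem_span_singleton] at h
    obtain ⟨c, hc⟩ := h
    have hc' : b * 1 = b * (b * c) := by rw [mul_one, ← mul_assoc, ← pow_two]; exact hc
    have h1 : 1 = b * c := mul_left_cancel₀ hb0 hc'
    exact hu (IsUnit.of_mul_eq_one c h1.symm)

end Groth.Agent.Lib.Helper61.NeutRepK4
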