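import Mathlib
import Groth.Agent.Lib.Helper15.ProjCharpoly

set_option autoImplicit false
set_option maxHeartbeats 400000
universe u

open Polynomial TensorProduct
open Groth.Agent.Lib.Helper15.ProjCharpoly

namespace Groth.Agent.Lib.Helper61.GrpdOrbit

section Fibre

variable {R : Type u} [CommRing R] {B : Type u} [CommRing B] [Algebra R B] (π : Pres R B)
  (κ : Type u) [Field κ] [Algebra R κ]

include π in
theorem finite_of_pres : Module.Finite R B :=
  Module.Finite.of_surjective π.p (fun x => ⟨π.i x, π.p_i x⟩)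

/-- the presentation of a finite-dimensional vector space given by a basis -/
noncomputable def presOfField (V : Type u) [AddCommGroup V] [Module κ V] [Module.Finite κ V] :
    Pres κ V where
  n := Module.finrank κ V
  i := (Module.finBasis κ V).equivFun.toLinearMap
  p := (Module.finBasis κ V).equivFun.symm.toLinearMap
  hpi := by ext x; simp

theorem presOfField_cp_coeff_zero (V : Type u) [AddCommGroup V] [Module κ V] [Module.Finite κ V]
    (φ : V →ₗ[κ] V) :
    ((presOfField κ V).cp φ).coeff 0 = (-1) ^ (Module.finrank κ V) * LinearMap.det φ := by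
  have h1 := Matrix.det_eq_sign_charpoly_coeff ((presOfField κ V).mat φ)
  have h2 : ((presOfField κ V).mat φ).det = LinearMap.det φ := by
    unfold Pres.mat
    rw [LinearMap.det_toMatrix']
    exact LinearMap.det_conj φ (Module.finBasis κ V).equivFun
  rw [h2] at h1
  simp only [Fintype.card_fin] at h1
  show ((presOfField κ V).mat φ).charpoly.coeff 0 = _
  rw [h1, ← mul_assoc, ← pow_add]
  have : (-1 : κ) ^ ((presOfField κ V).n + (presOfField κ V).n) = 1 := by
    rw [← two_mul, pow_mul]; simp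
  show _ = (-1 : κ) ^ ((presOfField κ V).n + (presOfField κ V).n) * _
  rw [this, one_mul]

theorem det_mulLeft_ne_zero_iff (V : Type u) [CommRing V] [Algebra κ V] [Module.Finite κ V]
    (b : V) : LinearMap.det (LinearMap.mulLeft κ b) ≠ 0 ↔ IsUnit b := by
  constructor
  · intro h
    have e := LinearMap.equivOfDetNeZero (LinearMap.mulLeft κ b) h
    have hs : Function.Surjective (LinearMap.mulLeft κ b) := by
      have : (LinearMap.mulLeft κ b) = (LinearMap.equivOfDetNeZero (LinearMap.mulLeft κ b) h : V →ₗ[κ] V) := by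
        ext x; simp [LinearMap.equivOfDetNeZero]
      rw [this]
      exact (LinearMap.equivOfDetNeZero (LinearMap.mulLeft κ b) h).surjective
    obtain ⟨z, hz⟩ := hs 1
    exact IsUnit.of_mul_eq_one z (by simpa using hz)
  · rintro ⟨u, rfl⟩ h
    have h1 : LinearMap.mulLeft κ (u : V) * LinearMap.mulLeft κ ((u⁻¹ : Vˣ) : V) = 1 := by
      ext x; simp [← mul_assoc]
    have h2 := congrArg LinearMap.det h1
    rw [map_mul, h, zero_mul, map_one] at h2
    exact zero_ne_one h2

/-- the fibre ring -/
abbrev Fib : Type u := κ ⊗[R] B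

include π in
theorem fib_finite : Module.Finite κ (Fib (R := R) (B := B) κ) :=
  haveI := finite_of_pres π
  inferInstance

theorem key_identity (y : B) :
    haveI := fib_finite π κ
    (X : κ[X]) ^ (Module.finrank κ (Fib (R := R) (B := B) κ)) *
      (π.cp (LinearMap.mulLeft R y)).map (algebraMap R κ) =
    X ^ π.n * (presOfField κ (Fib (R := R) (B := B) κ)).cp
      (LinearMap.mulLeft κ ((1 : κ) ⊗ₜ[R] y)) := by
  haveI := fib_finite π κ
  have hf : IsBaseChange κ (TensorProduct.mk R κ B 1) := TensorProduct.isBaseChange R B κ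
  exact Pres.map_cp_mul π hf (LinearMap.mulLeft R y) (LinearMap.mulLeft κ ((1 : κ) ⊗ₜ[R] y))
    (fun x => by simp [Algebra.TensorProduct.tmul_mul_tmul]) (presOfField κ (Fib (R := R) (B := B) κ))

theorem ntd_identity (y : B) :
    haveI := fib_finite π κ
    ((π.cp (LinearMap.mulLeft R y)).map (algebraMap R κ)).natTrailingDegree +
      Module.finrank κ (Fib (R := R) (B := B) κ) =
    ((presOfField κ (Fib (R := R) (B := B) κ)).cp
      (LinearMap.mulLeft κ ((1 : κ) ⊗ₜ[R] y))).natTrailingDegree + π.n := by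
  haveI := fib_finite π κ
  have h := key_identity π κ y
  have h1 : (π.cp (LinearMap.mulLeft R y)).map (algebraMap R κ) ≠ 0 :=
    ((π.cp_monic _).map _).ne_zero
  have h2 : (presOfField κ (Fib (R := R) (B := B) κ)).cp
      (LinearMap.mulLeft κ ((1 : κ) ⊗ₜ[R] y)) ≠ 0 := (Pres.cp_monic _ _).ne_zero
  rw [mul_comm, mul_comm (X ^ π.n)] at h
  have h3 := congrArg natTrailingDegree h
  rwa [natTrailingDegree_mul_X_pow h1, natTrailingDegree_mul_X_pow h2] at h3

theorem ntd_of_isUnit (y : B) (hy : IsUnit ((1 : κ) ⊗ₜ[R] y : Fib (R := R) (B := B) κ)) :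
    haveI := fib_finite π κ
    ((π.cp (LinearMap.mulLeft R y)).map (algebraMap R κ)).natTrailingDegree +
      Module.finrank κ (Fib (R := R) (B := B) κ) = π.n := by
  haveI := fib_finite π κ
  rw [ntd_identity π κ y]
  have h0 : ((presOfField κ (Fib (R := R) (B := B) κ)).cp
      (LinearMap.mulLeft κ ((1 : κ) ⊗ₜ[R] y))).coeff 0 ≠ 0 := by
    rw [presOfField_cp_coeff_zero]
    exact mul_ne_zero (pow_ne_zero _ (by simp)) ((det_mulLeft_ne_zero_iff κ _ _).mpr hy)
  rw [natTrailingDegree_eq_zero.mpr (Or.inr h0), zero_add]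

theorem ntd_of_not_isUnit (y : B) (hy : ¬ IsUnit ((1 : κ) ⊗ₜ[R] y : Fib (R := R) (B := B) κ)) :
    haveI := fib_finite π κ
    π.n < ((π.cp (LinearMap.mulLeft R y)).map (algebraMap R κ)).natTrailingDegree +
      Module.finrank κ (Fib (R := R) (B := B) κ) := by
  haveI := fib_finite π κ
  rw [ntd_identity π κ y]
  have h2 : (presOfField κ (Fib (R := R) (B := B) κ)).cp
      (LinearMap.mulLeft κ ((1 : κ) ⊗ₜ[R] y)) ≠ 0 := (Pres.cp_monic _ _).ne_zero
  have h0 : ((presOfField κ (Fib (R := R) (B := B) κ)).cp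
      (LinearMap.mulLeft κ ((1 : κ) ⊗ₜ[R] y))).coeff 0 = 0 := by
    rw [presOfField_cp_coeff_zero]
    have : LinearMap.det (LinearMap.mulLeft κ ((1 : κ) ⊗ₜ[R] y : Fib (R := R) (B := B) κ)) = 0 := by
      by_contra h
      exact hy ((det_mulLeft_ne_zero_iff κ _ _).mp h)
    rw [this, mul_zero]
  have h3 : ((presOfField κ (Fib (R := R) (B := B) κ)).cp
      (LinearMap.mulLeft κ ((1 : κ) ⊗ₜ[R] y))).natTrailingDegree ≠ 0 := by
    intro h
    rcases natTrailingDegree_eq_zero.mp h with h | h
    · exact h2 h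
    · exact h h0
  omega

end Fibre


section Core

variable {A B : Type u} [CommRing A] [CommRing B] [Algebra A B] (t : A →+* B) (e : B →+* A)
  (i : B →+* B) (π : Pres A B)

/-- the stabilised characteristic polynomial of `t f` acting on `B` -/
noncomputable def Qp (f : A) : A[X] := π.cp (LinearMap.mulLeft A (t f))

theorem Qp_monic (f : A) : (Qp t π f).Monic := π.cp_monic _

section
variable (hes : ∀ a, e (algebraMap A B a) = a) (het : ∀ a, e (t a) = a)
include hes het

theorem Qp_root (f : A) : (Qp t π f).eval f = 0 := by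
  have h1 : Polynomial.aeval (LinearMap.mulLeft A (t f)) (Qp t π f) = 0 := π.aeval_cp _
  have h2 : Polynomial.aeval (t f) (Qp t π f) = 0 := by
    have h3 : LinearMap.mulLeft A (t f) = Algebra.lmul A B (t f) := by
      ext z
      simp
    rw [h3, Polynomial.aeval_algHom_apply] at h1
    have := LinearMap.congr_fun h1 1
    simpa using this
  have h4 := congrArg e h2
  rw [Polynomial.aeval_def, Polynomial.hom_eval₂, map_zero] at h4
  have h5 : e.comp (algebraMap A B) = RingHom.id _ := RingHom.ext hes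
  rw [h5, het] at h4
  simpa [Polynomial.eval₂_id] using h4

end

variable (H3 : ∀ f : A, (Qp t π f).map (algebraMap A B) = (Qp t π f).map t)
include H3

theorem Qp_coeff_inv (f : A) (k : ℕ) :
    algebraMap A B ((Qp t π f).coeff k) = t ((Qp t π f).coeff k) := by
  rw [← Polynomial.coeff_map, ← Polynomial.coeff_map, H3]

section
variable (hes : ∀ a, e (algebraMap A B a) = a) (het : ∀ a, e (t a) = a)
include hes het

theorem isIntegral_eqLocus (x : A) :
    IsIntegral (RingHom.eqLocus (algebraMap A B) t) x := by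
  have hsub : (↑(Qp t π x).coeffs : Set A) ⊆ RingHom.eqLocus (algebraMap A B) t := by
    intro c hc
    obtain ⟨n, -, rfl⟩ := Polynomial.mem_coeffs_iff.mp hc
    exact Qp_coeff_inv t π H3 x n
  refine ⟨(Qp t π x).toSubring _ hsub, ?_, ?_⟩
  · exact (Polynomial.monic_toSubring _ _ hsub).mpr (Qp_monic t π x)
  · rw [← Polynomial.eval_map]
    have : ((Qp t π x).toSubring _ hsub).map
        (algebraMap (RingHom.eqLocus (algebraMap A B) t) A) = Qp t π x :=
      Polynomial.map_toSubring _ _ hsub
    rw [this, Qp_root t e π hes het]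

/-- incomparability for primes with the same invariant elements -/
theorem eq_of_le_of_same_inv (p p' : Ideal A) [p.IsPrime] (hle : p ≤ p')
    (hC : ∀ c, algebraMap A B c = t c → (c ∈ p ↔ c ∈ p')) : p = p' := by
  by_contra hne
  have hlt : p < p' := lt_of_le_of_ne hle hne
  obtain ⟨_, x, hx', hx⟩ := SetLike.lt_iff_le_and_exists.mp hlt
  have := Ideal.comap_lt_comap_of_integral_mem_sdiff (R := RingHom.eqLocus (algebraMap A B) t)
    hle ⟨hx', hx⟩ (isIntegral_eqLocus t e π H3 hes het x)
  obtain ⟨_, c, hc', hc⟩ := SetLike.lt_iff_le_and_exists.mp this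
  exact hc ((hC c.1 c.2).mpr hc')

end

omit H3 in
theorem isUnit_fib (p : Ideal A) [p.IsPrime] (y : B)
    (hy : ∀ q : Ideal B, q.IsPrime → q.comap (algebraMap A B) = p → y ∉ q) :
    IsUnit ((1 : p.ResidueField) ⊗ₜ[A] y : p.ResidueField ⊗[A] B) := by
  by_contra h
  obtain ⟨m, hm, hym⟩ := exists_max_ideal_of_mem_nonunits h
  haveI := hm.isPrime
  let ir : B →+* p.ResidueField ⊗[A] B :=
    (Algebra.TensorProduct.includeRight : B →ₐ[A] p.ResidueField ⊗[A] B).toRingHom
  refine hy (m.comap ir) (Ideal.comap_isPrime _ _) ?_ hym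
  ext a
  rw [Ideal.mem_comap, Ideal.mem_comap]
  have e1 : ir (algebraMap A B a) =
      (algebraMap A p.ResidueField a) ⊗ₜ[A] (1 : B) := by
    show (1 : p.ResidueField) ⊗ₜ[A] (algebraMap A B a) = _
    rw [Algebra.algebraMap_eq_smul_one, TensorProduct.tmul_smul, TensorProduct.smul_tmul',
      Algebra.algebraMap_eq_smul_one]
  rw [e1]
  constructor
  · intro hmem
    rw [← Ideal.algebraMap_residueField_eq_zero]
    by_contra hne
    have hu : IsUnit ((algebraMap A p.ResidueField a) ⊗ₜ[A] (1 : B) : p.ResidueField ⊗[A] B) :=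
      (IsUnit.mk0 _ hne).map
        (Algebra.TensorProduct.includeLeft : p.ResidueField →ₐ[p.ResidueField] p.ResidueField ⊗[A] B)
    exact hm.ne_top (Ideal.eq_top_of_isUnit_mem _ hmem hu)
  · intro ha
    rw [(Ideal.algebraMap_residueField_eq_zero).mpr ha, TensorProduct.zero_tmul]
    exact zero_mem _

omit H3 in
theorem not_isUnit_fib (hes : ∀ a, e (algebraMap A B a) = a) (het : ∀ a, e (t a) = a)
    (p : Ideal A) [p.IsPrime] (f : A) (hf : f ∈ p) :
    ¬ IsUnit ((1 : p.ResidueField) ⊗ₜ[A] (t f) : p.ResidueField ⊗[A] B) := by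
  intro hu
  let eAlg : B →ₐ[A] p.ResidueField :=
    { toRingHom := (algebraMap A p.ResidueField).comp e
      commutes' := fun a => by simp [hes] }
  let ε : p.ResidueField ⊗[A] B →ₐ[p.ResidueField] p.ResidueField :=
    Algebra.TensorProduct.lift (Algebra.ofId _ _) eAlg (fun _ _ => Commute.all _ _)
  have h1 : ε ((1 : p.ResidueField) ⊗ₜ[A] (t f)) = 0 := by
    have h0 := Algebra.TensorProduct.lift_tmul (Algebra.ofId p.ResidueField p.ResidueField) eAlg
      (fun _ _ => Commute.all _ _) (1 : p.ResidueField) (t f)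
    rw [map_one, one_mul] at h0
    refine h0.trans ?_
    show (algebraMap A p.ResidueField) (e (t f)) = 0
    rw [het]
    exact (Ideal.algebraMap_residueField_eq_zero).mpr hf
  exact (hu.map ε).ne_zero h1

theorem ntd_eq_of_same_inv (p₀ p₁ : Ideal A) [p₀.IsPrime] [p₁.IsPrime]
    (hC : ∀ c, algebraMap A B c = t c → (c ∈ p₀ ↔ c ∈ p₁)) (f : A) :
    ((Qp t π f).map (algebraMap A p₀.ResidueField)).natTrailingDegree =
      ((Qp t π f).map (algebraMap A p₁.ResidueField)).natTrailingDegree := by
  have hs : ((Qp t π f).map (algebraMap A p₀.ResidueField)).support =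
      ((Qp t π f).map (algebraMap A p₁.ResidueField)).support := by
    ext k
    rw [Polynomial.mem_support_iff, Polynomial.mem_support_iff, Polynomial.coeff_map,
      Polynomial.coeff_map, Ne, Ne, Ideal.algebraMap_residueField_eq_zero,
      Ideal.algebraMap_residueField_eq_zero, hC _ (Qp_coeff_inv t π H3 f k)]
  unfold Polynomial.natTrailingDegree Polynomial.trailingDegree
  rw [hs]

theorem half (hes : ∀ a, e (algebraMap A B a) = a) (het : ∀ a, e (t a) = a)
    (p₀ p₁ : Ideal A) [p₀.IsPrime] [p₁.IsPrime]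
    (hC : ∀ c, algebraMap A B c = t c → (c ∈ p₀ ↔ c ∈ p₁))
    (hno : ∀ q : Ideal B, q.IsPrime → q.comap (algebraMap A B) = p₁ → q.comap t ≠ p₀) :
    Module.finrank p₁.ResidueField (p₁.ResidueField ⊗[A] B) <
      Module.finrank p₀.ResidueField (p₀.ResidueField ⊗[A] B) := by
  haveI : Module.Finite A B := finite_of_pres π
  have hfin : (p₁.primesOver B).Finite := Algebra.QuasiFinite.finite_primesOver p₁
  have hav : ¬ ((p₀ : Set A) ⊆ ⋃ q ∈ (hfin.toFinset : Set (Ideal B)), ((q.comap t : Ideal A) : Set A)) := by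
    rw [Ideal.subset_union_prime (R := A) (f := fun q : Ideal B => q.comap t) ⊥ ⊥
      (fun q hq _ _ => by
        have hq' : q ∈ p₁.primesOver B := hfin.mem_toFinset.mp hq
        haveI := hq'.1
        exact Ideal.comap_isPrime _ _)]
    rintro ⟨q, hq, hle⟩
    have hq' : q ∈ p₁.primesOver B := hfin.mem_toFinset.mp hq
    obtain ⟨hqp, hqo⟩ := hq'
    haveI := hqp
    have hover : p₁ = q.comap (algebraMap A B) := hqo.over
    have := eq_of_le_of_same_inv t e π H3 hes het p₀ (q.comap t) hle (fun c hc => by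
      rw [hC c hc, hover, Ideal.mem_comap, Ideal.mem_comap, hc])
    exact hno q hqp hover.symm this.symm
  obtain ⟨f, hf0, hf⟩ := Set.not_subset.mp hav
  have hunit : IsUnit ((1 : p₁.ResidueField) ⊗ₜ[A] (t f) : p₁.ResidueField ⊗[A] B) :=
    isUnit_fib p₁ (t f) (fun q hq hqp hmem => hf (by
      refine Set.mem_biUnion (x := q) ?_ hmem
      exact hfin.mem_toFinset.mpr ⟨hq, ⟨hqp.symm⟩⟩))
  have hnot := not_isUnit_fib t e hes het p₀ f hf0
  have h1 := ntd_of_isUnit π p₁.ResidueField (t f) hunit
  have h0 := ntd_of_not_isUnit π p₀.ResidueField (t f) hnot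
  have heq := ntd_eq_of_same_inv t π H3 p₀ p₁ hC f
  unfold Qp at heq
  simp only [Fib] at h1 h0
  omega

/-- **Fibres are orbits**: two primes of `A` with the same invariant elements are linked by a
prime of `B`. -/
theorem exists_prime_link (hes : ∀ a, e (algebraMap A B a) = a) (het : ∀ a, e (t a) = a)
    (his : ∀ a, i (algebraMap A B a) = t a) (hit : ∀ a, i (t a) = algebraMap A B a)
    (p₀ p₁ : Ideal A) [p₀.IsPrime] [p₁.IsPrime]
    (hC : ∀ c, algebraMap A B c = t c → (c ∈ p₀ ↔ c ∈ p₁)) :
    ∃ q : Ideal B, q.IsPrime ∧ q.comap t = p₀ ∧ q.comap (algebraMap A B) = p₁ := by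
  by_contra hcon
  push Not at hcon
  have hno : ∀ q : Ideal B, q.IsPrime → q.comap (algebraMap A B) = p₁ → q.comap t ≠ p₀ :=
    fun q hq h1 h0 => hcon q hq h0 h1
  have hno' : ∀ q : Ideal B, q.IsPrime → q.comap (algebraMap A B) = p₀ → q.comap t ≠ p₁ := by
    intro q hq h0 h1
    refine hcon (q.comap i) (Ideal.comap_isPrime _ _) ?_ ?_
    · rw [← h0]
      ext a
      simp only [Ideal.mem_comap, hit]
    · rw [← h1]
      ext a
      simp only [Ideal.mem_comap, his]
  have hA := half t e π H3 hes het p₀ p₁ hC hno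
  have hB := half t e π H3 hes het p₁ p₀ (fun c hc => (hC c hc).symm) hno'
  omega

end Core

end Groth.Agent.Lib.Helper61.GrpdOrbit
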