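import Mathlib
import Groth.Agent.Lib.Helper61.GrpdOrbit

set_option autoImplicit false
set_option maxHeartbeats 400000
universe u

open Polynomial TensorProduct
open Groth.Agent.Lib.Helper15.ProjCharpoly

namespace Groth.Agent.Lib.Helper61.GrpdOrbit

/-- extension of a point with values in an algebraically closed field along an integral map,
with prescribed kernel -/
theorem exists_ringHom_ext {R S : Type u} [CommRing R] [CommRing S] (φ : R →+* S)
    (hφ : φ.IsIntegral) (q : Ideal S) [q.IsPrime] (k : Type u) [Field k] [IsAlgClosed k]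
    (x : R →+* k) (hx : RingHom.ker x = q.comap φ) :
    ∃ ρ : S →+* k, ρ.comp φ = x ∧ RingHom.ker ρ = q := by
  set p : Ideal R := q.comap φ with hp
  haveI : p.IsPrime := Ideal.comap_isPrime _ _
  let ψ : R ⧸ p →+* S ⧸ q := Ideal.quotientMap q φ le_rfl
  have hψinj : Function.Injective ψ := Ideal.quotientMap_injective
  have hψint : ψ.IsIntegral := hφ.quotient
  let xb : R ⧸ p →+* k := Ideal.Quotient.lift p x (fun a ha => by
    rw [← RingHom.mem_ker, hx]; exact ha)
  have hxb : Function.Injective xb := by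
    rw [injective_iff_map_eq_zero]
    intro a ha
    obtain ⟨a, rfl⟩ := Ideal.Quotient.mk_surjective a
    rw [Ideal.Quotient.eq_zero_iff_mem, ← hx, RingHom.mem_ker]
    simpa [xb] using ha
  letI : Algebra (R ⧸ p) (S ⧸ q) := ψ.toAlgebra
  letI : Algebra (R ⧸ p) k := xb.toAlgebra
  haveI : Module.IsTorsionFree (R ⧸ p) (S ⧸ q) :=
    Module.isTorsionFree_iff_algebraMap_injective.mpr hψinj
  haveI : Module.IsTorsionFree (R ⧸ p) k :=
    Module.isTorsionFree_iff_algebraMap_injective.mpr hxb
  haveI : Algebra.IsIntegral (R ⧸ p) (S ⧸ q) := ⟨hψint⟩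
  let l : S ⧸ q →ₐ[R ⧸ p] k := IsAlgClosed.lift
  have hl : Function.Injective l := by
    rw [injective_iff_map_eq_zero]
    intro a ha
    have hker : RingHom.ker (l : S ⧸ q →+* k) = ⊥ := by
      haveI : (RingHom.ker (l : S ⧸ q →+* k)).IsPrime := RingHom.ker_isPrime _
      apply Ideal.eq_bot_of_comap_eq_bot (R := R ⧸ p)
      rw [eq_bot_iff]
      intro b hb
      rw [Ideal.mem_comap, RingHom.mem_ker] at hb
      have : l (algebraMap (R ⧸ p) (S ⧸ q) b) = algebraMap (R ⧸ p) k b := l.commutes b
      have h0 : xb b = 0 := by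
        have h1 : (l : S ⧸ q →+* k) (algebraMap (R ⧸ p) (S ⧸ q) b) = xb b := this
        rw [← h1, hb]
      exact (Ideal.mem_bot).mpr (hxb (by rw [h0, map_zero]))
    have : a ∈ RingHom.ker (l : S ⧸ q →+* k) := ha
    rw [hker] at this
    exact this
  refine ⟨(l : S ⧸ q →+* k).comp (Ideal.Quotient.mk q), ?_, ?_⟩
  · ext r
    show l (Ideal.Quotient.mk q (φ r)) = x r
    have : l (algebraMap (R ⧸ p) (S ⧸ q) (Ideal.Quotient.mk p r)) =
        algebraMap (R ⧸ p) k (Ideal.Quotient.mk p r) := l.commutes _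
    exact this
  · ext a
    rw [RingHom.mem_ker]
    show l (Ideal.Quotient.mk q a) = 0 ↔ _
    rw [← Ideal.Quotient.eq_zero_iff_mem]
    constructor
    · intro h
      exact hl (by rw [h, map_zero])
    · intro h
      rw [h, map_zero]

end Groth.Agent.Lib.Helper61.GrpdOrbit
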