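import Mathlib
import Groth.Agent.Lib.Helper61.GrpdOrbit
import Groth.Agent.S1879
import Groth.Agent.Lib.Helper61.GrpdExt

set_option autoImplicit false
set_option maxHeartbeats 400000
universe u

open Polynomial TensorProduct
open Groth.Agent.Lib.Helper15.ProjCharpoly
open CategoryTheory CategoryTheory.Limits

namespace Groth.Agent.Lib.Helper61.GrpdOrbit

/-- polynomial functor on CommRingCat morphisms -/
noncomputable def Pm (I : Type u) {R S : CommRingCat.{u}} (f : R ⟶ S) :
    CommRingCat.of (MvPolynomial I R) ⟶ CommRingCat.of (MvPolynomial I S) :=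
  CommRingCat.ofHom (MvPolynomial.map f.hom)

section
attribute [local instance] MvPolynomial.algebraMvPolynomial

theorem tower_mvPoly (I : Type u) (R S T : Type u) [CommRing R] [CommRing S] [CommRing T]
    [Algebra R S] [Algebra S T] [Algebra R T] [IsScalarTower R S T] :
    IsScalarTower (MvPolynomial I R) (MvPolynomial I S) (MvPolynomial I T) :=
  IsScalarTower.of_algebraMap_eq' (by
    show MvPolynomial.map (algebraMap R T) =
      (MvPolynomial.map (algebraMap S T)).comp (MvPolynomial.map (algebraMap R S))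
    refine RingHom.ext fun p => ?_
    rw [RingHom.comp_apply, MvPolynomial.map_map, ← IsScalarTower.algebraMap_eq])

theorem tower_mvPoly' (I : Type u) (R S T : Type u) [CommRing R] [CommRing S] [CommRing T]
    [Algebra R S] [Algebra S T] [Algebra R T] [IsScalarTower R S T] :
    IsScalarTower R (MvPolynomial I S) (MvPolynomial I T) :=
  IsScalarTower.of_algebraMap_eq' (by
    refine RingHom.ext fun r => ?_
    rw [RingHom.comp_apply, MvPolynomial.algebraMap_apply, MvPolynomial.algebraMap_apply,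
      MvPolynomial.algebraMap_def, MvPolynomial.map_C, ← IsScalarTower.algebraMap_apply])

theorem algebra_isPushout_mvPoly (I : Type u) (R S R' S' : Type u) [CommRing R] [CommRing S]
    [CommRing R'] [CommRing S'] [Algebra R S] [Algebra R R'] [Algebra S S'] [Algebra R' S']
    [Algebra R S'] [IsScalarTower R S S'] [IsScalarTower R R' S'] [Algebra.IsPushout R R' S S'] :
    haveI := tower_mvPoly I R R' S'
    haveI := tower_mvPoly I R S S'
    Algebra.IsPushout (MvPolynomial I R) (MvPolynomial I R') (MvPolynomial I S)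
      (MvPolynomial I S') := by
  haveI := tower_mvPoly I R R' S'
  haveI := tower_mvPoly I R S S'
  haveI := tower_mvPoly' I R R' S'
  haveI := tower_mvPoly' I R S S'
  -- big rectangle
  have big : Algebra.IsPushout R (MvPolynomial I R') S (MvPolynomial I S') := by
    rw [Algebra.IsPushout.comp_iff R R' S (S' := S')]
    infer_instance
  rw [← Algebra.IsPushout.comp_iff R (MvPolynomial I R) S (S' := MvPolynomial I S)]
  exact big

theorem isPushout_Pm (I : Type u) {R S R' S' : CommRingCat.{u}} {f : R ⟶ S} {g : R ⟶ R'}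
    {h : S ⟶ S'} {k : R' ⟶ S'} (H : IsPushout f g h k) :
    IsPushout (Pm I f) (Pm I g) (Pm I h) (Pm I k) := by
  letI : Algebra R S := f.hom.toAlgebra
  letI : Algebra R R' := g.hom.toAlgebra
  letI : Algebra S S' := h.hom.toAlgebra
  letI : Algebra R' S' := k.hom.toAlgebra
  letI : Algebra R S' := (f ≫ h).hom.toAlgebra
  haveI : IsScalarTower R S S' := .of_algebraMap_eq' rfl
  haveI : IsScalarTower R R' S' := .of_algebraMap_eq' (by
    show (f ≫ h).hom = (g ≫ k).hom
    rw [H.w])
  haveI : Algebra.IsPushout R R' S S' := CommRingCat.isPushout_iff_isPushout.mp H.flip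
  haveI := tower_mvPoly I R R' S'
  haveI := tower_mvPoly I R S S'
  have key := algebra_isPushout_mvPoly I R S R' S'
  have := CommRingCat.isPushout_iff_isPushout.mpr key
  exact this.flip

end


theorem Pm_comp (I : Type u) {R S T : CommRingCat.{u}} (f : R ⟶ S) (g : S ⟶ T) :
    Pm I (f ≫ g) = Pm I f ≫ Pm I g := by
  apply CommRingCat.hom_ext
  refine RingHom.ext fun p => ?_
  show MvPolynomial.map (f ≫ g).hom p = MvPolynomial.map g.hom (MvPolynomial.map f.hom p)
  rw [MvPolynomial.map_map]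
  rfl

theorem Pm_id (I : Type u) (R : CommRingCat.{u}) : Pm I (𝟙 R) = 𝟙 _ := by
  apply CommRingCat.hom_ext
  refine RingHom.ext fun p => ?_
  show MvPolynomial.map (𝟙 R : R ⟶ R).hom p = p
  exact MvPolynomial.map_id p

/-- ring-level data of an affine groupoid with finite locally free source map -/
structure RG where
  A : CommRingCat.{u}
  B : CommRingCat.{u}
  Y : CommRingCat.{u}
  s : A ⟶ B
  t : A ⟶ B
  e : B ⟶ A
  i : B ⟶ B
  p1 : B ⟶ Y
  p2 : B ⟶ Y
  c : B ⟶ Y
  es : s ≫ e = 𝟙 A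
  et : t ≫ e = 𝟙 A
  si : s ≫ i = t
  ti : t ≫ i = s
  Q1 : IsPushout t s p2 p1
  Q2 : IsPushout s s p2 c
  hct : t ≫ c = t ≫ p1
  pres : letI : Algebra A B := s.hom.toAlgebra; Nonempty (Pres A B)

namespace RG

variable (G : RG.{u})

theorem H3 (π : letI : Algebra G.A G.B := G.s.hom.toAlgebra; Pres G.A G.B) (f : G.A) :
    letI : Algebra G.A G.B := G.s.hom.toAlgebra
    (Qp G.t.hom π f).map G.s.hom = (Qp G.t.hom π f).map G.t.hom := by
  letI : Algebra G.A G.B := G.s.hom.toAlgebra
  have e : G.c.hom (G.t.hom f) = G.p1.hom (G.t.hom f) := by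
    have := congrArg (fun φ => φ.hom f) G.hct
    simpa using this
  exact Groth.Agent.S1879.cp_of_two_pushouts G.Q2 G.Q1 π (G.t.hom f) e

theorem link (p₀ p₁ : Ideal G.A) [p₀.IsPrime] [p₁.IsPrime]
    (hC : ∀ c, G.s.hom c = G.t.hom c → (c ∈ p₀ ↔ c ∈ p₁)) :
    ∃ q : Ideal G.B, q.IsPrime ∧ q.comap G.t.hom = p₀ ∧ q.comap G.s.hom = p₁ := by
  letI : Algebra G.A G.B := G.s.hom.toAlgebra
  obtain ⟨π⟩ := G.pres
  have hes : ∀ a, G.e.hom (G.s.hom a) = a := fun a => by
    have := congrArg (fun φ => φ.hom a) G.es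
    simpa using this
  have het : ∀ a, G.e.hom (G.t.hom a) = a := fun a => by
    have := congrArg (fun φ => φ.hom a) G.et
    simpa using this
  have his : ∀ a, G.i.hom (G.s.hom a) = G.t.hom a := fun a => by
    have := congrArg (fun φ => φ.hom a) G.si
    simpa using this
  have hit : ∀ a, G.i.hom (G.t.hom a) = G.s.hom a := fun a => by
    have := congrArg (fun φ => φ.hom a) G.ti
    simpa using this
  exact exists_prime_link G.t.hom G.e.hom G.i.hom π (G.H3 π) hes het his hit p₀ p₁ hC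

theorem isIntegral_inv (x : G.A) : IsIntegral (RingHom.eqLocus G.s.hom G.t.hom) x := by
  letI : Algebra G.A G.B := G.s.hom.toAlgebra
  obtain ⟨π⟩ := G.pres
  have hes : ∀ a, G.e.hom (G.s.hom a) = a := fun a => by
    have := congrArg (fun φ => φ.hom a) G.es
    simpa using this
  have het : ∀ a, G.e.hom (G.t.hom a) = a := fun a => by
    have := congrArg (fun φ => φ.hom a) G.et
    simpa using this
  exact isIntegral_eqLocus G.t.hom G.e.hom π (G.H3 π) hes het x

theorem s_isIntegral : G.s.hom.IsIntegral := by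
  letI : Algebra G.A G.B := G.s.hom.toAlgebra
  obtain ⟨π⟩ := G.pres
  haveI : Module.Finite G.A G.B := finite_of_pres π
  exact (Algebra.IsIntegral.of_finite G.A G.B).isIntegral

section
attribute [local instance] MvPolynomial.algebraMvPolynomial

theorem isPushout_C (I : Type u) {R S : CommRingCat.{u}} (f : R ⟶ S) :
    IsPushout (CommRingCat.ofHom (algebraMap R (MvPolynomial I R))) f (Pm I f)
      (CommRingCat.ofHom (algebraMap S (MvPolynomial I S))) := by
  letI : Algebra R S := f.hom.toAlgebra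
  have := (CommRingCat.isPushout_iff_isPushout (R := R) (R' := MvPolynomial I R) (S := S)
    (S' := MvPolynomial I S)).mpr inferInstance
  exact this

end

/-- the polynomial extension of the data -/
noncomputable def poly (I : Type u) : RG.{u} where
  A := CommRingCat.of (MvPolynomial I G.A)
  B := CommRingCat.of (MvPolynomial I G.B)
  Y := CommRingCat.of (MvPolynomial I G.Y)
  s := Pm I G.s
  t := Pm I G.t
  e := Pm I G.e
  i := Pm I G.i
  p1 := Pm I G.p1
  p2 := Pm I G.p2
  c := Pm I G.c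
  es := by rw [← Pm_comp, G.es, Pm_id]
  et := by rw [← Pm_comp, G.et, Pm_id]
  si := by rw [← Pm_comp, G.si]
  ti := by rw [← Pm_comp, G.ti]
  Q1 := isPushout_Pm I G.Q1
  Q2 := isPushout_Pm I G.Q2
  hct := by rw [← Pm_comp, ← Pm_comp, G.hct]
  pres := by
    letI : Algebra G.A G.B := G.s.hom.toAlgebra
    obtain ⟨π⟩ := G.pres
    exact Groth.Agent.S1879.exists_pres_of_isPushout (isPushout_C I G.s) π

theorem poly_link (I : Type u) (P₀ P₁ : Ideal (MvPolynomial I G.A)) [P₀.IsPrime] [P₁.IsPrime]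
    (hC : ∀ F : MvPolynomial I G.A,
      MvPolynomial.map G.s.hom F = MvPolynomial.map G.t.hom F → (F ∈ P₀ ↔ F ∈ P₁)) :
    ∃ q : Ideal (MvPolynomial I G.B), q.IsPrime ∧ q.comap (MvPolynomial.map G.t.hom) = P₀ ∧
      q.comap (MvPolynomial.map G.s.hom) = P₁ :=
  @RG.link (G.poly I) P₀ P₁ ‹_› ‹_› hC

theorem poly_s_isIntegral (I : Type u) : (MvPolynomial.map (σ := I) G.s.hom).IsIntegral :=
  (G.poly I).s_isIntegral

theorem kpoints (k : Type u) [Field k] [IsAlgClosed k] (x₀ x₁ : G.A →+* k)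
    (hx : ∀ c, G.s.hom c = G.t.hom c → x₀ c = x₁ c) :
    ∃ ρ : G.B →+* k, ρ.comp G.t.hom = x₀ ∧ ρ.comp G.s.hom = x₁ := by
  let ev₀ : MvPolynomial G.A G.A →+* k := MvPolynomial.eval₂Hom x₀ (fun a : G.A => x₀ a)
  let ev₁ : MvPolynomial G.A G.A →+* k := MvPolynomial.eval₂Hom x₁ (fun a : G.A => x₀ a)
  haveI : (RingHom.ker ev₀).IsPrime := RingHom.ker_isPrime ev₀
  haveI : (RingHom.ker ev₁).IsPrime := RingHom.ker_isPrime ev₁
  have hev : ∀ F : MvPolynomial G.A G.A,
      MvPolynomial.map G.s.hom F = MvPolynomial.map G.t.hom F → ev₀ F = ev₁ F := by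
    intro F hF
    have hc : ∀ m, x₀ (F.coeff m) = x₁ (F.coeff m) := fun m => hx _ (by
      have := congrArg (MvPolynomial.coeff m) hF
      rwa [MvPolynomial.coeff_map, MvPolynomial.coeff_map] at this)
    show MvPolynomial.eval₂ x₀ _ F = MvPolynomial.eval₂ x₁ _ F
    rw [MvPolynomial.eval₂_eq, MvPolynomial.eval₂_eq]
    exact Finset.sum_congr rfl (fun m _ => by rw [hc m])
  obtain ⟨q, hq, hq0, hq1⟩ := G.poly_link G.A (RingHom.ker ev₀) (RingHom.ker ev₁) (fun F hF => by
    rw [RingHom.mem_ker, RingHom.mem_ker, hev F hF])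
  obtain ⟨ρ', hρ', hker⟩ := exists_ringHom_ext (MvPolynomial.map G.s.hom) (G.poly_s_isIntegral G.A)
    q k ev₁ hq1.symm
  have hρs : ∀ F : MvPolynomial G.A G.A, ρ' (MvPolynomial.map G.s.hom F) = ev₁ F := fun F =>
    RingHom.congr_fun hρ' F
  refine ⟨ρ'.comp (MvPolynomial.C : G.B →+* MvPolynomial G.A G.B), ?_, ?_⟩
  · ext a
    show ρ' (MvPolynomial.C (G.t.hom a)) = x₀ a
    have h1 : (MvPolynomial.C a - MvPolynomial.X a : MvPolynomial G.A G.A) ∈ RingHom.ker ev₀ := by
      rw [RingHom.mem_ker, map_sub]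
      show MvPolynomial.eval₂ x₀ _ (MvPolynomial.C a) - MvPolynomial.eval₂ x₀ _ (MvPolynomial.X a) = 0
      rw [MvPolynomial.eval₂_C, MvPolynomial.eval₂_X, sub_self]
    rw [← hq0, Ideal.mem_comap, ← hker, RingHom.mem_ker] at h1
    have h2 : ρ' (MvPolynomial.map G.t.hom (MvPolynomial.C a - MvPolynomial.X a)) = 0 := h1
    rw [map_sub, MvPolynomial.map_C, MvPolynomial.map_X, map_sub, sub_eq_zero] at h2
    rw [h2]
    have h3 := hρs (MvPolynomial.X a)
    rw [MvPolynomial.map_X] at h3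
    rw [h3]
    show MvPolynomial.eval₂ x₁ _ (MvPolynomial.X a) = x₀ a
    rw [MvPolynomial.eval₂_X]
  · ext a
    show ρ' (MvPolynomial.C (G.s.hom a)) = x₁ a
    have h3 := hρs (MvPolynomial.C a)
    rw [MvPolynomial.map_C] at h3
    rw [h3]
    show MvPolynomial.eval₂ x₁ _ (MvPolynomial.C a) = x₁ a
    rw [MvPolynomial.eval₂_C]

theorem subtype_isIntegral : (RingHom.eqLocus G.s.hom G.t.hom).subtype.IsIntegral :=
  fun x => G.isIntegral_inv x

theorem exists_prime_over (P : Ideal (RingHom.eqLocus G.s.hom G.t.hom)) [P.IsPrime] :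
    ∃ Q : Ideal G.A, Q.IsPrime ∧ Q.comap (RingHom.eqLocus G.s.hom G.t.hom).subtype = P := by
  haveI : Algebra.IsIntegral (RingHom.eqLocus G.s.hom G.t.hom) G.A := ⟨fun x => G.isIntegral_inv x⟩
  obtain ⟨Q, -, hQ, hQP⟩ := Ideal.exists_ideal_over_prime_of_isIntegral P (⊥ : Ideal G.A) (by
    intro c hc
    rw [Ideal.mem_comap, Ideal.mem_bot] at hc
    have : c = 0 := Subtype.ext hc
    rw [this]
    exact zero_mem _)
  exact ⟨Q, hQ, hQP⟩

theorem lift_point (k : Type u) [Field k] [IsAlgClosed k]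
    (m : RingHom.eqLocus G.s.hom G.t.hom →+* k) :
    ∃ x : G.A →+* k, x.comp (RingHom.eqLocus G.s.hom G.t.hom).subtype = m := by
  haveI : (RingHom.ker m).IsPrime := RingHom.ker_isPrime m
  obtain ⟨Q, hQ, hQP⟩ := G.exists_prime_over (RingHom.ker m)
  obtain ⟨x, hx, -⟩ := exists_ringHom_ext (RingHom.eqLocus G.s.hom G.t.hom).subtype
    G.subtype_isIntegral Q k m hQP.symm
  exact ⟨x, hx⟩

end RG

end Groth.Agent.Lib.Helper61.GrpdOrbit
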