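import Mathlib

set_option autoImplicit false
universe u
open CategoryTheory CategoryTheory.Limits AlgebraicGeometry

namespace Groth.Agent.Lib.Helper61.ContrISO

/-- ring core: an integral extension of an integrally closed domain which is birational is trivial -/
theorem ring_core {A A' B C K : Type*} [CommRing A] [CommRing A'] [CommRing B] [CommRing C]
    [IsDomain A] [IsIntegrallyClosed A] [Field K] [Algebra A K] [IsFractionRing A K]
    (ρ : A →+* A') (ι : A' →+* K) (hι : Function.Injective ι)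
    (hcomp : ∀ a, ι (ρ a) = algebraMap A K a)
    (φ : A →+* B) (hint : φ.IsIntegral)
    (β : B →+* C) (hβ : Function.Injective β)
    (γ : A' →+* C) (hγ : Function.Bijective γ)
    (hcomm : ∀ a, β (φ a) = γ (ρ a)) :
    Function.Surjective φ := by
  intro b
  obtain ⟨a', ha'⟩ := hγ.2 (β b)
  obtain ⟨q, hq, hqb⟩ := hint b
  -- a' satisfies q
  have h1 : Polynomial.eval₂ ρ a' q = 0 := by
    apply hγ.1
    rw [map_zero, Polynomial.hom_eval₂, ha']
    have : γ.comp ρ = β.comp φ := by
      ext a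
      exact (hcomm a).symm
    rw [this, ← Polynomial.hom_eval₂, hqb, map_zero]
  have h2 : Polynomial.eval₂ (algebraMap A K) (ι a') q = 0 := by
    have : algebraMap A K = ι.comp ρ := by
      ext a
      exact (hcomp a).symm
    rw [this, ← Polynomial.hom_eval₂, h1, map_zero]
  have h3 : IsIntegral A (ι a') := ⟨q, hq, h2⟩
  obtain ⟨a, ha⟩ := IsIntegrallyClosed.algebraMap_eq_of_integral h3
  refine ⟨a, hβ ?_⟩
  rw [hcomm, ← ha']
  congr 1
  apply hι
  rw [hcomp, ha]

/-- pullback of sections along a dominant morphism to a reduced scheme is injective -/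
theorem app_injective_of_isDominant {X Z : Scheme.{u}} [IsReduced Z] (t : X ⟶ Z) [IsDominant t]
    (U : Z.Opens) : Function.Injective (t.app U) := by
  rw [injective_iff_map_eq_zero]
  intro s hs
  rw [← basicOpen_eq_bot_iff]
  by_contra hne
  have hne' : ((Z.basicOpen s : Z.Opens) : Set Z).Nonempty := by
    rw [Set.nonempty_iff_ne_empty]
    intro h
    apply hne
    ext z
    simp [h]
  obtain ⟨z, hz, x, rfl⟩ := (t.denseRange).inter_open_nonempty _ (Z.basicOpen s).isOpen hne'
  have hx : x ∈ t ⁻¹ᵁ Z.basicOpen s := hz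
  rw [Scheme.preimage_basicOpen, hs, Scheme.basicOpen_zero] at hx
  exact hx

/-- Sections of a normal integral scheme over an affine open are integrally closed. -/
theorem isIntegrallyClosed_of_isAffineOpen {Y : Scheme.{u}} [IsIntegral Y]
    (hnY : ∀ y : Y, IsIntegrallyClosed (Y.presheaf.stalk y)) {U : Y.Opens} (hU : IsAffineOpen U)
    [Nonempty U] : IsIntegrallyClosed Γ(Y, U) := by
  apply IsIntegrallyClosed.of_localization_maximal
  intro P _ hP
  have hmem : hU.fromSpec ⟨P, hP.isPrime⟩ ∈ U := by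
    have h1 : hU.fromSpec ⟨P, hP.isPrime⟩ ∈ Set.range hU.fromSpec := Set.mem_range_self _
    rw [hU.range_fromSpec] at h1
    exact h1
  letI := Y.presheaf.algebra_section_stalk ⟨hU.fromSpec ⟨P, hP.isPrime⟩, hmem⟩
  have : IsLocalization.AtPrime (Y.presheaf.stalk (hU.fromSpec ⟨P, hP.isPrime⟩)) P :=
    hU.isLocalization_stalk' ⟨P, hP.isPrime⟩ hmem
  haveI := hnY (hU.fromSpec ⟨P, hP.isPrime⟩)
  exact IsIntegrallyClosed.of_equiv (IsLocalization.algEquiv P.primeCompl
    (Y.presheaf.stalk (hU.fromSpec ⟨P, hP.isPrime⟩)) (Localization.AtPrime P)).toRingEquiv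

set_option backward.isDefEq.respectTransparency false in
theorem isIso_of_app_bijective {Z Y : Scheme.{u}} (p : Z ⟶ Y) [IsFinite p]
    (key : ∀ W : Y.Opens, IsAffineOpen W → Function.Bijective (p.app W)) : IsIso p := by
  rw [← MorphismProperty.isomorphisms.iff]
  rw [HasAffineProperty.iff_of_iSup_eq_top (P := MorphismProperty.isomorphisms Scheme) _ (iSup_affineOpens_eq_top Y)]
  intro U
  refine ⟨U.2.preimage p, ?_⟩
  have hb := key (U.1.ι ''ᵁ ⊤) (by rw [Scheme.Opens.ι_image_top]; exact U.2)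
  have : IsIso (p.app (U.1.ι ''ᵁ ⊤)) := (ConcreteCategory.isIso_iff_bijective _).2 hb
  rw [Scheme.Hom.appTop, morphismRestrict_app]
  infer_instance

theorem isIso_of_isFinite_of_factor {X Z Y : Scheme.{u}} [IsIntegral X] [IsIntegral Z] [IsIntegral Y] (hnor : ∀ y : Y, IsIntegrallyClosed (Y.presheaf.stalk y)) (t : X ⟶ Z) [IsDominant t] (p : Z ⟶ Y) [IsFinite p] (V : Y.Opens) (hV : (V : Set Y).Nonempty) (hiso : IsIso ((t ≫ p) ∣_ V)) : IsIso p := by
  -- reduce to affine opens of Y
  apply isIso_of_app_bijective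
  intro W hW
  by_cases hWne : (W : Set Y).Nonempty
  swap
  · -- empty case
    have hW0 : W = ⊥ := by
      ext y
      simp only [Set.not_nonempty_iff_eq_empty] at hWne
      simp [hWne]
    subst hW0
    have : Subsingleton Γ(Z, p ⁻¹ᵁ ⊥) := inferInstanceAs (Subsingleton Γ(Z, ⊥))
    have : Subsingleton Γ(Y, ⊥) := inferInstance
    exact ⟨Function.injective_of_subsingleton _, fun b => ⟨0, Subsingleton.elim _ _⟩⟩
  -- main case
  have : Nonempty W := hWne.to_subtype
  have : IsIntegrallyClosed Γ(Y, W) := isIntegrallyClosed_of_isAffineOpen hnor hW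
  have : IsFractionRing Γ(Y, W) Y.functionField := functionField_isFractionRing_of_isAffineOpen Y W hW
  -- the smaller open
  obtain ⟨W', hW'def⟩ : ∃ W' : Y.Opens, W' = V.ι ''ᵁ (V.ι ⁻¹ᵁ W) := ⟨_, rfl⟩
  have hW'W : W' ≤ W := by
    rw [hW'def]
    rintro _ ⟨y, hy, rfl⟩
    exact hy
  have hW'ne : (W' : Set Y).Nonempty := by
    rw [hW'def]
    obtain ⟨y, hyW, hyV⟩ := nonempty_preirreducible_inter W.isOpen V.isOpen hWne hV
    exact ⟨y, ⟨⟨y, hyV⟩, hyW, rfl⟩⟩
  have : Nonempty W' := hW'ne.to_subtype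
  -- γ
  have hγiso : IsIso ((t ≫ p).app W') := by
    rw [hW'def]
    have h1 : IsIso (((t ≫ p) ∣_ V).app (V.ι ⁻¹ᵁ W)) := inferInstance
    rw [morphismRestrict_app] at h1
    exact @IsIso.of_isIso_comp_right _ _ _ _ _ _
      (X.presheaf.map (eqToHom (image_morphismRestrict_preimage (t ≫ p) V (V.ι ⁻¹ᵁ W))).op) inferInstance h1
  have hγ : Function.Bijective ((t ≫ p).app W') := (ConcreteCategory.isIso_iff_bijective _).1 hγiso
  -- nonemptiness of the preimage
  have hle : (t ≫ p) ⁻¹ᵁ W' ≤ t ⁻¹ᵁ (p ⁻¹ᵁ W) := by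
    intro x hx
    exact hW'W hx
  have : Nonempty ((t ≫ p) ⁻¹ᵁ W' : X.Opens) := by
    by_contra hemp
    rw [not_nonempty_iff] at hemp
    have hbot : (t ≫ p) ⁻¹ᵁ W' = ⊥ := by
      ext x
      simp only [TopologicalSpace.Opens.coe_bot, Set.mem_empty_iff_false, iff_false]
      intro hx
      exact hemp.false ⟨x, hx⟩
    have : Subsingleton Γ(X, (t ≫ p) ⁻¹ᵁ W') := by
      rw [hbot]; infer_instance
    have : (1 : Γ(Y, W')) = 0 := hγ.1 (Subsingleton.elim _ _)
    exact one_ne_zero this
  -- β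
  let βc : Γ(Z, p ⁻¹ᵁ W) ⟶ Γ(X, (t ≫ p) ⁻¹ᵁ W') := t.app (p ⁻¹ᵁ W) ≫ X.presheaf.map (homOfLE hle).op
  have hβ : Function.Injective βc := by
    have h1 : Function.Injective (t.app (p ⁻¹ᵁ W)) := app_injective_of_isDominant t _
    have h2 : Function.Injective (X.presheaf.map (homOfLE hle).op) := map_injective_of_isIntegral X (homOfLE hle)
    intro a b hab
    exact h1 (h2 hab)
  have hcommCat : p.app W ≫ βc = Y.presheaf.map (homOfLE hW'W).op ≫ (t ≫ p).app W' := by
    rw [Scheme.Hom.naturality, Scheme.Hom.comp_app]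
    exact (Category.assoc _ _ _).symm
  have hcomm : ∀ a, βc.hom ((p.app W).hom a) = ((t ≫ p).app W').hom ((Y.presheaf.map (homOfLE hW'W).op).hom a) := by
    intro a
    exact congrArg (fun m => m.hom a) hcommCat
  have hρinj : Function.Injective (Y.presheaf.map (homOfLE hW'W).op).hom := map_injective_of_isIntegral Y (homOfLE hW'W)
  have hcomp : ∀ a, (Y.germToFunctionField W').hom ((Y.presheaf.map (homOfLE hW'W).op).hom a) = algebraMap Γ(Y, W) Y.functionField a := by
    intro a
    rw [RingHom.algebraMap_toAlgebra]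
    exact Y.presheaf.germ_res_apply _ _ _ _
  have hsurj : Function.Surjective (p.app W).hom :=
    ring_core (K := Y.functionField) (Y.presheaf.map (homOfLE hW'W).op).hom (Y.germToFunctionField W').hom
      (Y.germToFunctionField_injective W') hcomp (p.app W).hom ((p.finite_app W hW).to_isIntegral) βc.hom hβ
      ((t ≫ p).app W').hom hγ hcomm
  refine ⟨?_, hsurj⟩
  have hinj2 : Function.Injective (fun a => βc.hom ((p.app W).hom a)) := by
    have : (fun a => βc.hom ((p.app W).hom a)) = (fun a => ((t ≫ p).app W').hom ((Y.presheaf.map (homOfLE hW'W).op).hom a)) := funext hcomm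
    rw [this]
    exact hγ.1.comp hρinj
  exact Function.Injective.of_comp hinj2

end Groth.Agent.Lib.Helper61.ContrISO
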