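import Groth.Agent.S0543
import Groth.Agent.Lib.Helper61.MvPSIdeal
import Mathlib.RingTheory.MvPowerSeries.Rename
import Mathlib.RingTheory.MvPowerSeries.Trunc

/-!
Universe-polymorphic evaluation of power series (finitely many variables) at a family `b` in an
algebra adically complete for the ideal generated by `b`; and uniqueness of algebra maps out of a
power series ring into an adically separated algebra.
-/

set_option autoImplicit false
universe u v w

namespace Groth.Agent.Lib.Helper61.PSEval2

/-- Evaluation of power series at a family `b` in a ring complete for the ideal generated by `b`. -/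
theorem exists_eval_fin {k : Type u} {R : Type v} [CommRing k] [CommRing R] [Algebra k R]
    {d : ℕ} (b : Fin d → R) [IsAdicComplete (Ideal.span (Set.range b)) R] :
    ∃ ψ : MvPowerSeries (Fin d) k →ₐ[k] R, ∀ i, ψ (MvPowerSeries.X i) = b i := by
  let e : R ≃ₐ[R] AdicCompletion (Ideal.span (Set.range b)) R :=
    AdicCompletion.ofAlgEquiv (Ideal.span (Set.range b))
  let ψ₀ : MvPowerSeries (Fin d) k →+* R :=
    (e.symm : AdicCompletion (Ideal.span (Set.range b)) R →+* R).comp
      ((Groth.Agent.S0543.psMap b).comp (MvPowerSeries.map (algebraMap k R)))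
  have hcomm : ∀ c : k, ψ₀ (algebraMap k (MvPowerSeries (Fin d) k) c) = algebraMap k R c := by
    intro c
    have h1 : algebraMap k (MvPowerSeries (Fin d) k) c = MvPowerSeries.C c := rfl
    have h2 : (MvPowerSeries.C (algebraMap k R c) : MvPowerSeries (Fin d) R) =
        ((MvPolynomial.C (algebraMap k R c) : MvPolynomial (Fin d) R) :
          MvPowerSeries (Fin d) R) := (MvPolynomial.coe_C _).symm
    simp only [ψ₀, RingHom.comp_apply, RingHom.coe_coe]
    rw [h1, MvPowerSeries.map_C, h2, Groth.Agent.S0543.psMap_coe, MvPolynomial.aeval_C]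
    exact AdicCompletion.ofAlgEquiv_symm_of _ _
  refine ⟨{ ψ₀ with commutes' := hcomm }, fun i => ?_⟩
  change ψ₀ (MvPowerSeries.X i) = b i
  have h2 : (MvPowerSeries.X i : MvPowerSeries (Fin d) R) =
      ((MvPolynomial.X i : MvPolynomial (Fin d) R) : MvPowerSeries (Fin d) R) :=
    (MvPolynomial.coe_X i).symm
  simp only [ψ₀, RingHom.comp_apply, RingHom.coe_coe]
  rw [MvPowerSeries.map_X, h2, Groth.Agent.S0543.psMap_coe, MvPolynomial.aeval_X]
  exact AdicCompletion.ofAlgEquiv_symm_of _ _

/-- Evaluation of power series in a finite family of variables. -/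
theorem exists_eval {k : Type u} {R : Type v} {σ : Type w} [Finite σ] [CommRing k] [CommRing R]
    [Algebra k R] (b : σ → R) [IsAdicComplete (Ideal.span (Set.range b)) R] :
    ∃ ψ : MvPowerSeries σ k →ₐ[k] R, ∀ i, ψ (MvPowerSeries.X i) = b i := by
  let e : σ ≃ Fin (Nat.card σ) := Finite.equivFin σ
  have hr : Set.range (b ∘ e.symm) = Set.range b := e.symm.surjective.range_comp b
  haveI : IsAdicComplete (Ideal.span (Set.range (b ∘ e.symm))) R := by
    rw [hr]
    infer_instance
  obtain ⟨ψ, hψ⟩ := exists_eval_fin (k := k) (b ∘ e.symm)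
  let ρ : MvPowerSeries σ k ≃ₐ[k] MvPowerSeries (Fin (Nat.card σ)) k :=
    MvPowerSeries.renameEquiv k e
  refine ⟨ψ.comp ρ.toAlgHom, fun i => ?_⟩
  change ψ (MvPowerSeries.rename _ (MvPowerSeries.X i)) = b i
  rw [MvPowerSeries.rename_X, hψ]
  simp

/-- Two algebra maps out of a power series ring (finitely many variables) into an `I`-adically
separated algebra that agree on the variables and map them into `I` are equal. -/
theorem algHom_ext {k : Type u} {A : Type v} {σ : Type w} [Finite σ] [CommRing k] [CommRing A]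
    [Algebra k A] (I : Ideal A) [IsHausdorff I A] (φ ψ : MvPowerSeries σ k →ₐ[k] A)
    (hφ : ∀ i, φ (MvPowerSeries.X i) ∈ I) (h : ∀ i, φ (MvPowerSeries.X i) = ψ (MvPowerSeries.X i)) :
    φ = ψ := by
  classical
  have hpoly : φ.comp (MvPolynomial.coeToMvPowerSeries.algHom k) =
      ψ.comp (MvPolynomial.coeToMvPowerSeries.algHom k) := by
    apply MvPolynomial.algHom_ext
    intro i
    simp [h i]
  have hpoly' : ∀ p : MvPolynomial σ k, φ (p : MvPowerSeries σ k) = ψ (p : MvPowerSeries σ k) := by
    intro p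
    have := DFunLike.congr_fun hpoly p
    simpa using this
  have hmem : ∀ (χ : MvPowerSeries σ k →ₐ[k] A), (∀ i, χ (MvPowerSeries.X i) ∈ I) → ∀ n,
      ∀ r ∈ (Ideal.span (Set.range (MvPowerSeries.X : σ → MvPowerSeries σ k))) ^ n,
      χ r ∈ I ^ n := by
    intro χ hχ n r hr
    have h1 : (Ideal.span (Set.range (MvPowerSeries.X : σ → MvPowerSeries σ k))).map
        (χ : MvPowerSeries σ k →+* A) ≤ I := by
      rw [Ideal.map_span, Ideal.span_le]
      rintro _ ⟨_, ⟨i, rfl⟩, rfl⟩
      exact hχ i
    have h2 := Ideal.mem_map_of_mem (χ : MvPowerSeries σ k →+* A) hr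
    rw [Ideal.map_pow] at h2
    exact Ideal.pow_right_mono h1 n h2
  have hψ : ∀ i, ψ (MvPowerSeries.X i) ∈ I := fun i => h i ▸ hφ i
  ext p
  rw [← sub_eq_zero]
  apply IsHausdorff.haus' (I := I)
  intro n
  rw [SModEq.zero, smul_eq_mul, Ideal.mul_top]
  have hr : p - (MvPowerSeries.truncTotal n p : MvPowerSeries σ k) ∈
      (Ideal.span (Set.range (MvPowerSeries.X : σ → MvPowerSeries σ k))) ^ n := by
    apply Groth.Agent.Lib.Helper61.MvPSIdeal.mem_pow_span_X_of_coeff_eq_zero
    intro e he
    rw [map_sub, MvPolynomial.coeff_coe, MvPowerSeries.coeff_truncTotal _ he, sub_self]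
  have h3 : φ p - ψ p = φ (p - (MvPowerSeries.truncTotal n p : MvPowerSeries σ k)) -
      ψ (p - (MvPowerSeries.truncTotal n p : MvPowerSeries σ k)) := by
    rw [map_sub, map_sub, hpoly']
    ring
  rw [h3]
  exact sub_mem (hmem φ hφ n _ hr) (hmem ψ hψ n _ hr)

end Groth.Agent.Lib.Helper61.PSEval2
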