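import Mathlib
import Groth.Prelude.Def_KZero
import Groth.Prelude.Def_DCoh2
import Groth.Agent.Lib.Helper62.K0Derived

/-!
# K₀ of a triangulated subcategory transports along a fully faithful triangulated functor
(helper61, sub-lemma K1 for helper53's S1029)
-/

set_option autoImplicit false
universe u v₁ v₂ u₁ u₂
open CategoryTheory CategoryTheory.Limits AlgebraicGeometry Pretriangulated
attribute [local instance] HasDerivedCategory.standard

namespace Groth.Agent.Lib.Helper61.K0TrK1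

open Groth.Agent.Lib.Helper62.K0D
open ZeroObject

section
variable {D : Type u₁} [Category.{v₁} D] [Preadditive D] [HasZeroObject D] [HasShift D ℤ]
  [∀ n : ℤ, (shiftFunctor D n).Additive] [Pretriangulated D]
  {D' : Type u₂} [Category.{v₂} D'] [Preadditive D'] [HasZeroObject D'] [HasShift D' ℤ]
  [∀ n : ℤ, (shiftFunctor D' n).Additive] [Pretriangulated D']

/-- A hom out of `K0tr Q` from a function on objects additive on distinguished triangles. -/
noncomputable def liftTr (Q : ObjectProperty D) {G : Type*} [AddCommGroup G]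
    (F : Subtype Q → G)
    (hF : ∀ (T : Triangle D) (h₁ : Q T.obj₁) (h₂ : Q T.obj₂) (h₃ : Q T.obj₃),
      T ∈ distTriang D → F ⟨T.obj₂, h₂⟩ = F ⟨T.obj₁, h₁⟩ + F ⟨T.obj₃, h₃⟩) :
    KZero.K0tr Q →+ G :=
  QuotientAddGroup.lift (KZero.relTr Q) (FreeAbelianGroup.lift F) (by
    unfold KZero.relTr
    rw [AddSubgroup.closure_le]
    rintro x ⟨T, h₁, h₂, h₃, hT, rfl⟩
    rw [SetLike.mem_coe, AddMonoidHom.mem_ker, map_sub, map_sub, FreeAbelianGroup.lift_apply_of,
      FreeAbelianGroup.lift_apply_of, FreeAbelianGroup.lift_apply_of, hF T h₁ h₂ h₃ hT]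
    abel)

lemma liftTr_clTr (Q : ObjectProperty D) {G : Type*} [AddCommGroup G]
    (F : Subtype Q → G) (hF) (K : D) (hK : Q K) :
    liftTr Q F hF (KZero.clTr Q K) = F ⟨K, hK⟩ := by
  rw [clTr_eq Q hK]
  show QuotientAddGroup.lift (KZero.relTr Q) (FreeAbelianGroup.lift F) _
    (QuotientAddGroup.mk (FreeAbelianGroup.of ⟨K, hK⟩)) = _
  rw [QuotientAddGroup.lift_mk, FreeAbelianGroup.lift_apply_of]

lemma hom_ext_tr (Q : ObjectProperty D) {G : Type*} [AddCommGroup G]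
    (f g : KZero.K0tr Q →+ G) (h : ∀ (K : D), Q K → f (KZero.clTr Q K) = g (KZero.clTr Q K)) :
    f = g := by
  apply QuotientAddGroup.addMonoidHom_ext
  apply FreeAbelianGroup.lift_ext
  rintro ⟨K, hK⟩
  have := h K hK
  rw [clTr_eq Q hK] at this
  exact this

end

open ZeroObject in
theorem exists_k0tr_equiv {D : Type u₁} [Category.{v₁} D] [Preadditive D] [HasZeroObject D] [HasShift D ℤ] [∀ n : ℤ, (shiftFunctor D n).Additive] [Pretriangulated D] {D' : Type u₂} [Category.{v₂} D'] [Preadditive D'] [HasZeroObject D'] [HasShift D' ℤ] [∀ n : ℤ, (shiftFunctor D' n).Additive] [Pretriangulated D'] (Φ : D ⥤ D') [Φ.CommShift ℤ] [Φ.IsTriangulated] [Φ.Full] [Φ.Faithful] (P : ObjectProperty D) (P' : ObjectProperty D') (hP : ∀ K : D, P K ↔ P' (Φ.obj K)) (hiso : ∀ {K' L' : D'}, (K' ≅ L') → P' K' → P' L') (hess : ∀ K' : D', P' K' → ∃ K : D, Nonempty (Φ.obj K ≅ K')) (h0 : P' (0 : D')) : ∃ ψ : KZero.K0tr P ≃+ KZero.K0tr P', ∀ K : D, P K → ψ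 (KZero.clTr P K) = KZero.clTr P' (Φ.obj K) := by
  classical
  -- P 0
  have hP0 : P (0 : D) := by
    rw [hP]
    exact hiso (Φ.mapZeroObject).symm h0
  -- choices
  choose G hG using hess
  have eG : ∀ (K' : D') (h' : P' K'), Φ.obj (G K' h') ≅ K' := fun K' h' => (hG K' h').some
  have hPG : ∀ (K' : D') (h' : P' K'), P (G K' h') := fun K' h' =>
    (hP _).2 (hiso (eG K' h').symm h')
  -- forward
  let φ : KZero.K0tr P →+ KZero.K0tr P' :=
    liftTr P (fun X => KZero.clTr P' (Φ.obj X.1)) (by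
      intro T h₁ h₂ h₃ hT
      exact clTr_triangle P' (Φ.mapTriangle.obj T) (Φ.map_distinguished T hT)
        ((hP _).1 h₁) ((hP _).1 h₂) ((hP _).1 h₃))
  -- backward
  let ψ' : KZero.K0tr P' →+ KZero.K0tr P :=
    liftTr P' (fun X => KZero.clTr P (G X.1 X.2)) (by
      intro T' h₁ h₂ h₃ hT'
      let f : G T'.obj₁ h₁ ⟶ G T'.obj₂ h₂ :=
        Φ.preimage ((eG _ h₁).hom ≫ T'.mor₁ ≫ (eG _ h₂).inv)
      obtain ⟨C, g, h, hT⟩ := distinguished_cocone_triangle f
      have hΦT := Φ.map_distinguished _ hT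
      have comm : (Φ.mapTriangle.obj (Triangle.mk f g h)).mor₁ ≫ (eG _ h₂).hom =
          (eG _ h₁).hom ≫ T'.mor₁ := by
        show Φ.map f ≫ _ = _
        rw [Functor.map_preimage]
        simp
      let E := isoTriangleOfIso₁₂ _ _ hΦT hT' (eG _ h₁) (eG _ h₂) comm
      have e₃ : Φ.obj C ≅ T'.obj₃ := Triangle.π₃.mapIso E
      have hC : P C := (hP _).2 (hiso e₃.symm h₃)
      have eC : C ≅ G T'.obj₃ h₃ := Φ.preimageIso (e₃ ≪≫ (eG _ h₃).symm)
      show KZero.clTr P (G T'.obj₂ h₂) = KZero.clTr P (G T'.obj₁ h₁) + KZero.clTr P (G T'.obj₃ h₃)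
      rw [← clTr_iso P hP0 eC hC (hPG _ h₃)]
      exact clTr_triangle P _ hT (hPG _ h₁) (hPG _ h₂) hC)
  have hφ : ∀ (K : D) (hK : P K), φ (KZero.clTr P K) = KZero.clTr P' (Φ.obj K) := fun K hK =>
    liftTr_clTr P _ _ K hK
  have hψ' : ∀ (K' : D') (hK' : P' K'), ψ' (KZero.clTr P' K') = KZero.clTr P (G K' hK') :=
    fun K' hK' => liftTr_clTr P' _ _ K' hK'
  have h₁ : ψ'.comp φ = AddMonoidHom.id _ := by
    apply hom_ext_tr
    intro K hK
    rw [AddMonoidHom.comp_apply, hφ K hK, hψ' _ ((hP _).1 hK), AddMonoidHom.id_apply]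
    exact clTr_iso P hP0 (Φ.preimageIso (eG _ ((hP _).1 hK))) (hPG _ _) hK
  have h₂ : φ.comp ψ' = AddMonoidHom.id _ := by
    apply hom_ext_tr
    intro K' hK'
    rw [AddMonoidHom.comp_apply, hψ' K' hK', hφ _ (hPG _ hK'), AddMonoidHom.id_apply]
    exact clTr_iso P' h0 (eG _ hK') ((hP _).1 (hPG _ hK')) hK'
  exact ⟨AddMonoidHom.toAddEquiv φ ψ' h₁ h₂, fun K hK => hφ K hK⟩

end Groth.Agent.Lib.Helper61.K0TrK1
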