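import Mathlib
import Groth.Prelude.Def_Found

set_option autoImplicit false
universe u
open IsLocalRing CategoryTheory AlgebraicGeometry

namespace Groth.Agent.Lib.Helper61.AA7202GS

/-- The ring map of `Spec.map β ≫ hU.fromSpec` on `U` (to global sections) is `β` up to `ΓSpecIso`. -/
theorem appLE_SpecMap_fromSpec {X : Scheme.{u}} (U : X.Opens) (hU : IsAffineOpen U)
    (R' : CommRingCat.{u}) (β : Γ(X, U) ⟶ R')
    (e : (⊤ : (Spec R').Opens) ≤ (Spec.map β ≫ hU.fromSpec) ⁻¹ᵁ U) :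
    (Spec.map β ≫ hU.fromSpec).appLE U ⊤ e = β ≫ (Scheme.ΓSpecIso R').inv := by
  apply Spec.map_injective
  have h := IsAffineOpen.SpecMap_appLE_fromSpec (Spec.map β ≫ hU.fromSpec) hU
    (isAffineOpen_top (Spec R')) e
  rw [IsAffineOpen.fromSpec_top, Scheme.isoSpec_Spec_inv, ← Category.assoc, cancel_mono] at h
  rw [h, Spec.map_comp]

theorem gs {Y : Scheme.{u}} {W : Y.Opens} (hW : IsAffineOpen W) {R' : Type u} [CommRing R']
    (g : Γ(Y, W) →+* R') (u : Spec (CommRingCat.of R'))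
    (h : (Spec.map (CommRingCat.ofHom g) ≫ hW.fromSpec) u ∈ W) (t : Γ(Y, W)) :
    ((Spec.map (CommRingCat.ofHom g) ≫ hW.fromSpec).stalkMap u).hom
        ((Y.presheaf.germ W _ h).hom t) =
      ((Spec (CommRingCat.of R')).presheaf.germ ⊤ u trivial).hom
        ((Scheme.ΓSpecIso (CommRingCat.of R')).inv.hom (g t)) := by
  have hle : (⊤ : (Spec (CommRingCat.of R')).Opens) ≤
      (Spec.map (CommRingCat.ofHom g) ≫ hW.fromSpec) ⁻¹ᵁ W := by
    rw [Scheme.Hom.comp_preimage, hW.fromSpec_preimage_self]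
    exact le_rfl
  have h1 := appLE_SpecMap_fromSpec W hW (CommRingCat.of R') (CommRingCat.ofHom g) hle
  have h2 : (Scheme.ΓSpecIso (CommRingCat.of R')).inv.hom (g t) =
      ((Spec.map (CommRingCat.ofHom g) ≫ hW.fromSpec).appLE W ⊤ hle).hom t := by
    rw [h1]
    rfl
  rw [h2]
  refine (Scheme.Hom.germ_stalkMap_apply _ W u h t).trans ?_
  rw [Scheme.Hom.appLE]
  exact ((Spec (CommRingCat.of R')).presheaf.germ_res_apply (homOfLE hle) u trivial _).symm

end Groth.Agent.Lib.Helper61.AA7202GS
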