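import Mathlib
import Groth.Prelude.Def_Found

set_option autoImplicit false
universe u
open IsLocalRing CategoryTheory AlgebraicGeometry

namespace Groth.Agent.Lib.Helper61.AA7202LOCS

set_option backward.isDefEq.respectTransparency false in
theorem iota_eq {R' : Type u} [CommRing R'] (p : PrimeSpectrum R') (w : R') :
    ((Spec (CommRingCat.of R')).presheaf.germ ⊤ p trivial).hom
        ((Scheme.ΓSpecIso (CommRingCat.of R')).inv.hom w) =
      algebraMap R' ((Spec.structureSheaf R').presheaf.stalk p) w := rfl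

set_option backward.isDefEq.respectTransparency false in
theorem locs' {R' : Type u} [CommRing R'] (p : PrimeSpectrum R') :
    (∀ w : R', w ∉ p.asIdeal → IsUnit (((Spec (CommRingCat.of R')).presheaf.germ ⊤ p trivial).hom
        ((Scheme.ΓSpecIso (CommRingCat.of R')).inv.hom w))) ∧
    (∀ z ∈ p.asIdeal, ((Spec (CommRingCat.of R')).presheaf.germ ⊤ p trivial).hom
        ((Scheme.ΓSpecIso (CommRingCat.of R')).inv.hom z) ∈
          maximalIdeal ((Spec (CommRingCat.of R')).presheaf.stalk p)) ∧
    (∀ z : (Spec (CommRingCat.of R')).presheaf.stalk p, ∃ r' w : R', w ∉ p.asIdeal ∧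
      ((Spec (CommRingCat.of R')).presheaf.germ ⊤ p trivial).hom
        ((Scheme.ΓSpecIso (CommRingCat.of R')).inv.hom w) * z =
      ((Spec (CommRingCat.of R')).presheaf.germ ⊤ p trivial).hom
        ((Scheme.ΓSpecIso (CommRingCat.of R')).inv.hom r')) := by
  have hloc : IsLocalization.AtPrime ((Spec.structureSheaf R').presheaf.stalk p) p.asIdeal :=
    StructureSheaf.IsLocalization.to_stalk R' p
  refine ⟨?_, ?_, ?_⟩
  · intro w hw
    rw [iota_eq]
    exact IsLocalization.map_units (M := p.asIdeal.primeCompl)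
      ((Spec.structureSheaf R').presheaf.stalk p) ⟨w, hw⟩
  · intro z hz
    rw [iota_eq]
    exact (IsLocalization.AtPrime.to_map_mem_maximal_iff
      ((Spec.structureSheaf R').presheaf.stalk p) p.asIdeal z).2 hz
  · intro z
    obtain ⟨⟨r', w⟩, h⟩ := IsLocalization.surj (M := p.asIdeal.primeCompl)
      (S := (Spec.structureSheaf R').presheaf.stalk p) z
    refine ⟨r', w.1, w.2, ?_⟩
    rw [iota_eq, iota_eq]
    exact (mul_comm _ _).trans h

set_option backward.isDefEq.respectTransparency false in
theorem locs {R' : Type u} [CommRing R'] (u : Spec (CommRingCat.of R')) :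
    (∀ w : R', w ∉ u.asIdeal → IsUnit (((Spec (CommRingCat.of R')).presheaf.germ ⊤ u trivial).hom
        ((Scheme.ΓSpecIso (CommRingCat.of R')).inv.hom w))) ∧
    (∀ z ∈ u.asIdeal, ((Spec (CommRingCat.of R')).presheaf.germ ⊤ u trivial).hom
        ((Scheme.ΓSpecIso (CommRingCat.of R')).inv.hom z) ∈
          maximalIdeal ((Spec (CommRingCat.of R')).presheaf.stalk u)) ∧
    (∀ z : (Spec (CommRingCat.of R')).presheaf.stalk u, ∃ r' w : R', w ∉ u.asIdeal ∧
      ((Spec (CommRingCat.of R')).presheaf.germ ⊤ u trivial).hom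
        ((Scheme.ΓSpecIso (CommRingCat.of R')).inv.hom w) * z =
      ((Spec (CommRingCat.of R')).presheaf.germ ⊤ u trivial).hom
        ((Scheme.ΓSpecIso (CommRingCat.of R')).inv.hom r')) := locs' u

end Groth.Agent.Lib.Helper61.AA7202LOCS
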