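import Mathlib

/-!
# Fields algebraically closed in an extension

`k` algebraically closed in `F` (every element of `F` algebraic over `k` lies in `k`).  Then
irreducible polynomials over `k` stay irreducible over `F`, `F` is linearly disjoint from every
simple algebraic extension `k(a)` inside a common overfield, and `F ⊗[k] E` is a field for every
finite separable `E/k`.
-/

set_option autoImplicit false

namespace Groth.Agent.Lib.Helper61.AlgClosedIn

open Polynomial IntermediateField

section

variable {k F : Type*} [Field k] [Field F] [Algebra k F]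

/-- `k` is algebraically closed in `F`. -/
def IsAlgClosedIn (k F : Type*) [Field k] [Field F] [Algebra k F] : Prop :=
  ∀ y : F, IsAlgebraic k y → y ∈ Set.range (algebraMap k F)

theorem integralClosure_eq_bot (h : IsAlgClosedIn k F) : integralClosure k F = ⊥ := by
  rw [eq_bot_iff]
  intro y hy
  obtain ⟨c, hc⟩ := h y hy.isAlgebraic
  exact Algebra.mem_bot.mpr ⟨c, hc⟩

/-- a monic divisor over `F` of a monic polynomial over `k` has coefficients in `k`. -/
theorem exists_map_eq_of_monic_of_dvd (h : IsAlgClosedIn k F) {f : k[X]} (hf : f.Monic) {g : F[X]}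
    (hg : g.Monic) (hd : g ∣ f.map (algebraMap k F)) : ∃ g₀ : k[X], g₀.map (algebraMap k F) = g := by
  have h1 := integralClosure.mem_lifts_of_monic_of_dvd_map F hf hg hd
  rw [Polynomial.lifts_iff_coeff_lifts] at h1
  have h2 : ∀ n, g.coeff n ∈ Set.range (algebraMap k F) := by
    intro n
    obtain ⟨c, hc⟩ := h1 n
    have h3 : (c : F) ∈ (⊥ : Subalgebra k F) := by
      rw [← integralClosure_eq_bot h]; exact c.2
    obtain ⟨c₀, hc₀⟩ := Algebra.mem_bot.mp h3
    exact ⟨c₀, hc₀.trans hc⟩
  have h4 : g ∈ Polynomial.lifts (algebraMap k F) :=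
    (Polynomial.lifts_iff_coeff_lifts g).mpr h2
  obtain ⟨g₀, hg₀⟩ := h4
  exact ⟨g₀, hg₀⟩

theorem irreducible_map (h : IsAlgClosedIn k F) {f : k[X]} (hf : f.Monic) (hirr : Irreducible f) :
    Irreducible (f.map (algebraMap k F)) := by
  have hinj : Function.Injective (algebraMap k F) := (algebraMap k F).injective
  have hfm : (f.map (algebraMap k F)).Monic := hf.map _
  rw [Polynomial.Monic.irreducible_iff_natDegree hfm]
  refine ⟨?_, ?_⟩
  · intro h1
    have : f = 1 := by
      have h2 : f.map (algebraMap k F) = (1 : k[X]).map (algebraMap k F) := by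
        rw [h1, Polynomial.map_one]
      exact Polynomial.map_injective _ hinj h2
    exact hirr.not_isUnit (this ▸ isUnit_one)
  · intro a b ha hb hab
    obtain ⟨a₀, ha₀⟩ := exists_map_eq_of_monic_of_dvd h hf ha ⟨b, hab.symm⟩
    obtain ⟨b₀, hb₀⟩ := exists_map_eq_of_monic_of_dvd h hf hb ⟨a, by rw [← hab, mul_comm]⟩
    have hab₀ : f = a₀ * b₀ := by
      apply Polynomial.map_injective _ hinj
      rw [Polynomial.map_mul, ha₀, hb₀, hab]
    have hdeg_a : a₀.natDegree = a.natDegree := by
      rw [← ha₀, Polynomial.natDegree_map_eq_of_injective hinj]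
    have hdeg_b : b₀.natDegree = b.natDegree := by
      rw [← hb₀, Polynomial.natDegree_map_eq_of_injective hinj]
    rcases hirr.isUnit_or_isUnit hab₀ with hu | hu
    · left
      rw [← hdeg_a]
      exact Polynomial.natDegree_eq_zero_of_isUnit hu
    · right
      rw [← hdeg_b]
      exact Polynomial.natDegree_eq_zero_of_isUnit hu

end

section LinearDisjoint

variable {k Ω : Type*} [Field k] [Field Ω] [Algebra k Ω]

theorem minpoly_eq_map (A : IntermediateField k Ω) (hA : IsAlgClosedIn k A) {a : Ω}
    (ha : IsIntegral k a) : minpoly A a = (minpoly k a).map (algebraMap k A) := by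
  refine (minpoly.eq_of_irreducible_of_monic
    (irreducible_map hA (minpoly.monic ha) (minpoly.irreducible ha)) ?_
    ((minpoly.monic ha).map _)).symm
  rw [Polynomial.aeval_map_algebraMap, minpoly.aeval]

theorem linearDisjoint_adjoin_simple (A : IntermediateField k Ω) (hA : IsAlgClosedIn k A) {a : Ω}
    (ha : IsIntegral k a) : A.LinearDisjoint k⟮a⟯ := by
  refine IntermediateField.LinearDisjoint.of_basis_right
    (IntermediateField.adjoin.powerBasis ha).basis ?_
  have hdeg : (minpoly A a).natDegree = (IntermediateField.adjoin.powerBasis ha).dim := by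
    rw [minpoly_eq_map A hA ha, Polynomial.natDegree_map_eq_of_injective
      (algebraMap k A).injective, IntermediateField.adjoin.powerBasis_dim]
  have h2 := linearIndependent_pow (K := A) a
  have h3 : (k⟮a⟯.val ∘ (IntermediateField.adjoin.powerBasis ha).basis) =
      (fun i : Fin (minpoly A a).natDegree => a ^ (i : ℕ)) ∘ (finCongr hdeg.symm) := by
    funext i
    simp only [Function.comp_apply, PowerBasis.basis_eq_pow, IntermediateField.adjoin.powerBasis_gen,
      map_pow, IntermediateField.val_mk, IntermediateField.AdjoinSimple.coe_gen]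
    rfl
  rw [h3]
  exact (linearIndependent_equiv (finCongr hdeg.symm)).mpr h2

end LinearDisjoint

section Tensor

open TensorProduct

universe u v w

variable {k : Type u} [Field k]

/-- the image of an embedding of `F` is again a field in which `k` is algebraically closed. -/
theorem isAlgClosedIn_fieldRange {F : Type v} {Ω : Type w} [Field F] [Field Ω] [Algebra k F]
    [Algebra k Ω] (h : IsAlgClosedIn k F) (fa : F →ₐ[k] Ω) : IsAlgClosedIn k fa.fieldRange := by
  rintro ⟨y, y₀, rfl⟩ hy
  have hy' : IsAlgebraic k (fa y₀) := by
    have := hy.algHom (fa.fieldRange.val)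
    exact this
  have hy₀ : IsAlgebraic k y₀ := (isAlgebraic_algHom_iff fa fa.injective).mp hy'
  obtain ⟨c, hc⟩ := h y₀ hy₀
  refine ⟨c, ?_⟩
  apply Subtype.ext
  change algebraMap k Ω c = fa y₀
  rw [← hc, AlgHom.commutes]

/-- If `k` is algebraically closed in `F` and `K/k` is algebraic and separable, then `F ⊗[k] K` is a
field. -/
theorem isField_tensor (F : Type v) (K : Type w) [Field F] [Field K] [Algebra k F] [Algebra k K]
    [Algebra.IsAlgebraic k K] [Algebra.IsSeparable k K] (h : IsAlgClosedIn k F) :
    IsField (F ⊗[k] K) := by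
  refine IntermediateField.LinearDisjoint.isField_of_forall k F K ?_
  intro Ω _ _ fa fb
  rw [IntermediateField.linearDisjoint_iff']
  have hA := isAlgClosedIn_fieldRange h fa
  haveI : Algebra.IsIntegral k fb.fieldRange.toSubalgebra := by
    have e : K ≃ₐ[k] fb.fieldRange := AlgEquiv.ofInjectiveField fb
    exact Algebra.IsIntegral.of_surjective e.toAlgHom e.surjective
  haveI : Algebra.IsSeparable k fb.fieldRange :=
    AlgEquiv.Algebra.isSeparable (AlgEquiv.ofInjectiveField fb)
  refine Subalgebra.LinearDisjoint.of_linearDisjoint_finite_right _ _ ?_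
  intro B' hB' hfin
  haveI : Algebra.IsIntegral k B' := Algebra.IsIntegral.of_finite k B'
  have hfield : IsField B' := isField_of_isIntegral_of_isField' (Field.toIsField k)
  let E : IntermediateField k Ω := Subalgebra.toIntermediateField' B' hfield
  have hE : E.toSubalgebra = B' := toSubalgebra_toIntermediateField' B' hfield
  have hEle : E ≤ fb.fieldRange := fun x hx => hB' (by rw [← hE]; exact hx)
  haveI : FiniteDimensional k E := hfin
  haveI : Algebra.IsSeparable k E :=
    Algebra.IsSeparable.of_algHom k fb.fieldRange (IntermediateField.inclusion hEle)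
  obtain ⟨α, hα⟩ := Field.exists_primitive_element k E
  have hlift : E = k⟮(α : Ω)⟯ := by
    have := congrArg IntermediateField.lift hα
    rw [IntermediateField.lift_adjoin_simple, IntermediateField.lift_top] at this
    exact this.symm
  have hint : IsIntegral k (α : Ω) := by
    have : IsIntegral k α := Algebra.IsIntegral.isIntegral α
    exact this.map E.val
  have := linearDisjoint_adjoin_simple fa.fieldRange hA hint
  rw [IntermediateField.linearDisjoint_iff', ← hlift, hE] at this
  exact this

end Tensor

end Groth.Agent.Lib.Helper61.AlgClosedIn
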