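import Mathlib

/-!
# Exactness of the Amitsur complex, from the universal property of the iterated coproducts

`R → A` faithfully flat.  `P n` a commutative `R`-algebra which is a coproduct of `n+1` copies of `A`
(universal property stated elementwise: `hext`, `hex`), `δ n i : P n → P (n+1)` the cofaces.  Then
the alternating sum complex is exact in positive degrees.  No identification with tensor powers is
needed: after base change to `A` there is a contracting homotopy built from the universal property.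
-/

set_option autoImplicit false
universe u

namespace Groth.Agent.Lib.Helper61.Amitsur

open TensorProduct

section

variable {R A : Type u} [CommRing R] [CommRing A] [Algebra R A]
  (P : ℕ → Type u) [∀ n, CommRing (P n)] [∀ n, Algebra R (P n)]
  (ι : ∀ n, Fin (n + 1) → (A →ₐ[R] P n))
  (δ : ∀ n, Fin (n + 2) → (P n →ₐ[R] P (n + 1)))

/-- The alternating sum differential. -/
noncomputable def D (n : ℕ) : P n →ₗ[R] P (n + 1) :=
  ∑ i : Fin (n + 2), (-1 : ℤ) ^ (i : ℕ) • (δ n i).toLinearMap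

/-- `P n` is the coproduct of `n+1` copies of `A` in commutative `R`-algebras, via `ι n`, and
`δ n i` are the cofaces. -/
structure IsCoprodSystem : Prop where
  hδ : ∀ (n : ℕ) (i : Fin (n + 2)) (j : Fin (n + 1)) (a : A),
    δ n i (ι n j a) = ι (n + 1) (i.succAbove j) a
  hext : ∀ (n : ℕ) (B : Type u) [CommRing B] [Algebra R B] (g₁ g₂ : P n →ₐ[R] B),
    (∀ i a, g₁ (ι n i a) = g₂ (ι n i a)) → g₁ = g₂
  hex : ∀ (n : ℕ) (B : Type u) [CommRing B] [Algebra R B] (g : Fin (n + 1) → (A →ₐ[R] B)),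
    ∃ G : P n →ₐ[R] B, ∀ i a, G (ι n i a) = g i a

variable {P ι δ}

theorem IsCoprodSystem.exists_sigma (h : IsCoprodSystem P ι δ) (n : ℕ) :
    ∃ σ : P (n + 1) →ₐ[R] A ⊗[R] P n,
      (∀ a, σ (ι (n + 1) 0 a) = a ⊗ₜ 1) ∧
      (∀ (j : Fin (n + 1)) a, σ (ι (n + 1) j.succ a) = 1 ⊗ₜ ι n j a) := by
  obtain ⟨G, hG⟩ := h.hex (n + 1) (A ⊗[R] P n)
    (Fin.cons (Algebra.TensorProduct.includeLeft : A →ₐ[R] A ⊗[R] P n)
      (fun j => (Algebra.TensorProduct.includeRight : P n →ₐ[R] A ⊗[R] P n).comp (ι n j)))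
  refine ⟨G, fun a => ?_, fun j a => ?_⟩
  · rw [hG]; rfl
  · rw [hG]; rfl

/-- base change of a coface -/
noncomputable def E (δ : ∀ n, Fin (n + 2) → (P n →ₐ[R] P (n + 1))) (n : ℕ) (i : Fin (n + 2)) :
    A ⊗[R] P n →ₐ[A] A ⊗[R] P (n + 1) :=
  Algebra.TensorProduct.map (AlgHom.id A A) (δ n i)

theorem lTensor_D_apply (n : ℕ) (t : A ⊗[R] P n) :
    (D P δ n).lTensor A t = ∑ i : Fin (n + 2), (-1 : ℤ) ^ (i : ℕ) • E δ n i t := by
  have h1 : (D P δ n).lTensor A =
      ∑ i : Fin (n + 2), (-1 : ℤ) ^ (i : ℕ) • ((δ n i).toLinearMap.lTensor A) := by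
    rw [D, ← LinearMap.coe_lTensorHom, map_sum]
    refine Finset.sum_congr rfl (fun i _ => ?_)
    rw [map_zsmul]
  rw [h1, LinearMap.sum_apply]
  refine Finset.sum_congr rfl (fun i _ => ?_)
  rw [LinearMap.smul_apply]
  congr 1

theorem IsCoprodSystem.exact_lTensor (h : IsCoprodSystem P ι δ)
    (hDD : ∀ n, (D P δ (n + 1)).comp (D P δ n) = 0) (n : ℕ) :
    Function.Exact ((D P δ n).lTensor A) ((D P δ (n + 1)).lTensor A) := by
  obtain ⟨σ₀, hσ₀0, hσ₀s⟩ := h.exists_sigma n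
  obtain ⟨σ₁, hσ₁0, hσ₁s⟩ := h.exists_sigma (n + 1)
  -- the contracting homotopies
  let h₀ : A ⊗[R] P (n + 1) →ₐ[A] A ⊗[R] P n :=
    Algebra.TensorProduct.lift (Algebra.ofId A (A ⊗[R] P n)) σ₀ (fun _ _ => Commute.all _ _)
  let h₁ : A ⊗[R] P (n + 2) →ₐ[A] A ⊗[R] P (n + 1) :=
    Algebra.TensorProduct.lift (Algebra.ofId A (A ⊗[R] P (n + 1))) σ₁ (fun _ _ => Commute.all _ _)
  have hh₀ : ∀ a x, h₀ (a ⊗ₜ x) = (a ⊗ₜ (1 : P n)) * σ₀ x := fun a x => rfl
  have hh₁ : ∀ a x, h₁ (a ⊗ₜ x) = (a ⊗ₜ (1 : P (n + 1))) * σ₁ x := fun a x => rfl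
  -- σ₁ ∘ δ₀ = includeRight
  have key0 : σ₁.comp (δ (n + 1) 0) =
      (Algebra.TensorProduct.includeRight : P (n + 1) →ₐ[R] A ⊗[R] P (n + 1)) := by
    refine h.hext (n + 1) _ _ _ (fun i a => ?_)
    rw [AlgHom.comp_apply, h.hδ, Fin.succAbove_zero, hσ₁s]
    rfl
  -- σ₁ ∘ δ_{i+1} = (1 ⊗ δ_i) ∘ σ₀
  have keyS : ∀ i : Fin (n + 2), σ₁.comp (δ (n + 1) i.succ) =
      ((E δ n i).restrictScalars R).comp σ₀ := by
    intro i
    refine h.hext (n + 1) _ _ _ (fun j a => ?_)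
    rw [AlgHom.comp_apply, AlgHom.comp_apply, h.hδ]
    refine Fin.cases ?_ (fun k => ?_) j
    · rw [Fin.succ_succAbove_zero, hσ₁0, hσ₀0]
      change _ = E δ n i (a ⊗ₜ 1)
      rw [E, Algebra.TensorProduct.map_tmul, map_one]
      rfl
    · rw [Fin.succ_succAbove_succ, hσ₁s, hσ₀s]
      change _ = E δ n i (1 ⊗ₜ ι n k a)
      rw [E, Algebra.TensorProduct.map_tmul, map_one, h.hδ]
  have H0 : ∀ t, h₁ (E δ (n + 1) 0 t) = t := by
    intro t
    have : h₁.comp (E δ (n + 1) 0) = AlgHom.id A _ := by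
      refine Algebra.TensorProduct.ext' (fun a x => ?_)
      rw [AlgHom.comp_apply, E, Algebra.TensorProduct.map_tmul, hh₁]
      have := DFunLike.congr_fun key0 x
      rw [AlgHom.comp_apply] at this
      rw [this]
      simp
    exact DFunLike.congr_fun this t
  have HS : ∀ (i : Fin (n + 2)) t, h₁ (E δ (n + 1) i.succ t) = E δ n i (h₀ t) := by
    intro i t
    have : h₁.comp (E δ (n + 1) i.succ) = (E δ n i).comp h₀ := by
      refine Algebra.TensorProduct.ext' (fun a x => ?_)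
      rw [AlgHom.comp_apply, AlgHom.comp_apply, hh₀, map_mul]
      have h2 : E δ (n + 1) i.succ (a ⊗ₜ x) = a ⊗ₜ δ (n + 1) i.succ x := by
        rw [E, Algebra.TensorProduct.map_tmul]; rfl
      rw [h2, hh₁]
      have h3 := DFunLike.congr_fun (keyS i) x
      rw [AlgHom.comp_apply, AlgHom.comp_apply] at h3
      rw [h3]
      have h4 : E δ n i (a ⊗ₜ (1 : P n)) = a ⊗ₜ (1 : P (n + 1)) := by
        rw [E, Algebra.TensorProduct.map_tmul, map_one]; rfl
      rw [h4]
      rfl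
    exact DFunLike.congr_fun this t
  -- homotopy identity
  have Hhom : ∀ t : A ⊗[R] P (n + 1),
      h₁ ((D P δ (n + 1)).lTensor A t) = t - (D P δ n).lTensor A (h₀ t) := by
    intro t
    rw [lTensor_D_apply, lTensor_D_apply, map_sum, Fin.sum_univ_succ]
    have e1 : h₁ ((-1 : ℤ) ^ ((0 : Fin (n + 3)) : ℕ) • E δ (n + 1) 0 t) = t := by
      rw [map_zsmul, H0]; simp
    rw [e1, sub_eq_add_neg, ← Finset.sum_neg_distrib]
    congr 1
    refine Finset.sum_congr rfl (fun i _ => ?_)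
    rw [map_zsmul, HS, Fin.val_succ, pow_succ, mul_neg_one, neg_smul]
  intro z
  constructor
  · intro hz
    refine ⟨h₀ z, ?_⟩
    have := Hhom z
    rw [hz, map_zero] at this
    exact (sub_eq_zero.mp this.symm).symm
  · rintro ⟨y, rfl⟩
    have : ((D P δ (n + 1)).lTensor A) (((D P δ n).lTensor A) y) =
        ((D P δ (n + 1)).comp (D P δ n)).lTensor A y := by
      rw [LinearMap.lTensor_comp]; rfl
    rw [this, hDD]
    simp

theorem IsCoprodSystem.exact [Module.FaithfullyFlat R A] (h : IsCoprodSystem P ι δ)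
    (hDD : ∀ n, (D P δ (n + 1)).comp (D P δ n) = 0) (n : ℕ) :
    Function.Exact (D P δ n) (D P δ (n + 1)) :=
  (Module.FaithfullyFlat.lTensor_exact_iff_exact R A _ _).mp (h.exact_lTensor hDD n)

end

end Groth.Agent.Lib.Helper61.Amitsur
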