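import Mathlib
import Groth.Agent.Lib.Helper61.Amitsur

set_option autoImplicit false
universe u

namespace Groth.Agent.Lib.Helper61.AmitsurCat

open CategoryTheory CategoryTheory.Limits Simplicial

variable (R A : Type u) [CommRing R] [CommRing A] [Algebra R A]

/-- the arrow `R ⟶ A` in `CommRingCat`. -/
noncomputable abbrev arr : Arrow CommRingCat.{u} := Arrow.mk (CommRingCat.ofHom (algebraMap R A))

/-- the Čech conerve. -/
noncomputable abbrev X : CosimplicialObject CommRingCat.{u} := (arr R A).cechConerve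

/-- the carrier of the `n`-th term. -/
abbrev P (n : ℕ) : Type u := ((X R A).obj ⦋n⦌ : CommRingCat.{u})

noncomputable def head (n : ℕ) : R →+* P R A n :=
  (WidePushout.head (fun _ : Fin (n + 1) => (arr R A).hom)).hom

noncomputable def leg (n : ℕ) (i : Fin (n + 1)) : A →+* P R A n :=
  (WidePushout.ι (fun _ : Fin (n + 1) => (arr R A).hom) i).hom

theorem leg_algebraMap (n : ℕ) (i : Fin (n + 1)) (r : R) :
    leg R A n i (algebraMap R A r) = head R A n r := by
  have := WidePushout.arrow_ι (fun _ : Fin (n + 1) => (arr R A).hom) i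
  exact congrArg (fun φ => φ.hom r) this

noncomputable instance algP (n : ℕ) : Algebra R (P R A n) := (head R A n).toAlgebra

theorem algebraMap_P (n : ℕ) (r : R) : algebraMap R (P R A n) r = head R A n r := rfl

/-- the legs as algebra homs -/
noncomputable def ι (n : ℕ) (i : Fin (n + 1)) : A →ₐ[R] P R A n :=
  { leg R A n i with
    commutes' := fun r => leg_algebraMap R A n i r }

theorem ι_apply (n : ℕ) (i : Fin (n + 1)) (a : A) : ι R A n i a = leg R A n i a := rfl

theorem δ_head (n : ℕ) (i : Fin (n + 2)) (r : R) :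
    ((X R A).δ i).hom (head R A n r) = head R A (n + 1) r := by
  have : WidePushout.head (fun _ : Fin (n + 1) => (arr R A).hom) ≫ (X R A).δ i =
      WidePushout.head (fun _ : Fin (n + 2) => (arr R A).hom) := by
    simp only [CosimplicialObject.δ, Arrow.cechConerve_map]
    exact WidePushout.head_desc _ _ _ _
  exact congrArg (fun φ => φ.hom r) this

theorem δ_leg (n : ℕ) (i : Fin (n + 2)) (j : Fin (n + 1)) (a : A) :
    ((X R A).δ i).hom (leg R A n j a) = leg R A (n + 1) (i.succAbove j) a := by
  have : WidePushout.ι (fun _ : Fin (n + 1) => (arr R A).hom) j ≫ (X R A).δ i =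
      WidePushout.ι (fun _ : Fin (n + 2) => (arr R A).hom) (i.succAbove j) := by
    simp only [CosimplicialObject.δ, Arrow.cechConerve_map]
    exact WidePushout.ι_desc _ _ _ _ _
  exact congrArg (fun φ => φ.hom a) this

/-- the cofaces as algebra homs -/
noncomputable def δ (n : ℕ) (i : Fin (n + 2)) : P R A n →ₐ[R] P R A (n + 1) :=
  { ((X R A).δ i).hom with
    commutes' := fun r => δ_head R A n i r }

theorem δ_apply (n : ℕ) (i : Fin (n + 2)) (x : P R A n) : δ R A n i x = ((X R A).δ i).hom x := rfl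

theorem isCoprodSystem :
    Amitsur.IsCoprodSystem (R := R) (A := A) (P R A) (ι R A) (δ R A) where
  hδ n i j a := δ_leg R A n i j a
  hext n B _ _ g₁ g₂ hg := by
    have h1 : CommRingCat.ofHom g₁.toRingHom = CommRingCat.ofHom g₂.toRingHom := by
      refine WidePushout.hom_ext (fun _ : Fin (n + 1) => (arr R A).hom) _ _ (fun j => ?_) ?_
      · ext a
        exact hg j a
      · ext r
        exact (g₁.commutes r).trans (g₂.commutes r).symm
    ext x
    exact congrArg (fun φ => φ.hom x) h1
  hex n B _ _ g := by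
    let G : (X R A).obj ⦋n⦌ ⟶ CommRingCat.of B :=
      WidePushout.desc (CommRingCat.ofHom (algebraMap R B))
        (fun i => CommRingCat.ofHom (g i).toRingHom)
        (fun i => by ext r; exact (g i).commutes r)
    have hG1 : WidePushout.head (fun _ : Fin (n + 1) => (arr R A).hom) ≫ G =
        CommRingCat.ofHom (algebraMap R B) := WidePushout.head_desc _ _ _ _
    have hG2 : ∀ i, WidePushout.ι (fun _ : Fin (n + 1) => (arr R A).hom) i ≫ G =
        CommRingCat.ofHom (g i).toRingHom := fun i => WidePushout.ι_desc _ _ _ _ _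
    refine ⟨{ G.hom with commutes' := fun r => congrArg (fun φ => φ.hom r) hG1 }, fun i a => ?_⟩
    exact congrArg (fun φ => φ.hom a) (hG2 i)

/-- the alternating coface complex -/
noncomputable abbrev K : CochainComplex AddCommGrpCat.{u} ℕ :=
  AlgebraicTopology.AlternatingCofaceMapComplex.obj
    ((arr R A).cechConerve ⋙ forget₂ CommRingCat RingCat ⋙ forget₂ RingCat AddCommGrpCat)

theorem K_d_apply (n : ℕ) (y : P R A n) :
    (ConcreteCategory.hom ((K R A).d n (n + 1)) : P R A n →+ P R A (n + 1)) y =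
      Amitsur.D (P R A) (δ R A) n y := by
  have h1 : (K R A).d n (n + 1) = AlgebraicTopology.AlternatingCofaceMapComplex.objD
      ((arr R A).cechConerve ⋙ forget₂ CommRingCat RingCat ⋙ forget₂ RingCat AddCommGrpCat) n := by
    unfold K AlgebraicTopology.AlternatingCofaceMapComplex.obj CochainComplex.of
    dsimp only
    exact CochainComplex.of_d (V := AddCommGrpCat.{u}) _ _ n
  rw [h1, AlgebraicTopology.AlternatingCofaceMapComplex.objD]
  have h2 : ∀ (φ : Fin (n + 2) → ((K R A).X n ⟶ (K R A).X (n + 1))),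
      (ConcreteCategory.hom (∑ i, φ i) : P R A n →+ P R A (n + 1)) y =
        ∑ i, (ConcreteCategory.hom (φ i) : P R A n →+ P R A (n + 1)) y := by
    intro φ
    have h3 : AddCommGrpCat.homAddEquiv (∑ i, φ i) = ∑ i, AddCommGrpCat.homAddEquiv (φ i) :=
      map_sum _ _ _
    have h4 : (ConcreteCategory.hom (∑ i, φ i) : P R A n →+ P R A (n + 1)) =
        ∑ i, (ConcreteCategory.hom (φ i) : P R A n →+ P R A (n + 1)) := h3
    rw [h4, AddMonoidHom.finset_sum_apply]
  refine (h2 (fun i => (-1 : ℤ) ^ (i : ℕ) • CosimplicialObject.δ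
    ((arr R A).cechConerve ⋙ forget₂ CommRingCat RingCat ⋙ forget₂ RingCat AddCommGrpCat) i)).trans ?_
  rw [Amitsur.D, LinearMap.sum_apply]
  refine Finset.sum_congr rfl (fun i _ => ?_)
  rw [LinearMap.smul_apply]
  rfl

theorem hDD (n : ℕ) :
    (Amitsur.D (P R A) (δ R A) (n + 1)).comp (Amitsur.D (P R A) (δ R A) n) = 0 := by
  ext y
  rw [LinearMap.comp_apply, ← K_d_apply, ← K_d_apply]
  have h := (K R A).d_comp_d n (n + 1) (n + 2)
  have h2 : (ConcreteCategory.hom ((K R A).d n (n + 1) ≫ (K R A).d (n + 1) (n + 2)) :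
      P R A n →+ P R A (n + 2)) y = 0 := by
    rw [h]; rfl
  exact h2

theorem exactAt [Module.FaithfullyFlat R A] (n : ℕ) (hn : 0 < n) : (K R A).ExactAt n := by
  obtain ⟨m, rfl⟩ := Nat.exists_eq_succ_of_ne_zero hn.ne'
  rw [HomologicalComplex.exactAt_iff' (K R A) m (m + 1) (m + 2) (by simp) (by simp),
    ShortComplex.ab_exact_iff]
  intro z hz
  have hex := (isCoprodSystem R A).exact (hDD R A) m
  have h1 : Amitsur.D (P R A) (δ R A) (m + 1) z = 0 := (K_d_apply R A (m + 1) z).symm.trans hz
  obtain ⟨y, hy⟩ := (hex z).mp h1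
  exact ⟨y, (K_d_apply R A m y).trans hy⟩

end Groth.Agent.Lib.Helper61.AmitsurCat
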