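import Mathlib

/-!
# From existence of solutions to approximation mod I (new-variables trick)
(helper61, sub-lemma AA2 for helper77's S0596 Artin approximation)
-/

set_option autoImplicit false
universe u

namespace Groth.Agent.Lib.Helper61.ArtinAA2

open MvPolynomial

theorem approx_of_exists {R Λ : Type u} [CommRing R] [CommRing Λ] [Algebra R Λ] (I : Ideal R) (hI : I.FG) (hsurj : ∀ a : Λ, ∃ c : R, a - algebraMap R Λ c ∈ I.map (algebraMap R Λ)) (hex : ∀ (n m : ℕ) (F : Fin m → MvPolynomial (Fin n) R), (∃ a : Fin n → Λ, ∀ j, MvPolynomial.eval a (MvPolynomial.map (algebraMap R Λ) (F j)) = 0) → ∃ b : Fin n → R, ∀ j, MvPolynomial.eval b (F j) = 0) (n m : ℕ) (F : Fin m → MvPolynomial (Fin n) R) (a : Fin n → Λ) (ha : ∀ j, MvPolynomial.eval a (MvPolynomial.map (algebraMap R Λ) (F j)) = 0) : ∃ b : Fin n → R, (∀ j, MvPolynomial.eval b (F j) = 0) ∧ ∀ i, a i - algebraMap R Λ (b i) ∈ I.map (algebraMap R Λ) := by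
  classical
  -- generators of I
  obtain ⟨s, μ, hμ⟩ : ∃ (s : ℕ) (μ : Fin s → R), Ideal.span (Set.range μ) = I := by
    obtain ⟨t, ht⟩ := hI
    refine ⟨t.card, fun k => (t.equivFin.symm k : R), ?_⟩
    rw [← ht]
    congr 1
    ext x
    constructor
    · rintro ⟨k, rfl⟩
      exact (t.equivFin.symm k).2
    · intro hx
      exact ⟨t.equivFin ⟨x, hx⟩, by simp⟩
  have hIΛ : I.map (algebraMap R Λ) = Ideal.span (Set.range (fun k => algebraMap R Λ (μ k))) := by
    rw [← hμ, Ideal.map_span, ← Set.range_comp]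
    rfl
  -- choose c and y
  choose c hc using fun i => hsurj (a i)
  have hy : ∀ i, ∃ y : Fin s → Λ, ∑ k, y k * algebraMap R Λ (μ k) = a i - algebraMap R Λ (c i) := by
    intro i
    have := hc i
    rw [hIΛ, Ideal.mem_span_range_iff_exists_fun] at this
    exact this
  choose y hy using hy
  let e : Fin n × Fin s ≃ Fin (n * s) := finProdFinEquiv
  let sub : Fin n → MvPolynomial (Fin (n * s)) R := fun i =>
    C (c i) + ∑ k, C (μ k) * X (e (i, k))
  let G : Fin m → MvPolynomial (Fin (n * s)) R := fun j => bind₁ sub (F j)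
  let y' : Fin (n * s) → Λ := fun t => y (e.symm t).1 (e.symm t).2
  -- evaluation formula over any R-algebra
  have key : ∀ (A : Type u) [CommRing A] [Algebra R A] (z : Fin (n * s) → A) (p : MvPolynomial (Fin n) R),
      eval z (map (algebraMap R A) (bind₁ sub p)) =
        eval (fun i => algebraMap R A (c i) + ∑ k, algebraMap R A (μ k) * z (e (i, k)))
          (map (algebraMap R A) p) := by
    intro A _ _ z p
    rw [eval_map, eval_map, ← aeval_def, ← aeval_def, aeval_bind₁]
    have hfg : (fun i => (aeval z) (sub i)) =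
        fun i => (algebraMap R A) (c i) + ∑ k, (algebraMap R A) (μ k) * z (e (i, k)) := by
      funext i
      simp [sub, aeval_def]
    rw [hfg]
  have hsolΛ : ∀ j, eval y' (map (algebraMap R Λ) (G j)) = 0 := by
    intro j
    rw [key Λ y' (F j), ← ha j]
    have hfg : (fun i => (algebraMap R Λ) (c i) + ∑ k, (algebraMap R Λ) (μ k) * y' (e (i, k))) = a := by
      funext i
      have h1 : ∀ k, y' (e (i, k)) = y i k := fun k => by simp [y']
      simp only [h1]
      have h2 := hy i
      rw [eq_sub_iff_add_eq'] at h2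
      rw [← h2]
      congr 1
      exact Finset.sum_congr rfl fun k _ => mul_comm _ _
    rw [hfg]
  obtain ⟨z, hz⟩ := hex (n * s) m G ⟨y', hsolΛ⟩
  refine ⟨fun i => c i + ∑ k, μ k * z (e (i, k)), fun j => ?_, fun i => ?_⟩
  · have := key R z (F j)
    simp only [Algebra.algebraMap_self, map_id, RingHom.id_apply] at this
    rw [← this]
    exact hz j
  · rw [map_add, map_sum, ← sub_sub]
    refine Ideal.sub_mem _ (hc i) (Ideal.sum_mem _ fun k _ => ?_)
    rw [map_mul]
    exact Ideal.mul_mem_right _ _ (Ideal.mem_map_of_mem _ (by rw [← hμ]; exact Ideal.subset_span ⟨k, rfl⟩))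

end Groth.Agent.Lib.Helper61.ArtinAA2
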