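import Mathlib

/-!
# Artinian reduced rings

An Artinian reduced commutative ring is von Neumann regular; if moreover it is connected (only
trivial idempotents) and nontrivial, it is a field.
-/

set_option autoImplicit false

namespace Groth.Agent.Lib.Helper61.ArtinReduced

variable {W : Type*} [CommRing W]

/-- In an Artinian reduced ring every element `x` is of the form `x * x * y`. -/
theorem exists_eq_mul_self_mul [IsArtinianRing W] [IsReduced W] (x : W) :
    ∃ y : W, x = x * x * y := by
  -- the chain of ideals (x^n) stabilizes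
  let f : ℕ →o (Ideal W)ᵒᵈ :=
    { toFun := fun n => OrderDual.toDual (Ideal.span {x ^ n})
      monotone' := by
        intro m n hmn
        change Ideal.span {x ^ n} ≤ Ideal.span {x ^ m}
        rw [Ideal.span_singleton_le_span_singleton]
        exact pow_dvd_pow x hmn }
  obtain ⟨n, hn⟩ := IsArtinian.monotone_stabilizes (R := W) (M := W) f
  have h1 : Ideal.span {x ^ n} = Ideal.span {x ^ (n + 1)} :=
    congrArg OrderDual.ofDual (hn (n + 1) (Nat.le_succ n))
  have h2 : x ^ n ∈ Ideal.span {x ^ (n + 1)} := by
    rw [← h1]; exact Ideal.subset_span rfl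
  obtain ⟨y, hy⟩ := Ideal.mem_span_singleton'.mp h2
  refine ⟨y, ?_⟩
  -- z = x - x^2 y is nilpotent
  have hz : (x - x * x * y) ^ (n + 1) = 0 := by
    have e1 : x - x * x * y = x * (1 - x * y) := by ring
    rw [e1, mul_pow, pow_succ (1 - x * y) n]
    have e2 : x ^ (n + 1) * ((1 - x * y) ^ n * (1 - x * y)) =
        (x * (x ^ n - y * x ^ (n + 1))) * (1 - x * y) ^ n := by ring
    rw [e2, hy, sub_self, mul_zero, zero_mul]
  have := IsReduced.eq_zero _ ⟨n + 1, hz⟩
  exact sub_eq_zero.mp this

/-- A nontrivial Artinian reduced ring with only trivial idempotents is a field. -/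
theorem isField_of_idempotents [Nontrivial W] [IsArtinianRing W] [IsReduced W]
    (hidem : ∀ e : W, e * e = e → e = 0 ∨ e = 1) : IsField W := by
  refine ⟨exists_pair_ne W, mul_comm, fun {x} hx => ?_⟩
  obtain ⟨y, hy⟩ := exists_eq_mul_self_mul x
  have he : (x * y) * (x * y) = x * y := by
    have : (x * y) * (x * y) = (x * x * y) * y := by ring
    rw [this, ← hy]
  rcases hidem (x * y) he with h0 | h1
  · exfalso
    apply hx
    have : x = x * (x * y) := by rw [← mul_assoc]; exact hy
    rw [this, h0, mul_zero]
  · exact ⟨y, h1⟩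

end Groth.Agent.Lib.Helper61.ArtinReduced
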