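import Mathlib
import Groth.Prelude.Def_CoactBr
import Groth.Agent.Lib.Helper61.GrpdRG

set_option autoImplicit false
universe u
open CategoryTheory MonoidalCategory CartesianMonoidalCategory MonObj AlgebraicGeometry
open CoactBr
open scoped TensorProduct

namespace Groth.Agent.Lib.Helper61.CoactRG
set_option backward.isDefEq.respectTransparency.types false
set_option maxHeartbeats 400000

section Pts

variable {R A B : Type u} [CommRing R] [CommRing A] [HopfAlgebra R A] [CommRing B] [Algebra R B]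
  [HopfRep.Comod R A B] [GLin.IsCoactAlg R A B]
variable {Z Z' : Type u} [CommRing Z] [Algebra R Z] [CommRing Z'] [Algebra R Z']

/-- the right action on ring-valued points: `x ⋆ g = (x ⊗ g) ∘ ρ` -/
noncomputable def ra (x : B →ₐ[R] Z) (g : A →ₐ[R] Z) : B →ₐ[R] Z :=
  (Algebra.TensorProduct.lift x g fun _ _ => .all _ _).comp (GLin.coactAlgHom R A B)

/-- product of points of the group -/
noncomputable def mulP (g h : A →ₐ[R] Z) : A →ₐ[R] Z :=
  (Algebra.TensorProduct.lift g h fun _ _ => .all _ _).comp (Bialgebra.comulAlgHom R A)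

variable (R A Z) in
/-- unit point of the group -/
noncomputable def oneP : A →ₐ[R] Z := (Algebra.ofId R Z).comp (Bialgebra.counitAlgHom R A)

/-- inverse point -/
noncomputable def invP (g : A →ₐ[R] Z) : A →ₐ[R] Z := g.comp (HopfAlgebra.antipodeAlgHom R A)

theorem pt_ra (x : B →ₐ[R] Z) (g : A →ₐ[R] Z) :
    pt (ra x g) = lift (pt x) (pt g) ≫ ract R A B := (lift_pt_ract x g).symm

theorem pt_mulP (g h : A →ₐ[R] Z) : pt (mulP g h) = pt g * pt h := (pt_mul_pt g h).symm

theorem pt_oneP : pt (oneP R A Z) = 1 := (one_eq_pt (R := R) (A := A) (K := Z)).symm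

theorem pt_invP (g : A →ₐ[R] Z) : pt (invP g) = (pt g)⁻¹ := (pt_inv g).symm

theorem ra_one (x : B →ₐ[R] Z) : ra x (oneP R A Z) = x := by
  apply pt_injective
  rw [pt_ra, pt_oneP, lift_one_ract]

theorem ra_ra (x : B →ₐ[R] Z) (g h : A →ₐ[R] Z) : ra (ra x g) h = ra x (mulP g h) := by
  apply pt_injective
  rw [pt_ra, pt_ra, pt_ra, pt_mulP, lift_ract_ract]

theorem mulP_invP (g : A →ₐ[R] Z) : mulP g (invP g) = oneP R A Z := by
  apply pt_injective
  rw [pt_mulP, pt_invP, pt_oneP, mul_inv_cancel]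

theorem invP_mulP_cancel (g h : A →ₐ[R] Z) : mulP (invP g) (mulP g h) = h := by
  apply pt_injective
  rw [pt_mulP, pt_invP, pt_mulP, inv_mul_cancel_left]

theorem mulP_invP_cancel (g h : A →ₐ[R] Z) : mulP g (mulP (invP g) h) = h := by
  apply pt_injective
  rw [pt_mulP, pt_mulP, pt_invP, mul_inv_cancel_left]

theorem algComp_lift {P Q : Type u} [CommRing P] [Algebra R P] [CommRing Q] [Algebra R Q]
    (ψ : Z →ₐ[R] Z') (x : P →ₐ[R] Z) (g : Q →ₐ[R] Z) :
    ψ.comp (Algebra.TensorProduct.lift x g fun _ _ => .all _ _) =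
      Algebra.TensorProduct.lift (ψ.comp x) (ψ.comp g) fun _ _ => .all _ _ := by
  apply Algebra.TensorProduct.ext'
  intro p q
  simp [Algebra.TensorProduct.lift_tmul]

theorem comp_ra (ψ : Z →ₐ[R] Z') (x : B →ₐ[R] Z) (g : A →ₐ[R] Z) :
    ψ.comp (ra x g) = ra (ψ.comp x) (ψ.comp g) := by
  unfold ra
  rw [← AlgHom.comp_assoc, algComp_lift]

theorem comp_mulP (ψ : Z →ₐ[R] Z') (g h : A →ₐ[R] Z) :
    ψ.comp (mulP g h) = mulP (ψ.comp g) (ψ.comp h) := by
  unfold mulP
  rw [← AlgHom.comp_assoc, algComp_lift]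

theorem comp_invP (ψ : Z →ₐ[R] Z') (g : A →ₐ[R] Z) :
    ψ.comp (invP g) = invP (ψ.comp g) := by
  unfold invP
  rw [AlgHom.comp_assoc]

theorem comp_oneP (ψ : Z →ₐ[R] Z') : ψ.comp (oneP R A Z) = oneP R A Z' := by
  unfold oneP
  rw [← AlgHom.comp_assoc]
  congr 1
  ext

theorem lift_comp_incl {P Q : Type u} [CommRing P] [Algebra R P] [CommRing Q] [Algebra R Q]
    (φ : P ⊗[R] Q →ₐ[R] Z) :
    (Algebra.TensorProduct.lift (φ.comp Algebra.TensorProduct.includeLeft)
      (φ.comp Algebra.TensorProduct.includeRight) fun _ _ => .all _ _) = φ := by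
  apply Algebra.TensorProduct.ext'
  intro p q
  simp only [Algebra.TensorProduct.lift_tmul, AlgHom.comp_apply,
    Algebra.TensorProduct.includeLeft_apply, Algebra.TensorProduct.includeRight_apply]
  rw [← map_mul, Algebra.TensorProduct.tmul_mul_tmul, _root_.mul_one, _root_.one_mul]

theorem lift_incl_left {P Q : Type u} [CommRing P] [Algebra R P] [CommRing Q] [Algebra R Q]
    (x : P →ₐ[R] Z) (g : Q →ₐ[R] Z) :
    (Algebra.TensorProduct.lift x g fun _ _ => .all _ _).comp Algebra.TensorProduct.includeLeft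
      = x := by
  ext p
  simp

theorem lift_incl_right {P Q : Type u} [CommRing P] [Algebra R P] [CommRing Q] [Algebra R Q]
    (x : P →ₐ[R] Z) (g : Q →ₐ[R] Z) :
    (Algebra.TensorProduct.lift x g fun _ _ => .all _ _).comp Algebra.TensorProduct.includeRight
      = g := by
  ext p
  simp

end Pts

theorem isPushout_base (R B M A : Type u) [CommRing R] [CommRing B] [CommRing M] [CommRing A]
    [Algebra R B] [Algebra R M] [Algebra R A] (f : B →ₐ[R] M) :
    IsPushout (CommRingCat.ofHom f.toRingHom)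
      (CommRingCat.ofHom (Algebra.TensorProduct.includeLeft : B →ₐ[R] B ⊗[R] A).toRingHom)
      (CommRingCat.ofHom (Algebra.TensorProduct.includeLeft : M →ₐ[R] M ⊗[R] A).toRingHom)
      (CommRingCat.ofHom (Algebra.TensorProduct.map f (AlgHom.id R A)).toRingHom) := by
  letI : Algebra B M := f.toRingHom.toAlgebra
  haveI : IsScalarTower R B M := IsScalarTower.of_algebraMap_eq' (by
    ext r
    exact (f.commutes r).symm)
  have h0 := CommRingCat.isPushout_tensorProduct B M (B ⊗[R] A)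
  let e : M ⊗[B] (B ⊗[R] A) ≃ₐ[B] M ⊗[R] A := Algebra.TensorProduct.cancelBaseChange R B B M A
  refine h0.of_iso (Iso.refl _) (Iso.refl _) (Iso.refl _) e.toRingEquiv.toCommRingCatIso
    ?_ ?_ ?_ ?_
  · simp only [Iso.refl_hom, Category.id_comp, Category.comp_id]
  · simp only [Iso.refl_hom, Category.id_comp, Category.comp_id]
    rfl
  · simp only [Iso.refl_hom, Category.id_comp, Category.comp_id]
    ext m
    show e (m ⊗ₜ 1) = m ⊗ₜ 1
    rw [Algebra.TensorProduct.one_def]
    show Algebra.TensorProduct.cancelBaseChange R B B M A (m ⊗ₜ (1 ⊗ₜ 1)) = _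
    rw [Algebra.TensorProduct.cancelBaseChange_tmul, one_smul]
  · simp only [Iso.refl_hom, Category.id_comp, Category.comp_id]
    apply CommRingCat.hom_ext
    refine RingHom.ext fun z => ?_
    show e (1 ⊗ₜ z) = Algebra.TensorProduct.map f (AlgHom.id R A) z
    induction z using TensorProduct.induction_on with
    | zero => simp
    | tmul b a =>
      show Algebra.TensorProduct.cancelBaseChange R B B M A (1 ⊗ₜ (b ⊗ₜ a)) = _
      rw [Algebra.TensorProduct.cancelBaseChange_tmul, Algebra.TensorProduct.map_tmul,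
        Algebra.smul_def, _root_.mul_one]
      rfl
    | add x y hx hy =>
      rw [TensorProduct.tmul_add, map_add, hx, hy, map_add]


section RGdef

open CategoryTheory.Limits Groth.Agent.Lib.Helper61.GrpdOrbit Groth.Agent.Lib.Helper15.ProjCharpoly

variable (R A B : Type u) [CommRing R] [CommRing A] [HopfAlgebra R A] [CommRing B] [Algebra R B]
  [HopfRep.Comod R A B] [GLin.IsCoactAlg R A B]

/-- universal point of `X` with values in `B ⊗ A` -/
noncomputable def x0 : B →ₐ[R] B ⊗[R] A := Algebra.TensorProduct.includeLeft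
/-- universal point of `G` with values in `B ⊗ A` -/
noncomputable def g0 : A →ₐ[R] B ⊗[R] A := Algebra.TensorProduct.includeRight

theorem lift_x0_g0 : (Algebra.TensorProduct.lift (x0 R A B) (g0 R A B) fun _ _ => .all _ _) =
    AlgHom.id R (B ⊗[R] A) := by
  have := lift_comp_incl (AlgHom.id R (B ⊗[R] A))
  rwa [AlgHom.id_comp, AlgHom.id_comp] at this

theorem ra_x0_g0 : ra (x0 R A B) (g0 R A B) = GLin.coactAlgHom R A B := by
  unfold ra
  rw [lift_x0_g0, AlgHom.id_comp]

/-- identity section -/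
noncomputable def eH : B ⊗[R] A →ₐ[R] B :=
  Algebra.TensorProduct.lift (AlgHom.id R B) (oneP R A B) fun _ _ => .all _ _

/-- inverse -/
noncomputable def iH : B ⊗[R] A →ₐ[R] B ⊗[R] A :=
  Algebra.TensorProduct.lift (ra (x0 R A B) (g0 R A B)) (invP (g0 R A B)) fun _ _ => .all _ _

/-- universal points with values in `(B ⊗ A) ⊗ A` -/
noncomputable def x1 : B →ₐ[R] (B ⊗[R] A) ⊗[R] A :=
  (Algebra.TensorProduct.includeLeft : B ⊗[R] A →ₐ[R] (B ⊗[R] A) ⊗[R] A).comp (x0 R A B)
noncomputable def g1 : A →ₐ[R] (B ⊗[R] A) ⊗[R] A :=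
  (Algebra.TensorProduct.includeLeft : B ⊗[R] A →ₐ[R] (B ⊗[R] A) ⊗[R] A).comp (g0 R A B)
noncomputable def h1 : A →ₐ[R] (B ⊗[R] A) ⊗[R] A := Algebra.TensorProduct.includeRight

/-- first projection `(x, g, h) ↦ (x·g, h)` -/
noncomputable def p1H : B ⊗[R] A →ₐ[R] (B ⊗[R] A) ⊗[R] A :=
  Algebra.TensorProduct.map (GLin.coactAlgHom R A B) (AlgHom.id R A)

/-- second projection `(x, g, h) ↦ (x, g)` -/
noncomputable def p2H : B ⊗[R] A →ₐ[R] (B ⊗[R] A) ⊗[R] A := Algebra.TensorProduct.includeLeft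

/-- composition `(x, g, h) ↦ (x, g h)` -/
noncomputable def cH : B ⊗[R] A →ₐ[R] (B ⊗[R] A) ⊗[R] A :=
  Algebra.TensorProduct.lift (x1 R A B) (mulP (g1 R A B) (h1 R A B)) fun _ _ => .all _ _

theorem eH_s : (eH R A B).comp (x0 R A B) = AlgHom.id R B := lift_incl_left _ _

theorem eH_t : (eH R A B).comp (GLin.coactAlgHom R A B) = AlgHom.id R B := ra_one _

theorem iH_s : (iH R A B).comp (x0 R A B) = GLin.coactAlgHom R A B := by
  unfold iH x0
  rw [lift_incl_left]
  exact ra_x0_g0 R A B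

theorem iH_t : (iH R A B).comp (GLin.coactAlgHom R A B) = x0 R A B := by
  show ra (ra (x0 R A B) (g0 R A B)) (invP (g0 R A B)) = _
  rw [ra_ra, mulP_invP, ra_one]

theorem p1H_eq : p1H R A B = Algebra.TensorProduct.lift (ra (x1 R A B) (g1 R A B)) (h1 R A B)
    fun _ _ => .all _ _ := by
  rw [← lift_comp_incl (p1H R A B)]
  congr 1
  · unfold p1H x1 g1
    rw [← comp_ra, ra_x0_g0]
    ext b
    simp
  · unfold p1H h1
    ext a
    simp

theorem cH_t : (cH R A B).comp (GLin.coactAlgHom R A B) =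
    (p1H R A B).comp (GLin.coactAlgHom R A B) := by
  rw [p1H_eq]
  show ra (x1 R A B) (mulP (g1 R A B) (h1 R A B)) = ra (ra (x1 R A B) (g1 R A B)) (h1 R A B)
  rw [ra_ra]

/-- the twist `(x, g, h) ↦ (x, g, g h)` -/
noncomputable def θ : (B ⊗[R] A) ⊗[R] A →ₐ[R] (B ⊗[R] A) ⊗[R] A :=
  Algebra.TensorProduct.lift (p2H R A B) (mulP (g1 R A B) (h1 R A B)) fun _ _ => .all _ _

/-- the inverse twist `(x, g, h) ↦ (x, g, g⁻¹ h)` -/
noncomputable def θ' : (B ⊗[R] A) ⊗[R] A →ₐ[R] (B ⊗[R] A) ⊗[R] A :=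
  Algebra.TensorProduct.lift (p2H R A B) (mulP (invP (g1 R A B)) (h1 R A B)) fun _ _ => .all _ _

theorem θ_p2 : (θ R A B).comp (p2H R A B) = p2H R A B := lift_incl_left _ _
theorem θ'_p2 : (θ' R A B).comp (p2H R A B) = p2H R A B := lift_incl_left _ _
theorem θ_g1 : (θ R A B).comp (g1 R A B) = g1 R A B := by
  show (θ R A B).comp ((p2H R A B).comp (g0 R A B)) = (p2H R A B).comp (g0 R A B)
  rw [← AlgHom.comp_assoc, θ_p2]
theorem θ'_g1 : (θ' R A B).comp (g1 R A B) = g1 R A B := by
  show (θ' R A B).comp ((p2H R A B).comp (g0 R A B)) = (p2H R A B).comp (g0 R A B)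
  rw [← AlgHom.comp_assoc, θ'_p2]
theorem θ_h1 : (θ R A B).comp (h1 R A B) = mulP (g1 R A B) (h1 R A B) := lift_incl_right _ _
theorem θ'_h1 : (θ' R A B).comp (h1 R A B) = mulP (invP (g1 R A B)) (h1 R A B) :=
  lift_incl_right _ _

theorem lift_p2_h1 : (Algebra.TensorProduct.lift (p2H R A B) (h1 R A B) fun _ _ => .all _ _) =
    AlgHom.id R ((B ⊗[R] A) ⊗[R] A) := by
  have := lift_comp_incl (AlgHom.id R ((B ⊗[R] A) ⊗[R] A))
  rwa [AlgHom.id_comp, AlgHom.id_comp] at this

theorem θ_θ' : (θ R A B).comp (θ' R A B) = AlgHom.id R _ := by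
  conv_lhs => rw [θ', algComp_lift, θ_p2, comp_mulP, comp_invP, θ_g1, θ_h1, invP_mulP_cancel]
  exact lift_p2_h1 R A B

theorem θ'_θ : (θ' R A B).comp (θ R A B) = AlgHom.id R _ := by
  conv_lhs => rw [θ, algComp_lift, θ'_p2, comp_mulP, θ'_g1, θ'_h1, mulP_invP_cancel]
  exact lift_p2_h1 R A B

/-- the twist as an algebra equivalence -/
noncomputable def θe : ((B ⊗[R] A) ⊗[R] A) ≃ₐ[R] ((B ⊗[R] A) ⊗[R] A) :=
  AlgEquiv.ofAlgHom (θ R A B) (θ' R A B) (θ_θ' R A B) (θ'_θ R A B)

theorem cH_eq : cH R A B = (θ R A B).comp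
    (Algebra.TensorProduct.map (x0 R A B) (AlgHom.id R A)) := by
  rw [← lift_comp_incl ((θ R A B).comp (Algebra.TensorProduct.map (x0 R A B) (AlgHom.id R A)))]
  unfold cH
  congr 1
  · rw [AlgHom.comp_assoc]
    have : (Algebra.TensorProduct.map (x0 R A B) (AlgHom.id R A)).comp
        Algebra.TensorProduct.includeLeft = (p2H R A B).comp (x0 R A B) := by
      ext b
      simp [p2H]
    rw [this, ← AlgHom.comp_assoc, θ_p2]
    rfl
  · rw [AlgHom.comp_assoc]
    have : (Algebra.TensorProduct.map (x0 R A B) (AlgHom.id R A)).comp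
        Algebra.TensorProduct.includeRight = h1 R A B := by
      ext a
      simp [h1]
    rw [this, θ_h1]

end RGdef

section RGstruct

open CategoryTheory.Limits Groth.Agent.Lib.Helper61.GrpdOrbit Groth.Agent.Lib.Helper15.ProjCharpoly

variable (R A B : Type u) [CommRing R] [CommRing A] [HopfAlgebra R A] [CommRing B] [Algebra R B]
  [HopfRep.Comod R A B] [GLin.IsCoactAlg R A B]

theorem ofHom_comp_alg {P Q S : Type u} [CommRing P] [CommRing Q] [CommRing S] [Algebra R P]
    [Algebra R Q] [Algebra R S] (f : P →ₐ[R] Q) (g : Q →ₐ[R] S) :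
    CommRingCat.ofHom f.toRingHom ≫ CommRingCat.ofHom g.toRingHom =
      CommRingCat.ofHom (g.comp f).toRingHom := rfl

theorem pres_of_alg [Module.Finite R A] [Module.Projective R A]
    (alg : Algebra B (B ⊗[R] A))
    (h : alg = (Algebra.TensorProduct.leftAlgebra : Algebra B (B ⊗[R] A))) :
    Nonempty (@Pres B (B ⊗[R] A) _ _ alg.toModule) := by
  subst h
  exact exists_pres

/-- the ring-level groupoid of the action -/
noncomputable def rg [Module.Finite R A] [Module.Projective R A] : RG.{u} where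
  A := CommRingCat.of B
  B := CommRingCat.of (B ⊗[R] A)
  Y := CommRingCat.of ((B ⊗[R] A) ⊗[R] A)
  s := CommRingCat.ofHom (x0 R A B).toRingHom
  t := CommRingCat.ofHom (GLin.coactAlgHom R A B).toRingHom
  e := CommRingCat.ofHom (eH R A B).toRingHom
  i := CommRingCat.ofHom (iH R A B).toRingHom
  p1 := CommRingCat.ofHom (p1H R A B).toRingHom
  p2 := CommRingCat.ofHom (p2H R A B).toRingHom
  c := CommRingCat.ofHom (cH R A B).toRingHom
  es := by
    rw [ofHom_comp_alg, eH_s]
    rfl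
  et := by
    rw [ofHom_comp_alg, eH_t]
    rfl
  si := by rw [ofHom_comp_alg, iH_s]
  ti := by rw [ofHom_comp_alg, iH_t]
  Q1 := isPushout_base R B (B ⊗[R] A) A (GLin.coactAlgHom R A B)
  Q2 := by
    have h0 := isPushout_base R B (B ⊗[R] A) A (x0 R A B)
    refine h0.of_iso (Iso.refl _) (Iso.refl _) (Iso.refl _)
      (θe R A B).toRingEquiv.toCommRingCatIso ?_ ?_ ?_ ?_
    · simp only [Iso.refl_hom, Category.id_comp, Category.comp_id]
    · simp only [Iso.refl_hom, Category.id_comp, Category.comp_id]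
      rfl
    · simp only [Iso.refl_hom, Category.id_comp]
      show CommRingCat.ofHom (p2H R A B).toRingHom ≫ CommRingCat.ofHom (θ R A B).toRingHom = _
      rw [ofHom_comp_alg, θ_p2]
    · simp only [Iso.refl_hom, Category.id_comp]
      show CommRingCat.ofHom (Algebra.TensorProduct.map (x0 R A B) (AlgHom.id R A)).toRingHom ≫
        CommRingCat.ofHom (θ R A B).toRingHom = _
      rw [ofHom_comp_alg, ← cH_eq]
  hct := by rw [ofHom_comp_alg, ofHom_comp_alg, cH_t]
  pres := pres_of_alg R A B _ (Algebra.algebra_ext _ _ (fun _ => rfl))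

/-- transitivity on points with values in an algebraically closed field -/
theorem exists_ra_eq [Module.Finite R A] [Module.Projective R A]
    (K : Type u) [Field K] [IsAlgClosed K] [Algebra R K] (x₁ x₂ : B →ₐ[R] K)
    (h : ∀ c ∈ GLin.invariants R A B, x₁ c = x₂ c) :
    ∃ g : A →ₐ[R] K, x₁ = ra x₂ g := by
  obtain ⟨ρ', h1, h2⟩ := (rg R A B).kpoints K x₁.toRingHom x₂.toRingHom (fun c hc => by
    apply h c
    rw [GLin.mem_invariants_iff]
    exact hc.symm)
  have hs : ∀ b : B, ρ' (x0 R A B b) = x₂ b := fun b => RingHom.congr_fun h2 b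
  have ht : ∀ b : B, ρ' (GLin.coactAlgHom R A B b) = x₁ b := fun b => RingHom.congr_fun h1 b
  let ρ'' : B ⊗[R] A →ₐ[R] K := { ρ' with
    commutes' := fun r => by
      show ρ' (algebraMap R (B ⊗[R] A) r) = algebraMap R K r
      have : algebraMap R (B ⊗[R] A) r = x0 R A B (algebraMap R B r) := rfl
      rw [this, hs, AlgHom.commutes] }
  have e1 : ρ''.comp (x0 R A B) = x₂ := AlgHom.ext hs
  refine ⟨ρ''.comp (g0 R A B), ?_⟩
  have e2 : ρ'' = Algebra.TensorProduct.lift x₂ (ρ''.comp (g0 R A B)) fun _ _ => .all _ _ := by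
    conv_lhs => rw [← lift_comp_incl ρ'']
    congr 1
  unfold ra
  rw [← e2]
  exact AlgHom.ext (fun b => (ht b).symm)

end RGstruct

end Groth.Agent.Lib.Helper61.CoactRG
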