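import Mathlib
import Groth.Prelude.Def_CoactBr
import Groth.Agent.Lib.Helper61.CoactRG

set_option autoImplicit false
universe u
open CategoryTheory MonoidalCategory CartesianMonoidalCategory MonObj AlgebraicGeometry
open CoactBr
open scoped TensorProduct

namespace Groth.Agent.Lib.Helper61.CoactStab
set_option backward.isDefEq.respectTransparency.types false
set_option maxHeartbeats 400000
open Groth.Agent.Lib.Helper61.CoactRG

/-- Nakayama in the form needed: a finite module whose base change to a field-valued point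
vanishes is killed by an element not vanishing at the point. -/
theorem exists_ann_of_subsingleton_tensor {B : Type u} [CommRing B] {N : Type u} [AddCommGroup N]
    [Module B N] [Module.Finite B N] {K : Type u} [Field K] [Algebra B K]
    (h : Subsingleton (K ⊗[B] N)) :
    ∃ f : B, algebraMap B K f ≠ 0 ∧ ∀ n : N, f • n = 0 := by
  let x : B →+* K := algebraMap B K
  haveI hp : (RingHom.ker x).IsPrime := RingHom.ker_isPrime x
  let p : PrimeSpectrum B := ⟨RingHom.ker x, hp⟩
  let κ := (RingHom.ker x).ResidueField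
  have hu : (RingHom.ker x).primeCompl ≤ (IsUnit.submonoid K).comap x := by
    intro b hb
    show IsUnit (x b)
    exact isUnit_iff_ne_zero.mpr (fun h0 => hb h0)
  let φ : κ →+* K := Ideal.ResidueField.lift (RingHom.ker x) x le_rfl hu
  letI : Algebra κ K := φ.toAlgebra
  haveI : IsScalarTower B κ K := IsScalarTower.of_algebraMap_eq' (by
    ext b
    exact (Ideal.ResidueField.lift_algebraMap (RingHom.ker x) x le_rfl hu b).symm)
  have hκ : Subsingleton (κ ⊗[B] N) := by
    by_contra hne
    rw [not_subsingleton_iff_nontrivial] at hne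
    haveI := hne
    haveI : Nontrivial (K ⊗[κ] (κ ⊗[B] N)) := inferInstance
    have e := TensorProduct.AlgebraTensorModule.cancelBaseChange B κ K K N
    haveI : Subsingleton (K ⊗[κ] (κ ⊗[B] N)) := e.injective.subsingleton
    exact false_of_nontrivial_of_subsingleton (K ⊗[κ] (κ ⊗[B] N))
  have hns : p ∉ Module.support B N := by
    rw [Module.mem_support_iff_nontrivial_residueField_tensorProduct]
    exact not_nontrivial_iff_subsingleton.mpr hκ
  rw [Module.mem_support_iff_of_finite] at hns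
  obtain ⟨f, hf, hfp⟩ := Set.not_subset.mp hns
  refine ⟨f, fun h0 => hfp h0, fun n => ?_⟩
  exact Module.mem_annihilator.mp hf n

section Stab

variable (R A B : Type u) [CommRing R] [CommRing A] [HopfAlgebra R A] [CommRing B] [Algebra R B]
  [HopfRep.Comod R A B] [GLin.IsCoactAlg R A B]

/-- the ideal of the stabilizer in `B ⊗ A` -/
def stabI : Ideal (B ⊗[R] A) :=
  Ideal.span (Set.range fun b : B => GLin.coactAlgHom R A B b - x0 R A B b)

variable {R A B}

theorem stabI_le_ker_of_fix {W : Type u} [CommRing W] [Algebra R W] (Φ : B ⊗[R] A →ₐ[R] W)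
    (h : Φ.comp (GLin.coactAlgHom R A B) = Φ.comp (x0 R A B)) :
    stabI R A B ≤ RingHom.ker Φ.toRingHom := by
  unfold stabI
  rw [Ideal.span_le]
  rintro _ ⟨b, rfl⟩
  show Φ (GLin.coactAlgHom R A B b - x0 R A B b) = 0
  rw [map_sub, sub_eq_zero]
  exact AlgHom.congr_fun h b

theorem ra_eq_comp {W : Type u} [CommRing W] [Algebra R W] (ζ : B →ₐ[R] W) (g : A →ₐ[R] W) :
    ra ζ g = (Algebra.TensorProduct.lift ζ g fun _ _ => .all _ _).comp
      (GLin.coactAlgHom R A B) := rfl

theorem stabI_le_ker_lift {W : Type u} [CommRing W] [Algebra R W] (ζ : B →ₐ[R] W)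
    (g : A →ₐ[R] W) (h : ra ζ g = ζ) :
    stabI R A B ≤ RingHom.ker (Algebra.TensorProduct.lift ζ g fun _ _ => .all _ _).toRingHom := by
  apply stabI_le_ker_of_fix
  rw [← ra_eq_comp, h]
  exact (lift_incl_left ζ g).symm

variable (R A B) in
/-- `f` kills the augmentation ideal of the stabilizer -/
def Good (f : B) : Prop :=
  ∀ a : A, x0 R A B f * (g0 R A B a - algebraMap R (B ⊗[R] A) (Coalgebra.counit a)) ∈ stabI R A B

theorem oneP_apply {W : Type u} [CommRing W] [Algebra R W] (a : A) :
    oneP R A W a = algebraMap R W (Coalgebra.counit a) := rfl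

/-- freeness over the locus where a good element is invertible -/
theorem eq_oneP_of_good {f : B} (hf : Good R A B f) {W : Type u} [CommRing W] [Algebra R W]
    (ζ : B →ₐ[R] W) (g : A →ₐ[R] W) (hfix : ra ζ g = ζ) (hu : IsUnit (ζ f)) :
    g = oneP R A W := by
  ext a
  have h1 := stabI_le_ker_lift ζ g hfix (hf a)
  have h2 : (Algebra.TensorProduct.lift ζ g fun _ _ => .all _ _)
      (x0 R A B f * (g0 R A B a - algebraMap R (B ⊗[R] A) (Coalgebra.counit a))) = 0 := h1
  rw [map_mul, map_sub, AlgHom.commutes] at h2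
  have e1 : (Algebra.TensorProduct.lift ζ g fun _ _ => .all _ _) (x0 R A B f) = ζ f :=
    AlgHom.congr_fun (lift_incl_left ζ g) f
  have e2 : (Algebra.TensorProduct.lift ζ g fun _ _ => .all _ _) (g0 R A B a) = g a :=
    AlgHom.congr_fun (lift_incl_right ζ g) a
  rw [e1, e2] at h2
  have h3 := (hu.mul_right_eq_zero).mp h2
  rw [oneP_apply]
  exact sub_eq_zero.mp h3

theorem good_mul {f : B} (hf : Good R A B f) (b : B) : Good R A B (b * f) := by
  intro a
  rw [map_mul, _root_.mul_assoc]
  exact Ideal.mul_mem_left _ _ (hf a)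

end Stab

section Nak

variable {R A B : Type u} [CommRing R] [CommRing A] [HopfAlgebra R A] [CommRing B] [Algebra R B]
  [HopfRep.Comod R A B] [GLin.IsCoactAlg R A B]

variable (R A B) in
/-- coordinate ring of the stabilizer -/
abbrev Zst : Type u := (B ⊗[R] A) ⧸ stabI R A B

/-- the unit section of the stabilizer -/
noncomputable def ebar : Zst R A B →+* B :=
  Ideal.Quotient.lift (stabI R A B) (eH R A B).toRingHom (by
    have h := stabI_le_ker_of_fix (eH R A B) (by rw [eH_t]; exact (eH_s R A B).symm)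
    intro z hz
    exact h hz)

theorem ebar_mk (z : B ⊗[R] A) : ebar (Ideal.Quotient.mk (stabI R A B) z) = eH R A B z := rfl

theorem smul_mk (b : B) (z : B ⊗[R] A) :
    b • (Ideal.Quotient.mk (stabI R A B) z) = Ideal.Quotient.mk (stabI R A B) (x0 R A B b * z) := by
  rw [← Ideal.Quotient.mk_eq_mk, ← Submodule.Quotient.mk_smul, Algebra.smul_def]
  rfl

variable (A) in
/-- inertia trivial at `x`, in algebraic form -/
def InertiaTriv {K : Type u} [CommRing K] [Algebra R K] (x : B →ₐ[R] K) : Prop :=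
  ∀ (W : Type u) [CommRing W] [Algebra R W] (h : K →ₐ[R] W) (g : A →ₐ[R] W),
    ra (A := A) (h.comp x) g = h.comp x → g = oneP R A W

theorem comp_g0_eq_oneP {K : Type u} [CommRing K] [Algebra R K] (x : B →ₐ[R] K)
    (hx : InertiaTriv A x) (W : Type u) [CommRing W] [Algebra R W] (hK : K →ₐ[R] W)
    (Φ : B ⊗[R] A →ₐ[R] W) (e1 : Φ.comp (x0 R A B) = hK.comp x)
    (e2 : Φ.comp (GLin.coactAlgHom R A B) = Φ.comp (x0 R A B)) :
    Φ.comp (g0 R A B) = oneP R A W := by
  apply hx W hK
  rw [← e1, ← comp_ra, ra_x0_g0, e2]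

section BK

variable {K : Type u} [Field K] [Algebra R K] [Algebra B K] [IsScalarTower R B K]

variable (R A B K) in
/-- the point of the stabilizer with values in `K ⊗[B] Z`, as a ring hom -/
noncomputable def Φr : B ⊗[R] A →+* K ⊗[B] Zst R A B :=
  (Algebra.TensorProduct.includeRight (R := B) (A := K) (B := Zst R A B)).toRingHom.comp
    (Ideal.Quotient.mk (stabI R A B))

theorem Φr_apply (z : B ⊗[R] A) :
    Φr R A B K z = (1 : K) ⊗ₜ[B] (Ideal.Quotient.mk (stabI R A B) z) := rfl

theorem Φr_x0 (b : B) : Φr R A B K (x0 R A B b) = (algebraMap B K b) ⊗ₜ[B] (1 : Zst R A B) := by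
  rw [Φr_apply]
  have : Ideal.Quotient.mk (stabI R A B) (x0 R A B b) = b • (1 : Zst R A B) := by
    rw [← map_one (Ideal.Quotient.mk (stabI R A B)), smul_mk, _root_.mul_one]
  rw [this, ← TensorProduct.smul_tmul, Algebra.smul_def, _root_.mul_one]

variable (R A B K) in
/-- the point of the stabilizer with values in `K ⊗[B] Z` -/
noncomputable def ΦW : B ⊗[R] A →ₐ[R] K ⊗[B] Zst R A B :=
  { Φr R A B K with
    commutes' := fun r => by
      show Φr R A B K (algebraMap R (B ⊗[R] A) r) = algebraMap R (K ⊗[B] Zst R A B) r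
      have : algebraMap R (B ⊗[R] A) r = x0 R A B (algebraMap R B r) := rfl
      rw [this, Φr_x0, ← IsScalarTower.algebraMap_apply]
      rfl }

theorem ΦW_apply (z : B ⊗[R] A) :
    ΦW R A B K z = (1 : K) ⊗ₜ[B] (Ideal.Quotient.mk (stabI R A B) z) := rfl

theorem tmul_g0 (hx : InertiaTriv A (IsScalarTower.toAlgHom R B K)) (a : A) :
    (1 : K) ⊗ₜ[B] (Ideal.Quotient.mk (stabI R A B) (g0 R A B a)) =
      (algebraMap R K (Coalgebra.counit a)) ⊗ₜ[B] (1 : Zst R A B) := by
  have e1 : (ΦW R A B K).comp (x0 R A B) =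
      (Algebra.TensorProduct.includeLeft : K →ₐ[R] K ⊗[B] Zst R A B).comp
        (IsScalarTower.toAlgHom R B K) := by
    ext b
    exact Φr_x0 b
  have e2 : (ΦW R A B K).comp (GLin.coactAlgHom R A B) = (ΦW R A B K).comp (x0 R A B) := by
    ext b
    show ΦW R A B K (GLin.coactAlgHom R A B b) = ΦW R A B K (x0 R A B b)
    rw [ΦW_apply, ΦW_apply]
    congr 1
    rw [← sub_eq_zero, ← map_sub, Ideal.Quotient.eq_zero_iff_mem]
    exact Ideal.subset_span ⟨b, rfl⟩
  have hg := comp_g0_eq_oneP (IsScalarTower.toAlgHom R B K) hx (K ⊗[B] Zst R A B)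
    Algebra.TensorProduct.includeLeft (ΦW R A B K) e1 e2
  have := AlgHom.congr_fun hg a
  rw [oneP_apply] at this
  exact this

theorem exists_tmul_one (hx : InertiaTriv A (IsScalarTower.toAlgHom R B K))
    (w : K ⊗[B] Zst R A B) : ∃ c : K, w = c ⊗ₜ[B] (1 : Zst R A B) := by
  induction w using TensorProduct.induction_on with
  | zero => exact ⟨0, (TensorProduct.zero_tmul _ _).symm⟩
  | add w₁ w₂ h₁ h₂ =>
    obtain ⟨c₁, rfl⟩ := h₁
    obtain ⟨c₂, rfl⟩ := h₂
    exact ⟨c₁ + c₂, (TensorProduct.add_tmul _ _ _).symm⟩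
  | tmul c z =>
    obtain ⟨z', rfl⟩ := Ideal.Quotient.mk_surjective z
    induction z' using TensorProduct.induction_on with
    | zero => exact ⟨0, by rw [map_zero, TensorProduct.tmul_zero, TensorProduct.zero_tmul]⟩
    | add z₁ z₂ h₁ h₂ =>
      obtain ⟨c₁, h₁⟩ := h₁
      obtain ⟨c₂, h₂⟩ := h₂
      exact ⟨c₁ + c₂, by rw [map_add, TensorProduct.tmul_add, h₁, h₂, TensorProduct.add_tmul]⟩
    | tmul b a =>
      refine ⟨c * algebraMap B K b * algebraMap R K (Coalgebra.counit a), ?_⟩
      have hba : (b ⊗ₜ[R] a : B ⊗[R] A) = x0 R A B b * g0 R A B a := by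
        show _ = (b ⊗ₜ[R] (1 : A)) * ((1 : B) ⊗ₜ[R] a)
        rw [Algebra.TensorProduct.tmul_mul_tmul, _root_.mul_one, _root_.one_mul]
      have h3 : Ideal.Quotient.mk (stabI R A B) (b ⊗ₜ[R] a) =
          b • Ideal.Quotient.mk (stabI R A B) (g0 R A B a) := by
        rw [smul_mk, hba]
      rw [h3, ← TensorProduct.smul_tmul]
      have h4 : (b • c : K) = (c * algebraMap B K b) • (1 : K) := by
        rw [Algebra.smul_def, smul_eq_mul, _root_.mul_one, mul_comm]
      rw [h4, ← TensorProduct.smul_tmul', tmul_g0 hx a, TensorProduct.smul_tmul', smul_eq_mul]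

theorem subsingleton_coker (hx : InertiaTriv A (IsScalarTower.toAlgHom R B K)) :
    Subsingleton (K ⊗[B] (Zst R A B ⧸ (Submodule.span B {(1 : Zst R A B)}))) := by
  refine ⟨fun t₁ t₂ => ?_⟩
  have key : ∀ t : K ⊗[B] (Zst R A B ⧸ (Submodule.span B {(1 : Zst R A B)})), t = 0 := by
    intro t
    obtain ⟨w, rfl⟩ := LinearMap.lTensor_surjective K
      (Submodule.mkQ_surjective (Submodule.span B {(1 : Zst R A B)})) t
    obtain ⟨c, rfl⟩ := exists_tmul_one hx w
    rw [LinearMap.lTensor_tmul]
    have : (Submodule.span B {(1 : Zst R A B)}).mkQ 1 = 0 := by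
      rw [Submodule.mkQ_apply, Submodule.Quotient.mk_eq_zero]
      exact Submodule.subset_span rfl
    rw [this, TensorProduct.tmul_zero]
  rw [key t₁, key t₂]

end BK

theorem good_of_smul_mem {f : B}
    (hf : ∀ n : Zst R A B ⧸ (Submodule.span B {(1 : Zst R A B)}), f • n = 0) :
    Good R A B f := by
  intro a
  obtain ⟨z, hz⟩ : ∃ z : B ⊗[R] A,
      z = g0 R A B a - algebraMap R (B ⊗[R] A) (Coalgebra.counit a) := ⟨_, rfl⟩
  rw [← hz]
  have h5 := hf ((Submodule.span B {(1 : Zst R A B)}).mkQ (Ideal.Quotient.mk (stabI R A B) z))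
  rw [← map_smul, Submodule.mkQ_apply, Submodule.Quotient.mk_eq_zero,
    Submodule.mem_span_singleton] at h5
  obtain ⟨b, hb⟩ := h5
  have h6 := congrArg ebar hb
  have h7 : ebar (b • (1 : Zst R A B)) = b := by
    rw [← map_one (Ideal.Quotient.mk (stabI R A B)), smul_mk, ebar_mk, map_mul, map_one,
      _root_.mul_one]
    exact AlgHom.congr_fun (eH_s R A B) b
  have h8 : ebar (f • Ideal.Quotient.mk (stabI R A B) z) = 0 := by
    rw [smul_mk, ebar_mk, map_mul, hz, map_sub, AlgHom.commutes]
    have : eH R A B (g0 R A B a) = algebraMap R B (Coalgebra.counit a) :=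
      AlgHom.congr_fun (lift_incl_right (AlgHom.id R B) (oneP R A B)) a
    rw [this, sub_self, MulZeroClass.mul_zero]
  rw [h7, h8] at h6
  rw [h6, zero_smul] at hb
  rw [← Ideal.Quotient.eq_zero_iff_mem, ← smul_mk]
  exact hb.symm

theorem exists_good_of_inertiaTriv [Module.Finite R A] {K : Type u} [Field K] [Algebra R K]
    (x : B →ₐ[R] K) (hx : InertiaTriv A x) : ∃ f : B, Good R A B f ∧ x f ≠ 0 := by
  letI : Algebra B K := x.toRingHom.toAlgebra
  haveI : IsScalarTower R B K := IsScalarTower.of_algebraMap_eq' (by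
    ext r
    exact (x.commutes r).symm)
  have hxx : IsScalarTower.toAlgHom R B K = x := by
    ext b
    rfl
  haveI : Module.Finite B (B ⊗[R] A) := inferInstance
  haveI : Module.Finite B (Zst R A B) :=
    Module.Finite.of_surjective (Ideal.Quotient.mkₐ B (stabI R A B)).toLinearMap
      (Ideal.Quotient.mkₐ_surjective B (stabI R A B))
  have hsub := subsingleton_coker (R := R) (A := A) (B := B) (K := K) (hxx ▸ hx)
  obtain ⟨f, hf0, hf⟩ := exists_ann_of_subsingleton_tensor (B := B)
    (N := Zst R A B ⧸ (Submodule.span B {(1 : Zst R A B)})) (K := K) hsub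
  exact ⟨f, good_of_smul_mem hf, hf0⟩

end Nak

end Groth.Agent.Lib.Helper61.CoactStab
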