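import Mathlib
import Groth.Prelude.Def_CoactBr
import Groth.Agent.Lib.Helper61.CoactStab
import Groth.Agent.Lib.Helper81.CoactFibre

set_option autoImplicit false
universe u
open CategoryTheory MonoidalCategory CartesianMonoidalCategory MonObj AlgebraicGeometry
open CoactBr
open scoped TensorProduct

namespace Groth.Agent.Lib.Helper61.CoactStab
set_option backward.isDefEq.respectTransparency.types false
set_option maxHeartbeats 400000
open Groth.Agent.Lib.Helper61.CoactRG

/-- common algebraically closed extension of two field-valued points with the same kernel -/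
theorem exists_common_ext' {C K₁ K₂ : Type u} [CommRing C] [Field K₁] [Field K₂]
    (φ₁ : C →+* K₁) (φ₂ : C →+* K₂) (h : RingHom.ker φ₁ = RingHom.ker φ₂) :
    ∃ (Ω : Type u) (_ : Field Ω) (_ : IsAlgClosed Ω) (j₁ : K₁ →+* Ω) (j₂ : K₂ →+* Ω),
      j₁.comp φ₁ = j₂.comp φ₂ := by
  letI : Algebra C K₁ := φ₁.toAlgebra
  letI : Algebra C K₂ := φ₂.toAlgebra
  obtain ⟨Ω, i1, i2, i3, ⟨f₁⟩, ⟨f₂⟩⟩ :=
    Groth.Agent.Lib.Helper81.CoactFibre.exists_common_ext C K₁ K₂ h
  refine ⟨Ω, i1, i2, f₁.toRingHom, f₂.toRingHom, ?_⟩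
  ext c
  show f₁ (algebraMap C K₁ c) = f₂ (algebraMap C K₂ c)
  rw [f₁.commutes, f₂.commutes]

section X3

variable {R A B : Type u} [CommRing R] [CommRing A] [HopfAlgebra R A] [CommRing B] [Algebra R B]
  [HopfRep.Comod R A B] [GLin.IsCoactAlg R A B]

theorem good_add {f₁ f₂ : B} (h₁ : Good R A B f₁) (h₂ : Good R A B f₂) :
    Good R A B (f₁ + f₂) := by
  intro a
  rw [map_add, add_mul]
  exact Ideal.add_mem _ (h₁ a) (h₂ a)

theorem good_zero : Good R A B (0 : B) := by
  intro a
  rw [map_zero, MulZeroClass.zero_mul]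
  exact Ideal.zero_mem _

variable (R A B) in
/-- the ideal of good elements -/
def goodIdeal : Ideal B where
  carrier := {f | Good R A B f}
  add_mem' := fun h₁ h₂ => good_add h₁ h₂
  zero_mem' := good_zero
  smul_mem' := fun b _ hf => good_mul hf b

theorem inertiaTriv_comp {K L : Type u} [CommRing K] [Algebra R K] [CommRing L] [Algebra R L]
    (x : B →ₐ[R] K) (hx : InertiaTriv A x) (j : K →ₐ[R] L) : InertiaTriv A (j.comp x) := by
  intro W _ _ h g hfix
  apply hx W (h.comp j) g
  rw [AlgHom.comp_assoc]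
  exact hfix

theorem inertiaTriv_ra {K : Type u} [CommRing K] [Algebra R K]
    (y : B →ₐ[R] K) (hy : InertiaTriv A y) (w : A →ₐ[R] K) : InertiaTriv A (ra y w) := by
  intro W _ _ h g hfix
  rw [comp_ra] at hfix
  -- `ra (ra y' w') g = ra y' w'`
  have h1 : ra (h.comp y) (mulP (mulP (h.comp w) g) (invP (h.comp w))) = h.comp y := by
    rw [← ra_ra, ← ra_ra, hfix, ra_ra, mulP_invP, ra_one]
  have h2 := hy W h _ h1
  apply pt_injective
  have h3 := congrArg pt h2
  rw [pt_mulP, pt_mulP, pt_invP, pt_oneP] at h3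
  rw [pt_oneP]
  have h4 : pt (h.comp w) * pt g = pt (h.comp w) := by
    rw [mul_inv_eq_one] at h3
    exact h3
  exact mul_eq_left.mp h4

theorem isIntegral_invariants [Module.Finite R A] [Module.Projective R A] :
    Algebra.IsIntegral (GLin.invariants R A B) B := by
  refine ⟨fun b => ?_⟩
  obtain ⟨p, hp, he⟩ := (rg R A B).isIntegral_inv b
  let incl : RingHom.eqLocus (rg R A B).s.hom (rg R A B).t.hom →+* GLin.invariants R A B :=
    { toFun := fun c => ⟨c.1, by
        rw [GLin.mem_invariants_iff]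
        exact c.2.symm⟩
      map_one' := rfl
      map_mul' := fun _ _ => rfl
      map_zero' := rfl
      map_add' := fun _ _ => rfl }
  refine ⟨p.map incl, hp.map _, ?_⟩
  rw [Polynomial.eval₂_map]
  exact he

/-- spreading out: if the inertia at `x` is trivial, some invariant good element does not vanish
at `x` -/
theorem exists_good_invariant [Module.Finite R A] [Module.Projective R A]
    {K : Type u} [Field K] [Algebra R K] (x : B →ₐ[R] K) (hx : InertiaTriv A x) :
    ∃ c ∈ GLin.invariants R A B, Good R A B c ∧ x c ≠ 0 := by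
  by_contra hcon
  push Not at hcon
  haveI := isIntegral_invariants (R := R) (A := A) (B := B)
  let C := GLin.invariants R A B
  let φ₁ : C →+* K := x.toRingHom.comp C.val.toRingHom
  haveI : (RingHom.ker φ₁).IsPrime := RingHom.ker_isPrime φ₁
  have hle : (goodIdeal R A B).comap (algebraMap C B) ≤ RingHom.ker φ₁ := by
    intro c hc
    exact hcon c.1 c.2 hc
  obtain ⟨P, hP, hPp, hPc⟩ := Ideal.exists_ideal_over_prime_of_isIntegral (RingHom.ker φ₁)
    (goodIdeal R A B) hle
  haveI := hPp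
  let K₂ := FractionRing (B ⧸ P)
  let x₂r : B →+* K₂ := (algebraMap (B ⧸ P) K₂).comp (Ideal.Quotient.mk P)
  have hmem : ∀ b : B, x₂r b = 0 ↔ b ∈ P := by
    intro b
    show algebraMap (B ⧸ P) K₂ (Ideal.Quotient.mk P b) = 0 ↔ _
    rw [map_eq_zero_iff _ (IsFractionRing.injective (B ⧸ P) K₂), Ideal.Quotient.eq_zero_iff_mem]
  let φ₂ : C →+* K₂ := x₂r.comp C.val.toRingHom
  have hφ : RingHom.ker φ₁ = RingHom.ker φ₂ := by
    rw [← hPc]
    ext c
    rw [Ideal.mem_comap, RingHom.mem_ker]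
    exact (hmem c.1).symm
  obtain ⟨Ω, iF, iA, j₁, j₂, hj⟩ := exists_common_ext' φ₁ φ₂ hφ
  letI : Field Ω := iF
  haveI : IsAlgClosed Ω := iA
  letI : Algebra R Ω := (j₁.comp (algebraMap R K)).toAlgebra
  let J₁ : K →ₐ[R] Ω := { j₁ with commutes' := fun r => rfl }
  have hjc : ∀ c : C, j₁ (x c.1) = j₂ (x₂r c.1) := fun c => RingHom.congr_fun hj c
  let y₂ : B →ₐ[R] Ω := { j₂.comp x₂r with
    commutes' := fun r => by
      show j₂ (x₂r (algebraMap R B r)) = j₁ (algebraMap R K r)
      have := hjc (algebraMap R C r)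
      rw [← x.commutes r]
      exact this.symm }
  have hy₁ : InertiaTriv A (J₁.comp x) := inertiaTriv_comp x hx J₁
  obtain ⟨w, hw⟩ := exists_ra_eq R A B Ω y₂ (J₁.comp x) (fun c hc => (hjc ⟨c, hc⟩).symm)
  have hy₂ : InertiaTriv A y₂ := hw ▸ inertiaTriv_ra (J₁.comp x) hy₁ w
  obtain ⟨f, hf, hf0⟩ := exists_good_of_inertiaTriv y₂ hy₂
  apply hf0
  have hfP : f ∈ P := hP hf
  show j₂ (x₂r f) = 0
  rw [(hmem f).mpr hfP, map_zero]

end X3

end Groth.Agent.Lib.Helper61.CoactStab
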