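import Mathlib
import Groth.Prelude.Def_CoactBr
import Groth.Agent.Lib.Helper61.CoactStab2

set_option autoImplicit false
universe u
open CategoryTheory MonoidalCategory CartesianMonoidalCategory MonObj AlgebraicGeometry
open CoactBr
open scoped TensorProduct

namespace Groth.Agent.Lib.Helper61.CoactStab
set_option backward.isDefEq.respectTransparency.types false
set_option maxHeartbeats 400000
open Groth.Agent.Lib.Helper61.CoactRG

section Sch

variable {R A B : Type u} [CommRing R] [CommRing A] [HopfAlgebra R A] [CommRing B] [Algebra R B]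
  [HopfRep.Comod R A B] [GLin.IsCoactAlg R A B]

/-- every morphism `Spec W ⟶ Spec B` over `Spec R` comes from an algebra map -/
theorem pt_surj {P : Type u} [CommRing P] [Algebra R P] (W : Type u) [CommRing W] [Algebra R W]
    (φ : sp R W ⟶ sp R P) : ∃ ζ : P →ₐ[R] W, φ = pt ζ := by
  let ψ : CommRingCat.of P ⟶ CommRingCat.of W := Spec.preimage φ.left
  have hψ : Spec.map ψ = φ.left := Spec.map_preimage _
  have hw : φ.left ≫ (sp R P).hom = (sp R W).hom := Over.w φ
  have hcomm : CommRingCat.ofHom (algebraMap R P) ≫ ψ = CommRingCat.ofHom (algebraMap R W) := by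
    apply Spec.map_injective
    rw [Spec.map_comp, hψ]
    exact hw
  let ζ : P →ₐ[R] W := { ψ.hom with
    commutes' := fun r => by
      have := congrArg (fun f => f.hom r) hcomm
      exact this }
  refine ⟨ζ, ?_⟩
  ext1
  rw [pt_left]
  exact hψ.symm

/-- the inertia hypothesis of the statements implies the algebraic one -/
theorem inertiaTriv_of_scheme {K : Type u} [CommRing K] [Algebra R K] (x : B →ₐ[R] K)
    (h₁ : ∀ (T : Over (Spec (CommRingCat.of R))) (h : T ⟶ CoactBr.sp R K) (g : T ⟶ CoactBr.sp R A),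
      lift g (h ≫ CoactBr.pt x) ≫ (CoactBr.action R A B).act = h ≫ CoactBr.pt x → g = 1) :
    InertiaTriv A x := by
  intro W _ _ h g hfix
  apply pt_injective
  rw [pt_oneP]
  apply h₁ (sp R W) (pt h) (pt g)
  rw [← pt_comp, lift_pt_action_act]
  congr 1
  show ra (h.comp x) (invP g) = h.comp x
  conv_lhs => rw [← hfix]
  rw [ra_ra, mulP_invP, ra_one]

theorem isUnit_of_forall_prime {W : Type u} [CommRing W] (a : W)
    (h : ∀ p : PrimeSpectrum W, a ∉ p.asIdeal) : IsUnit a := by
  by_contra hna
  obtain ⟨m, hm, ham⟩ := exists_max_ideal_of_mem_nonunits (mem_nonunits_iff.mpr hna)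
  exact h ⟨m, hm.isPrime⟩ ham

/-- affine-local form of freeness over the nonvanishing locus of a good element -/
theorem pt_eq_one_of_good {f : B} (hf : Good R A B f) {W : Type u} [CommRing W] [Algebra R W]
    (ζ : sp R W ⟶ sp R B) (g : sp R W ⟶ sp R A)
    (hfix : lift g ζ ≫ (CoactBr.action R A B).act = ζ)
    (hD : ∀ p : Spec (CommRingCat.of W), f ∉ (ζ.left p : PrimeSpectrum B).asIdeal) : g = 1 := by
  obtain ⟨ζ', rfl⟩ := pt_surj W ζ
  obtain ⟨g', rfl⟩ := pt_surj W g
  rw [lift_pt_action_act] at hfix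
  have hfix' : ra ζ' (invP g') = ζ' := pt_injective hfix
  have hu : IsUnit (ζ' f) := by
    apply isUnit_of_forall_prime
    intro p hp
    exact hD p hp
  have h1 := eq_oneP_of_good hf ζ' (invP g') hfix' hu
  have h2 := congrArg pt h1
  rw [pt_invP, pt_oneP, inv_eq_one] at h2
  exact h2

/-- freeness over the nonvanishing locus of a good element, for arbitrary test schemes -/
theorem eq_one_of_good {f : B} (hf : Good R A B f) (T : Over (Spec (CommRingCat.of R)))
    (ζ : T ⟶ sp R B) (g : T ⟶ sp R A)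
    (hfix : lift g ζ ≫ (CoactBr.action R A B).act = ζ)
    (hD : ∀ p : T.left, f ∉ (ζ.left p : PrimeSpectrum B).asIdeal) : g = 1 := by
  apply Over.OverMorphism.ext
  apply Scheme.Cover.hom_ext T.left.affineOpenCover.openCover
  intro i
  obtain ⟨W, hW⟩ : ∃ W : CommRingCat.{u}, W = T.left.affineOpenCover.X i := ⟨_, rfl⟩
  obtain ⟨j, hj⟩ : ∃ j : Spec W ⟶ T.left, j = hW ▸ T.left.affineOpenCover.f i := ⟨_, rfl⟩
  have goal' : j ≫ g.left = j ≫ (1 : T ⟶ sp R A).left := by
    let φ : CommRingCat.of R ⟶ W := Spec.preimage (j ≫ T.hom)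
    have hφ : Spec.map φ = j ≫ T.hom := Spec.map_preimage _
    letI : Algebra R W := φ.hom.toAlgebra
    have hsp : (sp R W).hom = Spec.map φ := rfl
    let e : sp R W ⟶ T := Over.homMk j (hφ.symm.trans hsp.symm)
    have hfix' : lift (e ≫ g) (e ≫ ζ) ≫ (CoactBr.action R A B).act = e ≫ ζ := by
      rw [← CartesianMonoidalCategory.comp_lift, Category.assoc, hfix]
    have h1 := pt_eq_one_of_good hf (e ≫ ζ) (e ≫ g) hfix' (fun p => hD (j p))
    have h2 : e ≫ g = e ≫ (1 : T ⟶ sp R A) := by rw [h1, MonObj.comp_one]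
    exact congrArg CommaMorphism.left h2
  subst hW
  subst hj
  exact goal'

end Sch

end Groth.Agent.Lib.Helper61.CoactStab
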