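import Mathlib

/-! Coherent rings: finitely generated submodules of finitely presented modules are finitely
presented, and kernels of maps between finitely presented modules are finitely presented. -/

set_option autoImplicit false
universe u

namespace Groth.Agent.Lib.Helper61.Coherent

variable {A : Type u} [CommRing A]

/-- every finitely generated module which embeds in `M` is finitely presented -/
def SubFP (M : Type u) [AddCommGroup M] [Module A M] : Prop :=
  ∀ (X : Type u) [AddCommGroup X] [Module A X] (h : X →ₗ[A] M), Function.Injective h →
    Module.Finite A X → Module.FinitePresentation A X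

section

variable {M M' : Type u} [AddCommGroup M] [Module A M] [AddCommGroup M'] [Module A M']

lemma SubFP.of_injective (hM' : SubFP (A := A) M') (j : M →ₗ[A] M') (hj : Function.Injective j) :
    SubFP (A := A) M :=
  fun X _ _ h hh hX => hM' X (j ∘ₗ h) (hj.comp hh) hX

/-- extensions -/
lemma SubFP.of_exact (g : M →ₗ[A] M') (hM' : SubFP (A := A) M')
    (hK : SubFP (A := A) (LinearMap.ker g)) : SubFP (A := A) M := by
  intro X _ _ h hh hX
  -- the image of `X` in `M'`
  let l : X →ₗ[A] LinearMap.range (g ∘ₗ h) := (g ∘ₗ h).rangeRestrict
  have hl : Function.Surjective l := LinearMap.surjective_rangeRestrict _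
  haveI : Module.Finite A (LinearMap.range (g ∘ₗ h)) := Module.Finite.of_surjective l hl
  haveI : Module.FinitePresentation A (LinearMap.range (g ∘ₗ h)) :=
    hM' _ (LinearMap.range (g ∘ₗ h)).subtype (Submodule.injective_subtype _) inferInstance
  have hker : (LinearMap.ker l).FG := Module.FinitePresentation.fg_ker l hl
  haveI : Module.Finite A (LinearMap.ker l) := Module.Finite.iff_fg.mpr hker
  -- the kernel embeds in `ker g`
  have hmem : ∀ x : LinearMap.ker l, h x.1 ∈ LinearMap.ker g := by
    intro x
    have hx : l x.1 = 0 := x.2
    have : (l x.1 : M') = 0 := by rw [hx]; rfl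
    exact this
  let e : LinearMap.ker l →ₗ[A] LinearMap.ker g :=
    LinearMap.codRestrict _ (h ∘ₗ (LinearMap.ker l).subtype) hmem
  have he : Function.Injective e := by
    intro x y hxy
    have : h x.1 = h y.1 := congrArg Subtype.val hxy
    exact Subtype.ext (hh this)
  haveI : Module.FinitePresentation A (LinearMap.ker l) := hK _ e he inferInstance
  exact Module.finitePresentation_of_ker l hl

end

variable (hcoh : ∀ I : Ideal A, I.FG → Module.FinitePresentation A I)
include hcoh

lemma subFP_self : SubFP (A := A) A := by
  intro X _ _ h hh hX
  let I : Ideal A := LinearMap.range h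
  have hI : I.FG := by
    have : I = Submodule.map h ⊤ := (LinearMap.range_eq_map h)
    rw [this]
    exact Module.Finite.fg_top.map h
  haveI := hcoh I hI
  exact Module.FinitePresentation.of_equiv (LinearEquiv.ofInjective h hh).symm

lemma subFP_pi (n : ℕ) : SubFP (A := A) (Fin n → A) := by
  induction n with
  | zero =>
    intro X _ _ h hh hX
    haveI : Subsingleton X := hh.subsingleton
    infer_instance
  | succ n ih =>
    let g : (Fin (n + 1) → A) →ₗ[A] A := LinearMap.proj 0
    apply SubFP.of_exact g (subFP_self hcoh)
    -- the kernel embeds in `Fin n → A`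
    let t : (Fin (n + 1) → A) →ₗ[A] (Fin n → A) := LinearMap.funLeft A A Fin.succ
    refine SubFP.of_injective ih (t ∘ₗ (LinearMap.ker g).subtype) ?_
    intro x y hxy
    apply Subtype.ext
    funext i
    have hx0 : x.1 0 = 0 := x.2
    have hy0 : y.1 0 = 0 := y.2
    refine Fin.cases ?_ (fun i => ?_) i
    · rw [hx0, hy0]
    · exact congrFun hxy i

/-- over a coherent ring, finitely generated submodules of finitely presented modules are
finitely presented -/
theorem subFP_of_fp (P : Type u) [AddCommGroup P] [Module A P] [Module.FinitePresentation A P] :
    SubFP (A := A) P := by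
  intro X _ _ h hh hX
  obtain ⟨n, m, π, g, hπ, hex⟩ := Module.FinitePresentation.exists_fin' A P
  have hkerπ : (LinearMap.ker π).FG := Module.FinitePresentation.fg_ker π hπ
  -- the preimage of `X`
  let X' : Submodule A (Fin n → A) := (LinearMap.range h).comap π
  have hX' : X'.FG := by
    apply Submodule.fg_of_fg_map_of_fg_inf_ker π
    · rw [Submodule.map_comap_eq_of_surjective hπ, LinearMap.range_eq_map]
      exact Module.Finite.fg_top.map h
    · have : X' ⊓ LinearMap.ker π = LinearMap.ker π := by
        apply inf_eq_right.mpr
        intro x hx
        show π x ∈ LinearMap.range h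
        rw [LinearMap.mem_ker.mp hx]
        exact zero_mem _
      rw [this]
      exact hkerπ
  haveI : Module.Finite A X' := Module.Finite.iff_fg.mpr hX'
  haveI : Module.FinitePresentation A X' :=
    subFP_pi hcoh n X' X'.subtype (Submodule.injective_subtype _) inferInstance
  -- the map onto the image of `X`
  let l : X' →ₗ[A] LinearMap.range h :=
    LinearMap.codRestrict _ (π ∘ₗ X'.subtype) (fun x => x.2)
  have hl : Function.Surjective l := by
    rintro ⟨y, hy⟩
    obtain ⟨x, rfl⟩ := hπ y
    exact ⟨⟨x, hy⟩, rfl⟩
  have hkerl : (LinearMap.ker l).FG := by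
    have e : LinearMap.ker l = (LinearMap.ker π).comap X'.subtype := by
      ext x
      simp only [LinearMap.mem_ker, Submodule.mem_comap, Submodule.subtype_apply]
      constructor
      · intro hx
        exact congrArg Subtype.val hx
      · intro hx
        exact Subtype.ext hx
    rw [e]
    have hle : LinearMap.ker π ≤ X' := by
      intro x hx
      show π x ∈ LinearMap.range h
      rw [LinearMap.mem_ker.mp hx]
      exact zero_mem _
    have h1 : Module.Finite A (LinearMap.ker π) := Module.Finite.iff_fg.mpr hkerπ
    have eq : ((LinearMap.ker π).comap X'.subtype) ≃ₗ[A] LinearMap.ker π :=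
      Submodule.submoduleOfEquivOfLe hle
    exact Module.Finite.iff_fg.mp (Module.Finite.equiv eq.symm)
  haveI : Module.FinitePresentation A (LinearMap.range h) :=
    Module.finitePresentation_of_surjective l hl hkerl
  exact Module.FinitePresentation.of_equiv (LinearEquiv.ofInjective h hh).symm

/-- over a coherent ring, kernels of maps between finitely presented modules are finitely
presented -/
theorem fp_ker {P Q : Type u} [AddCommGroup P] [Module A P] [AddCommGroup Q] [Module A Q]
    [Module.FinitePresentation A P] [Module.FinitePresentation A Q] (f : P →ₗ[A] Q) :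
    Module.FinitePresentation A (LinearMap.ker f) := by
  let l : P →ₗ[A] LinearMap.range f := f.rangeRestrict
  have hl : Function.Surjective l := LinearMap.surjective_rangeRestrict _
  haveI : Module.Finite A (LinearMap.range f) := Module.Finite.of_surjective l hl
  haveI : Module.FinitePresentation A (LinearMap.range f) :=
    subFP_of_fp hcoh Q _ (LinearMap.range f).subtype (Submodule.injective_subtype _) inferInstance
  have hker : (LinearMap.ker l).FG := Module.FinitePresentation.fg_ker l hl
  have hker' : (LinearMap.ker f).FG := by
    rw [← LinearMap.ker_rangeRestrict f]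
    exact hker
  haveI : Module.Finite A (LinearMap.ker f) := Module.Finite.iff_fg.mpr hker'
  exact subFP_of_fp hcoh P _ (LinearMap.ker f).subtype (Submodule.injective_subtype _)
    inferInstance

end Groth.Agent.Lib.Helper61.Coherent
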