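import Mathlib

/-! Cokernels commute with colimits: formal lemmas in a category with zero morphisms. -/

set_option autoImplicit false
universe w v v' u u'

open CategoryTheory Limits

noncomputable section

namespace Groth.Agent.Lib.Helper61.CokColim

variable {𝒞 : Type u} [Category.{v} 𝒞] [HasZeroMorphisms 𝒞]

/-- `h` is a cokernel of `f` -/
def IsCok {X Y Z : 𝒞} (f : X ⟶ Y) (h : Y ⟶ Z) : Prop :=
  f ≫ h = 0 ∧ ∀ ⦃T : 𝒞⦄ (t : Y ⟶ T), f ≫ t = 0 → ∃! u : Z ⟶ T, h ≫ u = t

namespace IsCok

variable {X Y Z : 𝒞} {f : X ⟶ Y} {h : Y ⟶ Z}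

lemma of_isColimit (w : f ≫ h = 0) (hc : IsColimit (CokernelCofork.ofπ h w)) : IsCok f h := by
  refine ⟨w, fun T t ht => ?_⟩
  refine ⟨hc.desc (CokernelCofork.ofπ t ht), hc.fac (CokernelCofork.ofπ t ht) WalkingParallelPair.one,
    fun m hm => ?_⟩
  apply Cofork.IsColimit.hom_ext hc
  have h1 : h ≫ hc.desc (CokernelCofork.ofπ t ht) = t :=
    hc.fac (CokernelCofork.ofπ t ht) WalkingParallelPair.one
  show h ≫ m = h ≫ hc.desc (CokernelCofork.ofπ t ht)
  rw [hm, h1]

lemma epi (H : IsCok f h) : Epi h := by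
  constructor
  intro T u u' huu
  have h0 : f ≫ (h ≫ u) = 0 := by rw [← Category.assoc, H.1, zero_comp]
  obtain ⟨m, _, hm⟩ := H.2 (h ≫ u) h0
  rw [hm u rfl, hm u' huu.symm]

lemma nonempty_isColimit (H : IsCok f h) : Nonempty (IsColimit (CokernelCofork.ofπ h H.1)) := by
  choose d hd hd' using fun (T : 𝒞) (t : { t : Y ⟶ T // f ≫ t = 0 }) => H.2 t.1 t.2
  exact ⟨CokernelCofork.IsColimit.ofπ h H.1 (fun {T} t ht => d T ⟨t, ht⟩)
    (fun {T} t ht => hd T ⟨t, ht⟩) (fun {T} t ht m hm => hd' T ⟨t, ht⟩ m hm)⟩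

lemma cokernel (f : X ⟶ Y) [HasCokernel f] : IsCok f (cokernel.π f) :=
  of_isColimit (cokernel.condition f) (cokernelIsCokernel f)

end IsCok

section Colim

variable {J : Type w} [Category.{v'} J] {X Y Z : J ⥤ 𝒞} (α : X ⟶ Y) (β : Y ⟶ Z)
  {cX : Cocone X} {cY : Cocone Y} {cZ : Cocone Z}
  (a : cX.pt ⟶ cY.pt) (ha : ∀ j, cX.ι.app j ≫ a = α.app j ≫ cY.ι.app j)
  (b : cY.pt ⟶ cZ.pt) (hb : ∀ j, cY.ι.app j ≫ b = β.app j ≫ cZ.ι.app j)

include ha hb in
/-- a colimit of cokernels is a cokernel of the colimits -/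
theorem isCok_of_isColimit (hcok : ∀ j, IsCok (α.app j) (β.app j))
    (hX : IsColimit cX) (hY : IsColimit cY) (hZ : IsColimit cZ) : IsCok a b := by
  have hepi : ∀ j, Epi (β.app j) := fun j => (hcok j).epi
  refine ⟨?_, fun T t ht => ?_⟩
  · apply hX.hom_ext
    intro j
    rw [← Category.assoc, ha, Category.assoc, hb, ← Category.assoc, (hcok j).1, zero_comp,
      comp_zero]
  · have h0 : ∀ j, α.app j ≫ (cY.ι.app j ≫ t) = 0 := by
      intro j
      rw [← Category.assoc, ← ha, Category.assoc, ht, comp_zero]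
    choose u hu _ using fun j => (hcok j).2 (cY.ι.app j ≫ t) (h0 j)
    let s : Cocone Z :=
      { pt := T
        ι :=
          { app := u
            naturality := by
              intro j k φ
              rw [← cancel_epi (β.app j)]
              have e1 : β.app j ≫ Z.map φ = Y.map φ ≫ β.app k := (β.naturality φ).symm
              rw [← Category.assoc, e1, Category.assoc, hu k, ← Category.assoc, cY.w]
              simp only [Functor.const_obj_obj, Functor.const_obj_map, Category.comp_id]
              exact (hu j).symm } }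
    have hs : ∀ j, cZ.ι.app j ≫ hZ.desc s = u j := fun j => hZ.fac s j
    refine ⟨hZ.desc s, ?_, fun m hm => ?_⟩
    · apply hY.hom_ext
      intro j
      rw [← Category.assoc, hb, Category.assoc, hs, hu]
    · apply hZ.hom_ext
      intro j
      rw [hs, ← cancel_epi (β.app j), hu, ← Category.assoc, ← hb, Category.assoc, hm]

include ha hb in
/-- a cokernel of colimits is the colimit of the cokernels -/
theorem nonempty_isColimit_of_isCok (hcok : ∀ j, IsCok (α.app j) (β.app j))
    (hX : IsColimit cX) (hY : IsColimit cY) (hab : IsCok a b) : Nonempty (IsColimit cZ) := by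
  have hepi : ∀ j, Epi (β.app j) := fun j => (hcok j).epi
  -- the cocone on `Y` induced by a cocone on `Z`
  let sY (s : Cocone Z) : Cocone Y :=
    { pt := s.pt
      ι :=
        { app := fun j => β.app j ≫ s.ι.app j
          naturality := by
            intro j k φ
            have e1 : Y.map φ ≫ β.app k = β.app j ≫ Z.map φ := β.naturality φ
            rw [← Category.assoc, e1, Category.assoc, s.w]
            simp } }
  have hsY : ∀ (s : Cocone Z) j, cY.ι.app j ≫ hY.desc (sY s) = β.app j ≫ s.ι.app j :=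
    fun s j => hY.fac (sY s) j
  have h0 : ∀ s : Cocone Z, a ≫ hY.desc (sY s) = 0 := by
    intro s
    apply hX.hom_ext
    intro j
    rw [← Category.assoc, ha, Category.assoc, hsY, ← Category.assoc, (hcok j).1, zero_comp,
      comp_zero]
  choose d hd hd' using fun s : Cocone Z => hab.2 (hY.desc (sY s)) (h0 s)
  refine ⟨{ desc := d, fac := ?_, uniq := ?_ }⟩
  · intro s j
    rw [← cancel_epi (β.app j), ← Category.assoc, ← hb, Category.assoc, hd, hsY]
  · intro s m hm
    apply hd'
    apply hY.hom_ext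
    intro j
    rw [hsY, ← Category.assoc, hb, Category.assoc, hm]

end Colim

section CokerF

variable [HasCokernels 𝒞] {J : Type w} [Category.{v'} J] {X Y : J ⥤ 𝒞} (α : X ⟶ Y)

/-- the pointwise cokernel of a natural transformation -/
def cokerF : J ⥤ 𝒞 where
  obj j := cokernel (α.app j)
  map {j k} φ := cokernel.map (α.app j) (α.app k) (X.map φ) (Y.map φ) (α.naturality φ).symm
  map_id j := by
    apply coequalizer.hom_ext
    simp
  map_comp φ ψ := by
    apply coequalizer.hom_ext
    simp

/-- the projection to the pointwise cokernel -/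
def cokerπ : Y ⟶ cokerF α where
  app j := cokernel.π (α.app j)
  naturality j k φ := by simp [cokerF]

lemma isCok_cokerπ (j : J) : IsCok (α.app j) ((cokerπ α).app j) := IsCok.cokernel _

/-- the cocone on the pointwise cokernel induced by a map out of the point of a cocone -/
def cokerCocone (cY : Cocone Y) {Q : 𝒞} (b : cY.pt ⟶ Q)
    (hb0 : ∀ j, α.app j ≫ cY.ι.app j ≫ b = 0) : Cocone (cokerF α) where
  pt := Q
  ι :=
    { app := fun j => cokernel.desc (α.app j) (cY.ι.app j ≫ b) (hb0 j)
      naturality := by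
        intro j k φ
        apply coequalizer.hom_ext
        simp [cokerF] }

lemma cokerCocone_fac (cY : Cocone Y) {Q : 𝒞} (b : cY.pt ⟶ Q)
    (hb0 : ∀ j, α.app j ≫ cY.ι.app j ≫ b = 0) (j : J) :
    cY.ι.app j ≫ b = (cokerπ α).app j ≫ (cokerCocone α cY b hb0).ι.app j :=
  (cokernel.π_desc (α.app j) (cY.ι.app j ≫ b) (hb0 j)).symm

end CokerF

end Groth.Agent.Lib.Helper61.CokColim
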