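import Mathlib

/-! A functor preserving finite coproducts and filtered colimits preserves all coproducts. -/

set_option autoImplicit false
universe w v v' u u'

open CategoryTheory Limits

noncomputable section

namespace Groth.Agent.Lib.Helper61.CoprodFilt

open CoproductsFromFiniteFiltered

variable {C : Type u} [Category.{v} C] {D : Type u'} [Category.{v'} D] [HasFiniteCoproducts C]
  (F : C ⥤ D) [PreservesFiniteCoproducts F] {α : Type w} (f : α → C) [HasCoproduct f]
  [HasColimitsOfShape (Finset (Discrete α)) C] [PreservesColimitsOfShape (Finset (Discrete α)) F]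

/-- the family indexed by a finite subset -/
abbrev fam (S : Finset (Discrete α)) : S → C := fun x => f x.1.as

/-- the cocone leg, with a clean type -/
def cSι (S : Finset (Discrete α)) : ∐ fam f S ⟶ ∐ f := (finiteSubcoproductsCocone f).ι.app S

/-- the transition map, with a clean type -/
def mapST {S T : Finset (Discrete α)} (h : S ⟶ T) : ∐ fam f S ⟶ ∐ fam f T :=
  (liftToFinsetObj (Discrete.functor f)).map h

lemma ι_cS (S : Finset (Discrete α)) (x : S) :
    Sigma.ι (fam f S) x ≫ cSι f S = Sigma.ι f x.1.as := by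
  simp [finiteSubcoproductsCocone, cSι]

lemma ι_map {S T : Finset (Discrete α)} (h : S ⟶ T) (x : S) :
    Sigma.ι (fam f S) x ≫ mapST f h = Sigma.ι (fam f T) ⟨x.1, h.down.down x.2⟩ := by
  simp [liftToFinsetObj, mapST]

def isColimit_mapCocone_cofan : IsColimit (F.mapCocone (Cofan.mk (∐ f) (Sigma.ι f))) := by
  have hS : IsColimit (F.mapCocone (finiteSubcoproductsCocone f)) :=
    isColimitOfPreserves F (isColimitFiniteSubproductsCocone f)
  have hfin : ∀ S : Finset (Discrete α),
      IsColimit (F.mapCocone (Cofan.mk (∐ fam f S) (Sigma.ι (fam f S)))) :=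
    fun S => isColimitOfPreserves F (coproductIsCoproduct (fam f S))
  -- the cocone over finite subsets induced by a cofan
  let T (s : Cocone (Discrete.functor f ⋙ F)) (S : Finset (Discrete α)) :
      Cocone (Discrete.functor (fam f S) ⋙ F) :=
    ⟨s.pt, Discrete.natTrans fun x => s.ι.app x.as.1⟩
  let d (s : Cocone (Discrete.functor f ⋙ F)) (S : Finset (Discrete α)) :
      F.obj (∐ fam f S) ⟶ s.pt := (hfin S).desc (T s S)
  have hdesc : ∀ (s : Cocone (Discrete.functor f ⋙ F)) (S : Finset (Discrete α)) (x : S),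
      F.map (Sigma.ι (fam f S) x) ≫ d s S = s.ι.app x.1 :=
    fun s S x => (hfin S).fac (T s S) ⟨x⟩
  have hext : ∀ (S : Finset (Discrete α)) {Z : D} (a b : F.obj (∐ fam f S) ⟶ Z),
      (∀ x : S, F.map (Sigma.ι (fam f S) x) ≫ a = F.map (Sigma.ι (fam f S) x) ≫ b) → a = b := by
    intro S Z a b h
    apply (hfin S).hom_ext
    rintro ⟨x⟩
    exact h x
  have hnat : ∀ (s : Cocone (Discrete.functor f ⋙ F)) {S S' : Finset (Discrete α)} (h : S ⟶ S'),
      F.map (mapST f h) ≫ d s S' = d s S := by
    intro s S S' h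
    apply hext
    intro x
    have e : F.map (Sigma.ι (fam f S) x) ≫ F.map (mapST f h) =
        F.map (Sigma.ι (fam f S') ⟨x.1, h.down.down x.2⟩) := by
      rw [← F.map_comp, ι_map]
    rw [← Category.assoc, e, hdesc, hdesc]
  let cc (s : Cocone (Discrete.functor f ⋙ F)) :
      Cocone (liftToFinsetObj (Discrete.functor f) ⋙ F) :=
    { pt := s.pt
      ι :=
        { app := fun S => d s S
          naturality := by
            intro S S' h
            exact (hnat s h).trans (Category.comp_id _).symm } }
  let D0 (s : Cocone (Discrete.functor f ⋙ F)) : F.obj (∐ f) ⟶ s.pt := hS.desc (cc s)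
  have hfac : ∀ (s : Cocone (Discrete.functor f ⋙ F)) (S : Finset (Discrete α)),
      F.map (cSι f S) ≫ D0 s = d s S :=
    fun s S => hS.fac (cc s) S
  refine
    { desc := fun s => D0 s
      fac := ?_
      uniq := ?_ }
  · rintro s ⟨a⟩
    have ha : (⟨a⟩ : Discrete α) ∈ ({⟨a⟩} : Finset (Discrete α)) := Finset.mem_singleton_self _
    have h1 : F.map (Sigma.ι (fam f {⟨a⟩}) ⟨⟨a⟩, ha⟩) ≫
        F.map (cSι f {⟨a⟩}) = F.map (Sigma.ι f a) := by
      rw [← F.map_comp, ι_cS]
    have h3 := hdesc s {⟨a⟩} ⟨⟨a⟩, ha⟩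
    show F.map (Sigma.ι f a) ≫ D0 s = s.ι.app ⟨a⟩
    rw [← h1, Category.assoc, hfac]
    exact h3
  · intro s m hm
    apply hS.hom_ext
    intro S
    refine Eq.trans ?_ (hfac s S).symm
    apply hext
    intro x
    have e : F.map (Sigma.ι (fam f S) x) ≫ F.map (cSι f S) =
        F.map (Sigma.ι f x.1.as) := by
      rw [← F.map_comp, ι_cS]
    show F.map (Sigma.ι (fam f S) x) ≫ (F.map (cSι f S) ≫ m) =
      F.map (Sigma.ι (fam f S) x) ≫ d s S
    rw [hdesc, ← Category.assoc, e]
    exact hm x.1

/-- a functor preserving finite coproducts and filtered colimits preserves all coproducts -/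
theorem preservesColimitsOfShape_discrete [HasColimitsOfShape (Discrete α) C] :
    PreservesColimitsOfShape (Discrete α) F := by
  constructor
  intro K
  have h : PreservesColimit (Discrete.functor (K.obj ∘ Discrete.mk)) F :=
    preservesColimit_of_preserves_colimit_cocone (coproductIsCoproduct _)
      (isColimit_mapCocone_cofan F (K.obj ∘ Discrete.mk))
  exact preservesColimit_of_iso_diagram F Discrete.natIsoFunctor.symm

end Groth.Agent.Lib.Helper61.CoprodFilt
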