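import Mathlib
import Groth.Agent.Lib.Helper61.GrpdOrbit

set_option autoImplicit false
set_option maxHeartbeats 400000
universe u

open Polynomial TensorProduct
open Groth.Agent.Lib.Helper15.ProjCharpoly Groth.Agent.Lib.Helper61.GrpdOrbit

namespace Groth.Agent.Lib.Helper61.DNorm

/-- Sylvester's determinant identity for a presentation of a finite-dimensional vector space. -/
theorem sylvester {κ : Type u} {V : Type u} [Field κ] [AddCommGroup V] [Module κ V]
    [Module.Finite κ V] (π' : Pres κ V) (φ : V →ₗ[κ] V) :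
    (1 + π'.mat φ).det = LinearMap.det (1 + φ) := by
  classical
  let b := Module.finBasis κ V
  let c := Pi.basisFun κ (Fin π'.n)
  have hA : π'.mat φ = LinearMap.toMatrix b c π'.i * LinearMap.toMatrix c b (φ ∘ₗ π'.p) := by
    rw [← LinearMap.toMatrix_comp c b c]
    unfold Pres.mat
    rw [LinearMap.toMatrix_eq_toMatrix']
  rw [hA, Matrix.det_one_add_mul_comm, ← LinearMap.toMatrix_comp b c b]
  have h2 : (φ ∘ₗ π'.p) ∘ₗ π'.i = φ := by
    ext x
    simp [π'.p_i]
  rw [h2, ← LinearMap.toMatrix_one b, ← map_add, LinearMap.det_toMatrix]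

section
variable {A B : Type u} [CommRing A] [CommRing B] [Algebra A B] (π : Pres A B)

/-- the "determinant norm" of `y` for a finite projective algebra with a chosen presentation -/
noncomputable def dn (y : B) : A := (1 + π.mat (LinearMap.mulLeft A y - 1)).det

theorem map_dn (κ : Type u) [Field κ] [Algebra A κ] (y : B) :
    haveI := fib_finite π κ
    algebraMap A κ (dn π y) = LinearMap.det (LinearMap.mulLeft κ ((1 : κ) ⊗ₜ[A] y : Fib (R := A) (B := B) κ)) := by
  haveI := fib_finite π κ
  have hf : IsBaseChange κ (TensorProduct.mk A κ B 1) := TensorProduct.isBaseChange A B κ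
  have h1 := Pres.baseChange_mat π hf (LinearMap.mulLeft A y - 1)
    (LinearMap.mulLeft κ ((1 : κ) ⊗ₜ[A] y) - 1)
    (fun x => by simp [Algebra.TensorProduct.tmul_mul_tmul, tmul_sub])
  unfold dn
  rw [RingHom.map_det, RingHom.mapMatrix_apply, Matrix.map_add _ (by simp),
    Matrix.map_one _ (by simp) (by simp), ← h1]
  refine (sylvester (π.baseChange hf) _).trans ?_
  rw [add_sub_cancel]

theorem dvd_dn (y : B) : y ∣ algebraMap A B (dn π y) := by
  set N : Matrix (Fin π.n) (Fin π.n) A := 1 + π.mat (LinearMap.mulLeft A y - 1) with hN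
  have hmul : ∀ v : Fin π.n → A, π.p (N.mulVec v) = y * π.p v := by
    intro v
    have : N.mulVec v = v + π.i ((LinearMap.mulLeft A y - 1) (π.p v)) := by
      rw [hN, Matrix.add_mulVec, Matrix.one_mulVec]
      congr 1
      unfold Pres.mat
      rw [LinearMap.toMatrix'_mulVec]
      rfl
    rw [this, map_add, π.p_i]
    simp
  refine ⟨π.p (N.adjugate.mulVec (π.i 1)), ?_⟩
  rw [← hmul, Matrix.mulVec_mulVec, Matrix.mul_adjugate, Matrix.smul_mulVec, Matrix.one_mulVec,
    map_smul, π.p_i, Algebra.algebraMap_eq_smul_one]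
  rfl

theorem dn_notMem_iff (p : Ideal A) [p.IsPrime] (y : B) :
    dn π y ∉ p ↔ ∀ q : Ideal B, q.IsPrime → q.comap (algebraMap A B) = p → y ∉ q := by
  constructor
  · intro h q hq hqp hy
    apply h
    rw [← hqp, Ideal.mem_comap]
    obtain ⟨z, hz⟩ := dvd_dn π y
    rw [hz]
    exact Ideal.mul_mem_right _ _ hy
  · intro h
    have hu := isUnit_fib p y h
    haveI := fib_finite π p.ResidueField
    have hdet := (det_mulLeft_ne_zero_iff p.ResidueField _ _).mpr hu
    rw [← map_dn π p.ResidueField y] at hdet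
    intro hmem
    exact hdet (Ideal.algebraMap_residueField_eq_zero.mpr hmem)

end

end Groth.Agent.Lib.Helper61.DNorm
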