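import Mathlib

/-!
# Descent of finitely presented algebras along a localization, and
localizations of étale algebras.
-/

set_option autoImplicit false
universe u

open TensorProduct

namespace Groth.Agent.Lib.Helper61.EssEtale

section model

variable (R : Type u) [CommRing R] (M : Submonoid R) (R' : Type u) [CommRing R'] [Algebra R R']
  [IsLocalization M R'] (S : Type u) [CommRing S] [Algebra R' S] [Algebra R S]
  [IsScalarTower R R' S]

/-- rescaling the relations of a presentation by a unit. -/
noncomputable def rescale {n m : ℕ} (P : Algebra.Presentation R' S (Fin n) (Fin m))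
    (u : R') (hu : IsUnit u) : Algebra.Presentation R' S (Fin n) (Fin m) where
  __ := P.toGenerators
  relation j := MvPolynomial.C u * P.relation j
  span_range_relation_eq_ker := by
    rw [← P.span_range_relation_eq_ker]
    obtain ⟨v, hv⟩ := hu.exists_left_inv
    apply le_antisymm
    · rw [Ideal.span_le]
      rintro _ ⟨j, rfl⟩
      exact Ideal.mul_mem_left _ _ (Ideal.subset_span ⟨j, rfl⟩)
    · rw [Ideal.span_le]
      rintro _ ⟨j, rfl⟩
      have : P.relation j = MvPolynomial.C v * (MvPolynomial.C u * P.relation j) := by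
        rw [← mul_assoc, ← MvPolynomial.C_mul, hv, MvPolynomial.C_1, one_mul]
      rw [this]
      exact Ideal.mul_mem_left _ _ (Ideal.subset_span ⟨j, rfl⟩)

theorem of_tensor_equiv (D : Type u) [CommRing D] [Algebra R D] (e : R' ⊗[R] D ≃ₐ[R'] S) :
    ∃ (_ : Algebra D S) (_ : IsScalarTower R D S),
      IsLocalization (Algebra.algebraMapSubmonoid D M) S := by
  let φ : D →ₐ[R] S := (e.toAlgHom.restrictScalars R).comp Algebra.TensorProduct.includeRight
  letI : Algebra D S := φ.toRingHom.toAlgebra
  haveI : IsScalarTower R D S := IsScalarTower.of_algebraMap_eq fun r => (φ.commutes r).symm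
  refine ⟨inferInstance, inferInstance, ?_⟩
  letI : Algebra D (R' ⊗[R] D) := Algebra.TensorProduct.rightAlgebra
  haveI : IsLocalization (Algebra.algebraMapSubmonoid D M) (R' ⊗[R] D) :=
    IsLocalization.tensorRight R' M
  let e' : (R' ⊗[R] D) ≃ₐ[D] S := AlgEquiv.ofRingEquiv (f := e.toRingEquiv) (fun d => rfl)
  exact IsLocalization.isLocalization_of_algEquiv _ e'

theorem exists_model [Algebra.FinitePresentation R' S] :
    ∃ (D : Type u) (_ : CommRing D) (_ : Algebra R D) (_ : Algebra D S)
      (_ : IsScalarTower R D S), Algebra.FinitePresentation R D ∧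
        IsLocalization (Algebra.algebraMapSubmonoid D M) S := by
  classical
  obtain ⟨n, m, ⟨P₀⟩⟩ := Algebra.Presentation.exists_presentation_fin R' S
  obtain ⟨b, hb⟩ := IsLocalization.exist_integer_multiples_of_finset M
    (P₀.finite_coeffs).toFinset
  have hu : IsUnit (algebraMap R R' b) := IsLocalization.map_units R' b
  let P₁ := rescale R' S P₀ _ hu
  haveI : P₁.HasCoeffs R := by
    constructor
    intro x hx
    simp only [Algebra.Presentation.coeffs, Set.mem_iUnion] at hx
    obtain ⟨j, hx⟩ := hx
    rw [Finset.mem_coe, MvPolynomial.mem_coeffs_iff] at hx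
    obtain ⟨d, hd, rfl⟩ := hx
    change MvPolynomial.coeff d (MvPolynomial.C (algebraMap R R' b) * P₀.relation j) ∈ _
    rw [MvPolynomial.coeff_C_mul]
    by_cases h0 : MvPolynomial.coeff d (P₀.relation j) = 0
    · rw [h0, mul_zero]; exact ⟨0, map_zero _⟩
    · have hmem : MvPolynomial.coeff d (P₀.relation j) ∈ (P₀.finite_coeffs).toFinset := by
        rw [Set.Finite.mem_toFinset]
        apply P₀.coeffs_relation_subset_coeffs j
        rw [Finset.mem_coe, MvPolynomial.mem_coeffs_iff]
        exact ⟨d, MvPolynomial.mem_support_iff.mpr h0, rfl⟩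
      obtain ⟨r, hr⟩ := hb _ hmem
      refine ⟨r, ?_⟩
      rw [hr, Algebra.smul_def]
  obtain ⟨i1, i2, h⟩ := of_tensor_equiv R M R' S (P₁.ModelOfHasCoeffs R)
    (P₁.tensorModelOfHasCoeffsEquiv R)
  exact ⟨P₁.ModelOfHasCoeffs R, inferInstance, inferInstance, i1, i2, inferInstance, h⟩

end model

section etale

variable (A : Type u) [CommRing A] (D₀ : Type u) [CommRing D₀] [Algebra A D₀]
  [Algebra.FinitePresentation A D₀] (C : Type u) [CommRing C] [Algebra A C] [Algebra D₀ C]
  [IsScalarTower A D₀ C] (P₀ : Ideal D₀) [P₀.IsPrime] [IsLocalization.AtPrime C P₀]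

theorem exists_etale_localization [Algebra.FormallyEtale A C] :
    ∃ (D : Type u) (_ : CommRing D) (_ : Algebra A D) (P : Ideal D) (_ : P.IsPrime),
      Algebra.Etale A D ∧ P.comap (algebraMap A D) = P₀.comap (algebraMap A D₀) ∧
        Nonempty (C ≃ₐ[A] Localization.AtPrime P) := by
  haveI : IsLocalRing C := IsLocalization.AtPrime.isLocalRing C P₀
  haveI : Algebra.IsEtaleAt A P₀ := by
    let e : C ≃ₐ[D₀] Localization.AtPrime P₀ :=
      IsLocalization.algEquiv P₀.primeCompl C (Localization.AtPrime P₀)
    exact Algebra.FormallyEtale.of_equiv (e.restrictScalars A)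
  obtain ⟨f, hf, hfe⟩ := Algebra.exists_etale_of_isEtaleAt (R := A) P₀
  have hfu : IsUnit (algebraMap D₀ C f) :=
    IsLocalization.map_units C (⟨f, hf⟩ : P₀.primeCompl)
  let D := Localization.Away f
  let ψ : D →+* C := IsLocalization.Away.lift f hfu
  letI : Algebra D C := ψ.toAlgebra
  haveI : IsScalarTower D₀ D C := IsScalarTower.of_algebraMap_eq fun x =>
    (IsLocalization.Away.lift_eq f hfu x).symm
  haveI : IsScalarTower A D C := IsScalarTower.of_algebraMap_eq fun a => by
    rw [IsScalarTower.algebraMap_apply A D₀ C, IsScalarTower.algebraMap_apply A D₀ D,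
      ← IsScalarTower.algebraMap_apply D₀ D C]
  have hle : Submonoid.powers f ≤ P₀.primeCompl := by
    rw [Submonoid.powers_le]; exact hf
  haveI h1 : IsLocalization (P₀.primeCompl.map (algebraMap D₀ D)) C :=
    IsLocalization.isLocalization_of_submonoid_le D C (Submonoid.powers f) P₀.primeCompl hle
  let P : Ideal D := (IsLocalRing.maximalIdeal C).comap (algebraMap D C)
  haveI : P.IsPrime := Ideal.comap_isPrime _ _
  haveI h2 : IsLocalization.AtPrime C P := by
    refine IsLocalization.of_le (P₀.primeCompl.map (algebraMap D₀ D)) P.primeCompl ?_ ?_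
    · rintro _ ⟨x, hx, rfl⟩
      change algebraMap D₀ D x ∉ P
      rw [Ideal.mem_comap, ← IsScalarTower.algebraMap_apply]
      have : IsUnit (algebraMap D₀ C x) := IsLocalization.map_units C (⟨x, hx⟩ : P₀.primeCompl)
      exact fun h => (IsLocalRing.maximalIdeal.isMaximal C).ne_top
        (Ideal.eq_top_of_isUnit_mem _ h this)
    · intro r hr
      change r ∉ P at hr
      rw [Ideal.mem_comap] at hr
      exact (IsLocalRing.notMem_maximalIdeal).mp hr
  refine ⟨D, inferInstance, inferInstance, P, inferInstance, hfe, ?_, ?_⟩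
  · rw [Ideal.comap_comap, ← IsScalarTower.algebraMap_eq,
      ← IsLocalization.AtPrime.under_maximalIdeal C P₀, Ideal.comap_comap,
      ← IsScalarTower.algebraMap_eq]
  · let e : C ≃ₐ[D] Localization.AtPrime P :=
      IsLocalization.algEquiv P.primeCompl C (Localization.AtPrime P)
    exact ⟨e.restrictScalars A⟩

end etale

end Groth.Agent.Lib.Helper61.EssEtale
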