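import Mathlib
import Groth.Prelude.Def_CartDual2
import Groth.Prelude.Def_SGA3b
import Groth.Agent.Lib.Helper3.IS1

/-!
# Base change of the Cartier dual is a bialgebra isomorphism (helper61, sub-lemma L3 for helper66's S6072)

`S ⊗[R] D_R(E) ≃ₐc[S] D_S(S ⊗[R] E)` for a finite projective commutative Hopf algebra `E`;
the algebra isomorphism is helper3's `IS1.PhiE`; here we check it respects counit and comultiplication.
-/

set_option autoImplicit false
universe u
open TensorProduct IsLocalRing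

namespace Groth.Agent.Lib.Helper61.FLiftL3

open Groth.Agent.Lib.Helper3

section
variable (R : Type u) [CommRing R] (S : Type u) [CommRing S] [Algebra R S] (E : Type u)
  [CommRing E] [HopfAlgebra R E] [Module.Finite R E] [Module.Projective R E]

omit [Module.Finite R E] [Module.Projective R E] in
lemma functional_ext (f g : (S ⊗[R] E) ⊗[S] (S ⊗[R] E) →ₗ[S] S)
    (h : ∀ a a' : E, f (((1:S) ⊗ₜ[R] a) ⊗ₜ[S] ((1:S) ⊗ₜ[R] a')) =
      g (((1:S) ⊗ₜ[R] a) ⊗ₜ[S] ((1:S) ⊗ₜ[R] a'))) : f = g := by
  apply TensorProduct.ext'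
  intro b b'
  induction b using TensorProduct.induction_on with
  | zero => simp
  | add b₁ b₂ h₁ h₂ => rw [TensorProduct.add_tmul, map_add, map_add, h₁, h₂]
  | tmul s a =>
    induction b' using TensorProduct.induction_on with
    | zero => simp
    | add b₁ b₂ h₁ h₂ => rw [TensorProduct.tmul_add, map_add, map_add, h₁, h₂]
    | tmul s' a' =>
      have e1 : s ⊗ₜ[R] a = s • ((1:S) ⊗ₜ[R] a) := by
        rw [TensorProduct.smul_tmul', smul_eq_mul, mul_one]
      have e2 : s' ⊗ₜ[R] a' = s' • ((1:S) ⊗ₜ[R] a') := by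
        rw [TensorProduct.smul_tmul', smul_eq_mul, mul_one]
      rw [e1, e2, TensorProduct.smul_tmul_smul, map_smul, map_smul, h]

lemma ev₂_map_Phi (t : CartDual.D R E ⊗[R] CartDual.D R E) (a a' : E) :
    CartDual.ev₂ S (S ⊗[R] E)
      (TensorProduct.map (IS1.PhiL (k := R) (A := E) (R := S)) (IS1.PhiL (k := R) (A := E) (R := S))
        (AlgebraTensorModule.tensorTensorTensorComm R S R S S S (CartDual.D R E) (CartDual.D R E)
          (((1:S) ⊗ₜ[S] (1:S)) ⊗ₜ[R] t)))
      (((1:S) ⊗ₜ[R] a) ⊗ₜ[S] ((1:S) ⊗ₜ[R] a')) =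
    algebraMap R S (CartDual.ev₂ R E t (a ⊗ₜ a')) := by
  induction t using TensorProduct.induction_on with
  | zero => simp
  | add t₁ t₂ h₁ h₂ =>
    rw [TensorProduct.tmul_add, map_add, map_add, map_add, LinearMap.add_apply, h₁, h₂, map_add,
      LinearMap.add_apply, map_add]
  | tmul y z =>
    rw [AlgebraTensorModule.tensorTensorTensorComm_tmul, TensorProduct.map_tmul,
      CartDual.ev₂_tmul, CartDual.ev₂_tmul, IS1.PhiL_tmul, IS1.PhiL_tmul, one_smul, one_smul,
      IS1.bc_apply, IS1.bc_apply, IS1.pairL_tmul, IS1.pairL_tmul, map_mul,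
      Algebra.algebraMap_eq_smul_one, Algebra.algebraMap_eq_smul_one]

end

set_option backward.isDefEq.respectTransparency false in
theorem nonempty_bialgEquiv_dual_baseChange (R : Type u) [CommRing R] (S : Type u) [CommRing S] [Algebra R S] (E : Type u) [CommRing E] [HopfAlgebra R E] [Module.Finite R E] [Module.Projective R E] : Nonempty ((S ⊗[R] CartDual.D R E) ≃ₐc[S] CartDual.D S (S ⊗[R] E)) := by
  refine ⟨BialgEquiv.ofAlgEquiv (R := S) (A := S ⊗[R] CartDual.D R E)
    (B := CartDual.D S (S ⊗[R] E)) (IS1.PhiE (k := R) (A := E) (R := S)) ?_ ?_⟩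
  · apply Algebra.TensorProduct.ext
    · ext
    · ext x
      show Coalgebra.counit (R := S) (IS1.PhiA (k := R) (A := E) (R := S) ((1:S) ⊗ₜ[R] x)) =
        Coalgebra.counit (R := S) ((1:S) ⊗ₜ[R] x)
      rw [TensorProduct.counit_tmul, IS1.PhiA_tmul, one_smul, CartDual.coalgebra_counit_apply,
        CartDual.coalgebra_counit_apply, Algebra.TensorProduct.one_def, IS1.bc_apply,
        IS1.pairL_tmul]
      simp
  · apply Algebra.TensorProduct.ext
    · ext
    · ext x
      show TensorProduct.map (IS1.PhiL (k := R) (A := E) (R := S)) (IS1.PhiL (k := R) (A := E) (R := S))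
          (Coalgebra.comul (R := S) ((1:S) ⊗ₜ[R] x)) =
        Coalgebra.comul (R := S) (IS1.PhiA (k := R) (A := E) (R := S) ((1:S) ⊗ₜ[R] x))
      apply (CartDual.ev₂ S (S ⊗[R] E)).injective
      apply functional_ext
      intro a a'
      rw [TensorProduct.comul_tmul, CommSemiring.comul_apply, ev₂_map_Phi,
        CartDual.ev₂_coalgebra_comul_tmul, CartDual.ev₂_coalgebra_comul_tmul, IS1.PhiA_tmul,
        one_smul, Algebra.TensorProduct.tmul_mul_tmul, IS1.bc_apply, IS1.pairL_tmul, mul_one,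
        Algebra.algebraMap_eq_smul_one]

end Groth.Agent.Lib.Helper61.FLiftL3
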