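import Mathlib
import Groth.Agent.Lib.Helper68.FilteredMod

/-! Every module is a directed colimit of finitely presented modules (explicit small
presentation), and finitely presented modules are compact with respect to small filtered
colimits in `ModuleCat`. -/

set_option autoImplicit false
universe u

open CategoryTheory Limits

noncomputable section

open scoped Classical

namespace Groth.Agent.Lib.Helper61.FPPres

section SubQuot

variable {R : Type u} [Ring R] {L : Type u} [AddCommGroup L] [Module R L]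

/-- the subquotient `p / (N ∩ p)` -/
abbrev SubQuot (p N : Submodule R L) : Type u := p ⧸ N.comap p.subtype

namespace SubQuot

variable (p N : Submodule R L)

/-- the projection -/
def mk : p →ₗ[R] SubQuot p N := (N.comap p.subtype).mkQ

lemma mk_surjective : Function.Surjective (mk p N) := Submodule.mkQ_surjective _

lemma mk_eq_zero_iff (x : p) : mk p N x = 0 ↔ (x : L) ∈ N := by
  show (N.comap p.subtype).mkQ x = 0 ↔ _
  rw [Submodule.mkQ_apply, Submodule.Quotient.mk_eq_zero]
  rfl

variable {p N}

/-- functoriality of the subquotient -/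
def map {p' N' : Submodule R L} (hp : p ≤ p') (hN : N ≤ N') : SubQuot p N →ₗ[R] SubQuot p' N' :=
  Submodule.mapQ _ _ (Submodule.inclusion hp) (fun _ hx => hN hx)

lemma map_mk {p' N' : Submodule R L} (hp : p ≤ p') (hN : N ≤ N') (x : p) :
    map hp hN (mk p N x) = mk p' N' (Submodule.inclusion hp x) := rfl

/-- maps out of the subquotient -/
def lift {X : Type u} [AddCommGroup X] [Module R X] (f : L →ₗ[R] X) (h : N ≤ LinearMap.ker f) :
    SubQuot p N →ₗ[R] X :=
  Submodule.liftQ _ (f ∘ₗ p.subtype) (fun _ hx => h hx)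

lemma lift_mk {X : Type u} [AddCommGroup X] [Module R X] (f : L →ₗ[R] X)
    (h : N ≤ LinearMap.ker f) (x : p) : lift (p := p) f h (mk p N x) = f x := rfl

lemma hom_ext {X : Type u} [AddCommGroup X] [Module R X] {f g : SubQuot p N →ₗ[R] X}
    (h : ∀ x : p, f (mk p N x) = g (mk p N x)) : f = g := by
  apply Submodule.linearMap_qext
  ext x
  exact h x

lemma rel_fg (hN : N.FG) (hle : N ≤ p) : (N.comap p.subtype).FG := by
  have h1 : Module.Finite R N := Module.Finite.iff_fg.mpr hN
  have e : (N.comap p.subtype) ≃ₗ[R] N := Submodule.submoduleOfEquivOfLe hle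
  exact Module.Finite.iff_fg.mp (Module.Finite.equiv e.symm)

lemma finitePresentation [Module.FinitePresentation R p] (hN : N.FG) (hle : N ≤ p) :
    Module.FinitePresentation R (SubQuot p N) :=
  Module.finitePresentation_of_surjective (N.comap p.subtype).mkQ (Submodule.mkQ_surjective _)
    (by rw [Submodule.ker_mkQ]; exact rel_fg hN hle)

end SubQuot

lemma fp_supported {α : Type u} (s : Finset α) :
    Module.FinitePresentation R (Finsupp.supported R R (s : Set α)) := by
  have e := (Finsupp.supportedEquivFinsupp (M := R) (R := R) (s : Set α)).symm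
  exact Module.FinitePresentation.of_equiv (R := R) (M := ((s : Set α) →₀ R))
    (N := (Finsupp.supported R R (s : Set α))) e

end SubQuot

variable {A : Type u} [CommRing A]

section Pres

variable (M : ModuleCat.{u} A)

/-- the canonical surjection from the free module on the underlying set of `M` -/
def pr : (M →₀ A) →ₗ[A] M := Finsupp.linearCombination A id

lemma pr_single (m : M) (a : A) : pr M (Finsupp.single m a) = a • m := by
  simp [pr]

/-- the index set: a finite subset `s` of `M` and a finitely generated submodule of relations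
between the elements of `s` -/
structure Idx where
  s : Finset M
  N : Submodule A (M →₀ A)
  fg : N.FG
  le_ker : N ≤ LinearMap.ker (pr M)
  le_supp : N ≤ Finsupp.supported A A (s : Set M)

instance : Preorder (Idx M) := Preorder.lift (fun i => (i.s, i.N))

lemma Idx.le_def {i j : Idx M} : i ≤ j ↔ i.s ⊆ j.s ∧ i.N ≤ j.N := Iff.rfl

instance : Nonempty (Idx M) := ⟨⟨∅, ⊥, Submodule.fg_bot, bot_le, bot_le⟩⟩

instance : IsDirected (Idx M) (· ≤ ·) :=
  ⟨fun i j => ⟨⟨i.s ∪ j.s, i.N ⊔ j.N, i.fg.sup j.fg, sup_le i.le_ker j.le_ker,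
    sup_le (i.le_supp.trans (Finsupp.supported_mono (by simp)))
      (j.le_supp.trans (Finsupp.supported_mono (by simp)))⟩,
    ⟨Finset.subset_union_left, le_sup_left⟩, ⟨Finset.subset_union_right, le_sup_right⟩⟩⟩

instance : IsFiltered (Idx M) := inferInstance

/-- the free part at stage `i` -/
abbrev Sup (i : Idx M) : Submodule A (M →₀ A) := Finsupp.supported A A (i.s : Set M)

lemma sup_mono {i j : Idx M} (h : i ≤ j) : Sup M i ≤ Sup M j :=
  Finsupp.supported_mono (Finset.coe_subset.mpr h.1)

/-- the finitely presented module at stage `i` -/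
abbrev Q (i : Idx M) : Type u := SubQuot (Sup M i) i.N

instance (i : Idx M) : Module.FinitePresentation A (Q M i) := by
  have h0 := fp_supported (R := A) i.s
  exact SubQuot.finitePresentation i.fg i.le_supp

/-- transition maps -/
def trans {i j : Idx M} (h : i ≤ j) : Q M i →ₗ[A] Q M j :=
  SubQuot.map (sup_mono M h) h.2

/-- the map to `M` -/
def toM (i : Idx M) : Q M i →ₗ[A] M := SubQuot.lift (pr M) i.le_ker

/-- the diagram of finitely presented modules -/
def fpDiag : Idx M ⥤ ModuleCat.{u} A where
  obj i := ModuleCat.of A (Q M i)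
  map f := ModuleCat.ofHom (trans M (leOfHom f))
  map_id i := by
    apply ModuleCat.hom_ext
    apply SubQuot.hom_ext
    intro x
    rfl
  map_comp f g := by
    apply ModuleCat.hom_ext
    apply SubQuot.hom_ext
    intro x
    rfl

/-- the leg of the cocone, with a clean type -/
def ιM (i : Idx M) : (fpDiag M).obj i ⟶ M := ModuleCat.ofHom (toM M i)

lemma fpDiag_map_ιM {i j : Idx M} (f : i ⟶ j) : (fpDiag M).map f ≫ ιM M j = ιM M i := by
  apply ModuleCat.hom_ext
  apply SubQuot.hom_ext
  intro x
  rfl

/-- the cocone with point `M` -/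
def fpCocone : Cocone (fpDiag M) where
  pt := M
  ι :=
    { app := fun i => ιM M i
      naturality := by
        intro i j f
        apply ModuleCat.hom_ext
        apply SubQuot.hom_ext
        intro x
        rfl }

lemma fpCocone_ι_app (i : Idx M) : (fpCocone M).ι.app i = ιM M i := rfl

instance (i : Idx M) : Module.FinitePresentation A ((fpDiag M).obj i) :=
  inferInstanceAs (Module.FinitePresentation A (Q M i))

theorem nonempty_isColimit_cocone : Nonempty (IsColimit (fpCocone M)) := by
  apply Groth.Agent.Lib.Helper68.FilteredMod.nonempty_isColimit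
  · intro (x : M)
    have hx : Finsupp.single (x : M) (1 : A) ∈
        Finsupp.supported A A (({x} : Finset M) : Set M) := by
      apply Finsupp.single_mem_supported
      simp
    let i : Idx M := ⟨{x}, ⊥, Submodule.fg_bot, bot_le, bot_le⟩
    refine ⟨i, SubQuot.mk (Sup M i) i.N ⟨Finsupp.single x 1, hx⟩, ?_⟩
    show pr M (Finsupp.single x 1) = x
    rw [pr_single, one_smul]
  · intro i y hy
    obtain ⟨z, rfl⟩ := SubQuot.mk_surjective (Sup M i) i.N y
    have hz : pr M z.1 = 0 := hy
    let k : Idx M := ⟨i.s, i.N ⊔ Submodule.span A {z.1}, i.fg.sup (Submodule.fg_span_singleton _),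
      sup_le i.le_ker (by rw [Submodule.span_singleton_le_iff_mem]; exact hz),
      sup_le i.le_supp (by rw [Submodule.span_singleton_le_iff_mem]; exact z.2)⟩
    have hik : i ≤ k := ⟨subset_rfl, le_sup_left⟩
    refine ⟨k, homOfLE hik, ?_⟩
    show trans M hik (SubQuot.mk _ _ z) = 0
    rw [trans, SubQuot.map_mk, SubQuot.mk_eq_zero_iff]
    show z.1 ∈ i.N ⊔ Submodule.span A {z.1}
    exact Submodule.mem_sup_right (Submodule.mem_span_singleton_self _)

/-- the chosen colimit structure -/
def isColimitFpCocone : IsColimit (fpCocone M) := (nonempty_isColimit_cocone M).some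

end Pres

section Compact

open Groth.Agent.Lib.Helper68.FilteredMod

variable {J : Type u} [SmallCategory J] [IsFiltered J] {K : J ⥤ ModuleCat.{u} A} {c : Cocone K}

lemma exists_rep_finset (hc : IsColimit c) {α : Type} (s : Finset α) (x : α → c.pt) :
    ∃ j : J, ∀ a ∈ s, ∃ y : K.obj j, c.ι.app j y = x a := by
  induction s using Finset.induction_on with
  | empty => exact ⟨IsFiltered.nonempty.some, fun a ha => by simp at ha⟩
  | insert a s _ ih =>
    obtain ⟨j₁, h₁⟩ := ih
    obtain ⟨j₂, y₂, h₂⟩ := exists_rep hc (x a)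
    refine ⟨IsFiltered.max j₁ j₂, fun b hb => ?_⟩
    rcases Finset.mem_insert.mp hb with rfl | hb
    · refine ⟨K.map (IsFiltered.rightToMax j₁ j₂) y₂, ?_⟩
      rw [← ModuleCat.comp_apply, c.w, h₂]
    · obtain ⟨y, hy⟩ := h₁ b hb
      refine ⟨K.map (IsFiltered.leftToMax j₁ j₂) y, ?_⟩
      rw [← ModuleCat.comp_apply, c.w, hy]

lemma exists_zero_finset (hc : IsColimit c) {α : Type} (s : Finset α) (j : J) (y : α → K.obj j)
    (h : ∀ a ∈ s, c.ι.app j (y a) = 0) :
    ∃ (k : J) (t : j ⟶ k), ∀ a ∈ s, K.map t (y a) = 0 := by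
  induction s using Finset.induction_on with
  | empty => exact ⟨j, 𝟙 j, fun a ha => by simp at ha⟩
  | insert a s _ ih =>
    obtain ⟨k₁, t₁, h₁⟩ := ih (fun b hb => h b (Finset.mem_insert_of_mem hb))
    have h0 : c.ι.app k₁ (K.map t₁ (y a)) = 0 := by
      rw [← ModuleCat.comp_apply, c.w, h a (Finset.mem_insert_self a s)]
    obtain ⟨k₂, t₂, h₂⟩ := exists_map_eq_zero hc k₁ _ h0
    refine ⟨k₂, t₁ ≫ t₂, fun b hb => ?_⟩
    rw [K.map_comp, ModuleCat.comp_apply]
    rcases Finset.mem_insert.mp hb with rfl | hb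
    · exact h₂
    · rw [h₁ b hb, map_zero]

variable (P : ModuleCat.{u} A) [Module.FinitePresentation A P]

/-- a map from a finitely presented module to a filtered colimit factors through a stage -/
theorem exists_factor (hc : IsColimit c) (φ : P ⟶ c.pt) :
    ∃ (j : J) (ψ : P ⟶ K.obj j), ψ ≫ c.ι.app j = φ := by
  obtain ⟨n, m, f, g, hf, hfg⟩ := Module.FinitePresentation.exists_fin' A P
  let b := Pi.basisFun A (Fin n)
  obtain ⟨i, hi⟩ := exists_rep_finset hc (Finset.univ : Finset (Fin n)) (fun a => φ.hom (f (b a)))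
  choose y hy using fun a => hi a (Finset.mem_univ a)
  let G₀ : (Fin n → A) →ₗ[A] K.obj i := b.constr A y
  have hG₀ : ∀ x, (c.ι.app i) (G₀ x) = φ.hom (f x) := by
    intro x
    have : (c.ι.app i).hom ∘ₗ G₀ = φ.hom ∘ₗ f := by
      apply b.ext
      intro a
      simp only [LinearMap.comp_apply, G₀, Module.Basis.constr_basis]
      exact hy a
    exact LinearMap.congr_fun this x
  let b' := Pi.basisFun A (Fin m)
  have hrel : ∀ a ∈ (Finset.univ : Finset (Fin m)), (c.ι.app i) (G₀ (g (b' a))) = 0 := by
    intro a _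
    rw [hG₀, hfg.apply_apply_eq_zero, map_zero]
  obtain ⟨k, fk, hk⟩ := exists_zero_finset hc _ i (fun a => G₀ (g (b' a))) hrel
  let G₁ : (Fin n → A) →ₗ[A] K.obj k := (K.map fk).hom ∘ₗ G₀
  have hG₁g : G₁ ∘ₗ g = 0 := by
    apply b'.ext
    intro a
    exact hk a (Finset.mem_univ a)
  have hker : LinearMap.ker f ≤ LinearMap.ker G₁ := by
    intro x hx
    obtain ⟨z, rfl⟩ := (hfg x).mp hx
    exact LinearMap.congr_fun hG₁g z
  let G : P →ₗ[A] K.obj k :=
    (Submodule.liftQ (LinearMap.ker f) G₁ hker) ∘ₗ (f.quotKerEquivOfSurjective hf).symm.toLinearMap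
  have hG : ∀ x, G (f x) = G₁ x := by
    intro x
    show (Submodule.liftQ (LinearMap.ker f) G₁ hker) ((f.quotKerEquivOfSurjective hf).symm (f x)) = _
    have : (f.quotKerEquivOfSurjective hf).symm (f x) = Submodule.Quotient.mk x := by
      rw [LinearEquiv.symm_apply_eq]
      rfl
    rw [this, Submodule.liftQ_apply]
  refine ⟨k, ModuleCat.ofHom G, ?_⟩
  apply ModuleCat.hom_ext
  apply LinearMap.ext
  intro z
  obtain ⟨x, rfl⟩ := hf z
  show (c.ι.app k) (G (f x)) = φ.hom (f x)
  rw [hG, ← hG₀]
  show (c.ι.app k) ((K.map fk) (G₀ x)) = _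
  rw [← ModuleCat.comp_apply, c.w]

/-- two maps from a finitely presented module to a stage which agree in the filtered colimit
agree at a later stage -/
theorem exists_eq (hc : IsColimit c) {j : J} (ψ ψ' : P ⟶ K.obj j)
    (h : ψ ≫ c.ι.app j = ψ' ≫ c.ι.app j) :
    ∃ (k : J) (t : j ⟶ k), ψ ≫ K.map t = ψ' ≫ K.map t := by
  obtain ⟨n, m, f, g, hf, hfg⟩ := Module.FinitePresentation.exists_fin' A P
  let b := Pi.basisFun A (Fin n)
  have hrel : ∀ a ∈ (Finset.univ : Finset (Fin n)),
      (c.ι.app j) (ψ.hom (f (b a)) - ψ'.hom (f (b a))) = 0 := by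
    intro a _
    have e3 : (c.ι.app j) (ψ.hom (f (b a))) = (c.ι.app j) (ψ'.hom (f (b a))) :=
      congrArg (fun θ : P ⟶ c.pt => θ.hom (f (b a))) h
    rw [map_sub, e3, sub_self]
  obtain ⟨k, t, hk⟩ := exists_zero_finset hc _ j _ hrel
  refine ⟨k, t, ?_⟩
  apply ModuleCat.hom_ext
  have key : ((ψ ≫ K.map t).hom ∘ₗ f) = ((ψ' ≫ K.map t).hom ∘ₗ f) := by
    apply b.ext
    intro a
    have := hk a (Finset.mem_univ a)
    rw [map_sub, sub_eq_zero] at this
    simp only [LinearMap.comp_apply, ModuleCat.hom_comp]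
    exact this
  apply LinearMap.ext
  intro z
  obtain ⟨x, rfl⟩ := hf z
  exact LinearMap.congr_fun key x

end Compact

end Groth.Agent.Lib.Helper61.FPPres
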