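import Mathlib

set_option autoImplicit false
universe u

open Polynomial

namespace Groth.Agent.Lib.Helper61.FS

variable {K : Type u} [Field K]

lemma hasseDeriv_map' {R S : Type*} [CommRing R] [CommRing S] (φ : R →+* S) (k : ℕ) (f : R[X]) :
    (hasseDeriv k f).map φ = hasseDeriv k (f.map φ) := by
  ext n
  rw [coeff_map, hasseDeriv_coeff, hasseDeriv_coeff, coeff_map, map_mul, map_natCast]

/-- The key consequence of `f(α + β) = 0`: the Taylor shift by the root fixes `f`. -/
lemma taylor_root_eq (f : K[X]) (hf : f.Monic)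
    (hB : eval₂ (algebraMap K (AdjoinRoot (f.map (algebraMap K (AdjoinRoot f)))))
      (algebraMap (AdjoinRoot f) _ (AdjoinRoot.root f) +
        AdjoinRoot.root (f.map (algebraMap K (AdjoinRoot f)))) f = 0) :
    taylor (AdjoinRoot.root f) (f.map (algebraMap K (AdjoinRoot f))) =
      f.map (algebraMap K (AdjoinRoot f)) := by
  set A := AdjoinRoot f
  set g := f.map (algebraMap K A) with hg
  have hgm : g.Monic := hf.map _
  have h1 : AdjoinRoot.mk g (taylor (AdjoinRoot.root f) g) = 0 := by
    rw [← AdjoinRoot.aeval_eq, taylor_apply, aeval_def, eval₂_comp, hg, eval₂_map]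
    have e : (algebraMap A (AdjoinRoot g)).comp (algebraMap K A) = algebraMap K (AdjoinRoot g) := by
      ext c; rfl
    rw [e]
    convert hB using 2
    rw [eval₂_add, eval₂_X, eval₂_C, add_comm]
  have h2 : g ∣ taylor (AdjoinRoot.root f) g := AdjoinRoot.mk_eq_zero.mp h1
  have hm : (taylor (AdjoinRoot.root f) g).Monic := by
    unfold Monic
    rw [leadingCoeff_taylor]; exact hgm
  exact eq_of_monic_of_dvd_of_natDegree_le hgm hm h2 (by rw [natDegree_taylor])

lemma hasseDeriv_eq_C (f : K[X]) (hf : f.Monic) (hn : 1 ≤ f.natDegree)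
    (hB : eval₂ (algebraMap K (AdjoinRoot (f.map (algebraMap K (AdjoinRoot f)))))
      (algebraMap (AdjoinRoot f) _ (AdjoinRoot.root f) +
        AdjoinRoot.root (f.map (algebraMap K (AdjoinRoot f)))) f = 0)
    (j : ℕ) (hj : 1 ≤ j) : hasseDeriv j f = C (f.coeff j) := by
  have h1 := congrArg (fun p => p.coeff j) (taylor_root_eq f hf hB)
  simp only [taylor_coeff, coeff_map] at h1
  rw [← hasseDeriv_map', eval_map, ← aeval_def, AdjoinRoot.aeval_eq] at h1
  have h2 : AdjoinRoot.mk f (hasseDeriv j f - C (f.coeff j)) = 0 := by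
    rw [map_sub, h1, AdjoinRoot.mk_C]
    exact sub_self _
  have h3 : f ∣ hasseDeriv j f - C (f.coeff j) := AdjoinRoot.mk_eq_zero.mp h2
  have h4 : (hasseDeriv j f - C (f.coeff j)).natDegree < f.natDegree := by
    refine lt_of_le_of_lt (natDegree_sub_le _ _) ?_
    rw [natDegree_C, max_lt_iff]
    refine ⟨lt_of_le_of_lt (natDegree_hasseDeriv_le f j) (by omega), by omega⟩
  exact sub_eq_zero.mp (eq_zero_of_dvd_of_natDegree_lt h3 h4)

/-- A monic polynomial over a field whose zero scheme is a subgroup of the additive group is additive. -/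
theorem additive (f : K[X]) (hf : f.Monic) (h0 : f.coeff 0 = 0)
    (hB : eval₂ (algebraMap K (AdjoinRoot (f.map (algebraMap K (AdjoinRoot f)))))
      (algebraMap (AdjoinRoot f) _ (AdjoinRoot.root f) +
        AdjoinRoot.root (f.map (algebraMap K (AdjoinRoot f)))) f = 0)
    {R : Type*} [CommRing R] (φ : K →+* R) (a b : R) :
    eval₂ φ (a + b) f = eval₂ φ a f + eval₂ φ b f := by
  have hn : 1 ≤ f.natDegree := by
    by_contra h
    have h' : f.natDegree = 0 := by omega
    have := hf.natDegree_eq_zero.mp h'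
    rw [this, coeff_one_zero] at h0
    exact one_ne_zero h0
  have hD := hasseDeriv_eq_C f hf hn hB
  set fR := f.map φ with hfR
  have e1 : eval₂ φ (a + b) f = (taylor a fR).eval b := by
    rw [taylor_eval, hfR, eval_map, add_comm]
  have hdeg : (taylor a fR).natDegree < f.natDegree + 1 := by
    rw [natDegree_taylor]
    exact Nat.lt_succ_of_le (natDegree_map_le)
  have hdeg2 : fR.natDegree < f.natDegree + 1 := Nat.lt_succ_of_le (natDegree_map_le)
  rw [e1, eval_eq_sum_range' hdeg, Finset.sum_range_succ']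
  have e2 : eval₂ φ b f = fR.eval b := by rw [hfR, eval_map]
  rw [e2, eval_eq_sum_range' hdeg2 b, Finset.sum_range_succ']
  have c0 : fR.coeff 0 = 0 := by rw [hfR, coeff_map, h0, map_zero]
  have t0 : (taylor a fR).coeff 0 = eval₂ φ a f := by
    rw [taylor_coeff, hasseDeriv_zero', hfR, eval_map]
  rw [c0, t0, zero_mul, add_zero, pow_zero, mul_one, add_comm]
  congr 1
  refine Finset.sum_congr rfl fun j _ => ?_
  rw [taylor_coeff, hfR, ← hasseDeriv_map', hD (j + 1) (by omega), Polynomial.map_C, eval_C, coeff_map]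

/-- A monic polynomial with nonzero constant term over a field whose zero scheme is a subgroup
of the multiplicative group is `X ^ n - 1`. -/
theorem multiplicative (f : K[X]) (hf : f.Monic) (hn : 1 ≤ f.natDegree) (h0 : f.coeff 0 ≠ 0)
    (hB : eval₂ (algebraMap K (AdjoinRoot (f.map (algebraMap K (AdjoinRoot f)))))
      (algebraMap (AdjoinRoot f) _ (AdjoinRoot.root f) *
        AdjoinRoot.root (f.map (algebraMap K (AdjoinRoot f)))) f = 0) :
    f = X ^ f.natDegree - 1 := by
  set A := AdjoinRoot f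
  set g := f.map (algebraMap K A) with hg
  set α := AdjoinRoot.root f with hα
  have hgm : g.Monic := hf.map _
  haveI : Nontrivial A := AdjoinRoot.nontrivial f (by
    intro h
    have := natDegree_eq_zero_iff_degree_le_zero.mpr (le_of_eq h)
    omega)
  have hgn : g.natDegree = f.natDegree := hf.natDegree_map _
  set P := g.comp (C α * X) with hP
  have h1 : AdjoinRoot.mk g P = 0 := by
    rw [← AdjoinRoot.aeval_eq, hP, aeval_def, eval₂_comp, hg, eval₂_map]
    have e : (algebraMap A (AdjoinRoot g)).comp (algebraMap K A) = algebraMap K (AdjoinRoot g) := by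
      ext c; rfl
    rw [e]
    convert hB using 2
    rw [eval₂_mul, eval₂_X, eval₂_C]
  obtain ⟨q, hq⟩ : g ∣ P := AdjoinRoot.mk_eq_zero.mp h1
  have hPdeg : P.natDegree ≤ f.natDegree := by
    rw [hP]
    refine le_trans natDegree_comp_le ?_
    rw [hgn]
    calc f.natDegree * (C α * X).natDegree ≤ f.natDegree * 1 :=
          Nat.mul_le_mul_left _ (natDegree_C_mul_le _ _ |>.trans natDegree_X_le)
      _ = f.natDegree := mul_one _
  have hcoeff : ∀ j, P.coeff j = g.coeff j * α ^ j := fun j => by rw [hP, comp_C_mul_X_coeff]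
  -- q is a constant
  have hqdeg : q.natDegree = 0 := by
    by_cases hq0 : q = 0
    · rw [hq0, natDegree_zero]
    · have := hgm.natDegree_mul' hq0
      rw [← hq, hgn] at this
      omega
  obtain ⟨c, hc⟩ : ∃ c, q = C c := ⟨q.coeff 0, eq_C_of_natDegree_eq_zero hqdeg⟩
  have hPc : ∀ j, g.coeff j * α ^ j = g.coeff j * c := by
    intro j
    rw [← hcoeff, hq, hc, coeff_mul_C]
  have hcn : α ^ f.natDegree = c := by
    have := hPc f.natDegree
    rw [← hgn, hgm.coeff_natDegree, one_mul, one_mul] at this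
    rw [← hgn]; exact this
  have h00 := hPc 0
  rw [pow_zero, mul_one, hg, coeff_map] at h00
  have hunit : IsUnit (algebraMap K A (f.coeff 0)) := (IsUnit.mk0 _ h0).map _
  have hc1 : c = 1 := by
    have h7 : algebraMap K A (f.coeff 0) * 1 = algebraMap K A (f.coeff 0) * c := by
      rw [mul_one]; exact h00
    exact (hunit.mul_left_cancel h7).symm
  have h5 : AdjoinRoot.mk f (X ^ f.natDegree - 1) = 0 := by
    rw [map_sub, map_pow, AdjoinRoot.mk_X, map_one, ← hα, hcn, hc1, sub_self]
  have h6 : f ∣ X ^ f.natDegree - 1 := AdjoinRoot.mk_eq_zero.mp h5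
  have hm : (X ^ f.natDegree - 1 : K[X]).Monic := monic_X_pow_sub_C 1 (by omega)
  have hd : (X ^ f.natDegree - 1 : K[X]).natDegree = f.natDegree := by
    rw [← C_1]; exact natDegree_X_pow_sub_C
  exact (eq_of_monic_of_dvd_of_natDegree_le hf hm h6 (le_of_eq hd)).symm

/-- A monic generator of the kernel of evaluation at an element of a finite algebra over a field. -/
theorem exists_monic_gen {A : Type*} [CommRing A] (σ : K →+* A) (hfin : σ.Finite) (h : A) :
    ∃ f : K[X], f.Monic ∧ eval₂ σ h f = 0 ∧ ∀ q : K[X], eval₂ σ h q = 0 → f ∣ q := by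
  letI := σ.toAlgebra
  haveI : Module.Finite K A := hfin
  have hint : IsIntegral K h := Algebra.IsIntegral.isIntegral h
  refine ⟨minpoly K h, minpoly.monic hint, ?_, fun q hq => ?_⟩
  · have := minpoly.aeval K h
    rwa [aeval_def] at this
  · exact minpoly.dvd K h (by rw [aeval_def]; exact hq)

/-- A root of a polynomial with nonzero constant term is invertible, with a polynomial inverse. -/
theorem exists_inv_of_root {R : Type*} [CommRing R] (σ : K →+* R) (f : K[X]) (h0 : f.coeff 0 ≠ 0)
    (r : R) (hr : eval₂ σ r f = 0) : ∃ g : K[X], r * eval₂ σ r g = 1 := by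
  refine ⟨-(C (f.coeff 0)⁻¹) * f.divX, ?_⟩
  have h1 := congrArg (eval₂ σ r) (divX_mul_X_add f)
  rw [hr, eval₂_add, eval₂_mul, eval₂_X, eval₂_C] at h1
  rw [eval₂_mul, eval₂_neg, eval₂_C]
  have h2 : σ (f.coeff 0)⁻¹ * σ (f.coeff 0) = 1 := by
    rw [← map_mul, inv_mul_cancel₀ h0, map_one]
  linear_combination (-(σ (f.coeff 0)⁻¹)) * h1 + h2

theorem coeff_zero_ne_zero_of_isUnit {R : Type*} [CommRing R] [Nontrivial R] (σ : K →+* R)
    (f : K[X]) (hf : f.Monic) (r : R) (hu : IsUnit r) (hr : eval₂ σ r f = 0)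
    (hmin : ∀ q : K[X], eval₂ σ r q = 0 → f ∣ q) : f.coeff 0 ≠ 0 := by
  intro h0
  have hn : 1 ≤ f.natDegree := by
    by_contra h
    have h' : f.natDegree = 0 := by omega
    have := hf.natDegree_eq_zero.mp h'
    rw [this, eval₂_one] at hr
    exact one_ne_zero hr
  have h1 := divX_mul_X_add f
  rw [h0, C_0, add_zero] at h1
  have h2 := congrArg (eval₂ σ r) h1
  rw [hr, eval₂_mul, eval₂_X] at h2
  have h3 : eval₂ σ r f.divX = 0 := hu.mul_left_eq_zero.mp h2
  have h4 := hmin _ h3
  have h5 : f.divX ≠ 0 := by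
    intro h
    rw [h, zero_mul] at h1
    exact hf.ne_zero h1.symm
  have h6 : f.divX.natDegree < f.natDegree := by
    rw [natDegree_divX_eq_natDegree_tsub_one]; omega
  exact h5 (eq_zero_of_dvd_of_natDegree_lt h4 h6)

open LaurentPolynomial in
/-- Laurent polynomial expressions in a unit with a polynomial inverse are polynomial. -/
theorem exists_eval₂_eq_laurent {R : Type*} [CommRing R] (σ : K →+* R) (u : Rˣ) (g : K[X])
    (hg : (u : R) * eval₂ σ (u : R) g = 1) (L : K[T;T⁻¹]) :
    ∃ q : K[X], eval₂ σ (u : R) q = LaurentPolynomial.eval₂ σ u L := by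
  obtain ⟨n, P, hP⟩ := LaurentPolynomial.exists_T_pow L
  have h1 := congrArg (LaurentPolynomial.eval₂ σ u) hP
  rw [LaurentPolynomial.eval₂_toLaurent, map_mul, LaurentPolynomial.eval₂_T_n] at h1
  refine ⟨P * g ^ n, ?_⟩
  rw [eval₂_mul, eval₂_pow, h1, mul_assoc, ← mul_pow, hg, one_pow, mul_one]

end Groth.Agent.Lib.Helper61.FS
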