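import Mathlib
import Groth.Agent.Lib.Helper19.GaGm.Pts

set_option autoImplicit false
universe u

open CategoryTheory CategoryTheory.Limits AlgebraicGeometry Opposite Polynomial

namespace Groth.Agent.Lib.Helper61.FS

open Groth.Agent.Lib.Helper19.GaGm

set_option backward.isDefEq.respectTransparency.types false
set_option maxHeartbeats 400000

variable {K : Type u} [Field K]

lemma isoSpec_inv_appTop' (X : Scheme.{u}) [IsAffine X] :
    X.isoSpec.inv.appTop = (Scheme.ΓSpecIso Γ(X, ⊤)).inv := by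
  have h := congrArg Scheme.Hom.appTop X.isoSpec.hom_inv_id
  rw [Scheme.Hom.comp_appTop, Scheme.isoSpec_hom, Scheme.toSpecΓ_appTop] at h
  rw [← cancel_mono (Scheme.ΓSpecIso Γ(X, ⊤)).hom, Iso.inv_hom_id]
  exact h

/-- morphisms into an affine `K`-scheme from ring maps -/
theorem exists_hom_of_ringHom (H T : Over (Spec (CommRingCat.of K))) [IsAffine H.left]
    (ρ : Γ(H.left, ⊤) ⟶ Γ(T.left, ⊤)) (hρ : sectStr H ≫ ρ = sectStr T) :
    ∃ y : T ⟶ H, y.left.appTop = ρ := by
  have key : ∀ (yl : T.left ⟶ H.left), yl.appTop = ρ → yl ≫ H.hom = T.hom := by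
    intro yl h
    apply ext_to_Spec
    change (Scheme.ΓSpecIso _).inv ≫ (yl ≫ H.hom).appTop = (Scheme.ΓSpecIso _).inv ≫ T.hom.appTop
    rw [Scheme.Hom.comp_appTop, h]
    have := hρ
    unfold sectStr at this
    rw [Category.assoc] at this
    exact this
  have h1 : (T.left.toSpecΓ ≫ Spec.map ρ ≫ H.left.isoSpec.inv).appTop = ρ := by
    rw [Scheme.Hom.comp_appTop, Scheme.Hom.comp_appTop, isoSpec_inv_appTop',
      Scheme.toSpecΓ_appTop, ← Scheme.ΓSpecIso_inv_naturality,
      Category.assoc, Iso.inv_hom_id, Category.comp_id]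
  exact ⟨Over.homMk (T.left.toSpecΓ ≫ Spec.map ρ ≫ H.left.isoSpec.inv) (key _ h1), h1⟩

theorem isAffine_of_isFinite (H : Over (Spec (CommRingCat.of K))) [IsFinite H.hom] :
    IsAffine H.left := isAffine_of_isAffineHom H.hom

theorem finite_sectStr (H : Over (Spec (CommRingCat.of K))) [IsFinite H.hom] :
    (sectStr H).hom.Finite := by
  have h1 : (H.hom.appTop).hom.Finite :=
    ((HasAffineProperty.iff_of_isAffine (P := @IsFinite)).mp ‹IsFinite H.hom›).2
  unfold sectStr
  rw [CommRingCat.hom_comp]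
  exact h1.comp (RingHom.Finite.of_surjective _
    (ConcreteCategory.bijective_of_isIso (Scheme.ΓSpecIso (CommRingCat.of K)).inv).2)

theorem appTop_surjective_of_mono_finite (G H : Over (Spec (CommRingCat.of K))) [IsAffine G.left]
    (i : H ⟶ G) [Mono i] [IsFinite H.hom] : Function.Surjective i.left.appTop.hom := by
  haveI : IsFinite (i.left ≫ G.hom) := by rw [Over.w]; infer_instance
  haveI : IsFinite i.left := IsFinite.of_comp i.left G.hom
  haveI : Mono i.left := inferInstance
  haveI : IsClosedImmersion i.left := (IsClosedImmersion.iff_isFinite_and_mono i.left).mpr ⟨‹_›, ‹_›⟩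
  exact (IsClosedImmersion.isAffine_surjective_of_isAffine i.left).2

/-- evaluation of polynomials at functions on `K`-schemes -/
noncomputable def ev (T : Over (Spec (CommRingCat.of K))) (a : Γ(T.left, ⊤)) : K[X] →+* Γ(T.left, ⊤) :=
  eval₂RingHom (sectStr T).hom a

lemma ev_apply (T : Over (Spec (CommRingCat.of K))) (a : Γ(T.left, ⊤)) (p : K[X]) :
    ev T a p = eval₂ (sectStr T).hom a p := rfl

lemma ev_X (T : Over (Spec (CommRingCat.of K))) (a : Γ(T.left, ⊤)) : ev T a X = a := by
  rw [ev_apply, eval₂_X]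

lemma ev_C (T : Over (Spec (CommRingCat.of K))) (a : Γ(T.left, ⊤)) (c : K) :
    ev T a (C c) = (sectStr T).hom c := by
  rw [ev_apply, eval₂_C]

lemma ev_comp {T' T : Over (Spec (CommRingCat.of K))} (g : T' ⟶ T) (a : Γ(T.left, ⊤)) (p : K[X]) :
    g.left.appTop.hom (ev T a p) = ev T' (g.left.appTop.hom a) p := by
  rw [ev_apply, ev_apply, hom_eval₂]
  congr 1
  ext c
  exact sectStr_comp_apply g c

lemma ev_specOver {R : CommRingCat.{u}} (a : CommRingCat.of K ⟶ R) (r : R) (p : K[X]) :
    ev (specOver a) ((Scheme.ΓSpecIso R).inv.hom r) p = (Scheme.ΓSpecIso R).inv.hom (eval₂ a.hom r p) := by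
  rw [ev_apply, hom_eval₂, sectStr_specOver]
  rfl

lemma specOver_inv_injective (R : CommRingCat.{u}) :
    Function.Injective (Scheme.ΓSpecIso R).inv.hom :=
  (ConcreteCategory.bijective_of_isIso (Scheme.ΓSpecIso R).inv).1

end Groth.Agent.Lib.Helper61.FS
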