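import Mathlib
import Groth.Agent.Lib.Helper61.FS1
import Groth.Agent.Lib.Helper61.FS2
import Groth.Agent.Lib.Helper15.GaPts
import Groth.Agent.Lib.Helper19.GaGm.GmIso
import Groth.Agent.Lib.Helper5.TorsorExact
import Groth.Prelude.Def_AlgGrp

set_option autoImplicit false
universe u

open CategoryTheory CategoryTheory.Limits AlgebraicGeometry Opposite Polynomial
  MonoidalCategory CartesianMonoidalCategory MonObj GrpObj

namespace Groth.Agent.Lib.Helper61.FS.Ga

open Groth.Agent.Lib.Helper15.GaPts Groth.Agent.Lib.Helper19.GaGm Groth.Agent.Lib.Helper61.FS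

set_option backward.isDefEq.respectTransparency.types false
set_option maxHeartbeats 400000

variable {K : Type u} [Field K]

/-- the additive group over `K` -/
noncomputable abbrev GaK (K : Type u) [Field K] : Over (Spec (CommRingCat.of K)) :=
  Red.Ga (Spec (CommRingCat.of K))

/-- the endomorphism of the additive group given by a polynomial -/
noncomputable def phi (p : K[X]) : GaK K ⟶ GaK K :=
  ptOfFn (ev (GaK K) (Red.gaFn (𝟙 (GaK K))) p)

lemma gaFn_comp' {T' T : Over (Spec (CommRingCat.of K))} (g : T' ⟶ T) (x : T ⟶ GaK K) :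
    Red.gaFn (g ≫ x) = g.left.appTop.hom (Red.gaFn x) := gaFn_comp g x

lemma gaFn_comp_phi {T : Over (Spec (CommRingCat.of K))} (x : T ⟶ GaK K) (p : K[X]) :
    Red.gaFn (x ≫ phi p) = ev T (Red.gaFn x) p := by
  unfold phi
  rw [gaFn_comp', gaFn_ptOfFn, ev_comp, ← gaFn_comp', Category.comp_id]

/-- the affine line -/
noncomputable abbrev A1 (K : Type u) [Field K] : Over (Spec (CommRingCat.of K)) :=
  specOver (CommRingCat.ofHom (C : K →+* K[X]))

noncomputable def rho0 : CommRingCat.of K[X] ⟶ Γ((GaK K).left, ⊤) :=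
  CommRingCat.ofHom (ev (GaK K) (Red.gaFn (𝟙 (GaK K))))

lemma rho0_str : CommRingCat.ofHom (C : K →+* K[X]) ≫ rho0 (K := K) = sectStr (GaK K) := by
  ext c
  change ev (GaK K) _ (C c) = _
  rw [ev_C]

noncomputable def toA1 : GaK K ⟶ A1 K := toSpecOver _ _ rho0 rho0_str

noncomputable def fromA1 : A1 K ⟶ GaK K :=
  ptOfFn ((Scheme.ΓSpecIso (CommRingCat.of K[X])).inv.hom X)

lemma toA1_appTop (q : K[X]) :
    (toA1 (K := K)).left.appTop.hom ((Scheme.ΓSpecIso (CommRingCat.of K[X])).inv.hom q) =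
      ev (GaK K) (Red.gaFn (𝟙 (GaK K))) q :=
  toSpecOver_appTop_apply (GaK K) _ rho0 rho0_str q

lemma toA1_fromA1 : toA1 (K := K) ≫ fromA1 = 𝟙 _ := by
  apply eq_of_gaFn_eq
  unfold fromA1
  rw [gaFn_comp', gaFn_ptOfFn, toA1_appTop, ev_X]

lemma fromA1_toA1 : fromA1 (K := K) ≫ toA1 = 𝟙 _ := by
  apply Gm.specOver_hom_ext
  rw [Over.comp_left, Scheme.Hom.comp_appTop, ← Category.assoc]
  unfold toA1
  rw [toSpecOver_appTop]
  have : (𝟙 (A1 K) : A1 K ⟶ A1 K).left.appTop = 𝟙 _ := by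
    rw [Over.id_left]; rfl
  rw [this]
  erw [Category.comp_id]
  refine CommRingCat.hom_ext (Polynomial.ringHom_ext (fun c => ?_) ?_)
  · change (fromA1 (K := K)).left.appTop.hom (ev (GaK K) _ (C c)) = _
    rw [ev_C, sectStr_comp_apply, sectStr_specOver]
    rfl
  · change (fromA1 (K := K)).left.appTop.hom (ev (GaK K) _ X) = _
    rw [ev_X, ← gaFn_comp', Category.comp_id]
    unfold fromA1
    rw [gaFn_ptOfFn]

/-- the ring endomorphism `q ↦ q(p)` -/
noncomputable def psi (p : K[X]) : CommRingCat.of K[X] ⟶ CommRingCat.of K[X] :=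
  CommRingCat.ofHom (eval₂RingHom (C : K →+* K[X]) p)

lemma psi_str (p : K[X]) : CommRingCat.ofHom (C : K →+* K[X]) ≫ psi p = CommRingCat.ofHom C := by
  refine CommRingCat.hom_ext (RingHom.ext fun c => ?_)
  change eval₂ C p (C c) = C c
  rw [eval₂_C]

noncomputable def phiA (p : K[X]) : A1 K ⟶ A1 K :=
  Over.homMk (Spec.map (psi p)) (by
    change Spec.map (psi p) ≫ Spec.map _ = Spec.map _
    rw [← Spec.map_comp, psi_str])

lemma ev_hom (T : Over (Spec (CommRingCat.of K))) (a : Γ(T.left, ⊤)) 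
    (p q : K[X]) : ev T a (eval₂ (C : K →+* K[X]) p q) = ev T (ev T a p) q := by
  rw [ev_apply, ev_apply, ev_apply]
  induction q using Polynomial.induction_on' with
  | add q r hq hr => rw [eval₂_add, eval₂_add, eval₂_add, hq, hr]
  | monomial n c =>
    rw [eval₂_monomial, eval₂_monomial, eval₂_mul, eval₂_C, eval₂_pow]

lemma phi_eq (p : K[X]) : phi p = toA1 ≫ phiA p ≫ fromA1 := by
  apply eq_of_gaFn_eq
  have h1 : Red.gaFn (phi p) = ev (GaK K) (Red.gaFn (𝟙 (GaK K))) p := by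
    have := gaFn_comp_phi (𝟙 (GaK K)) p
    rwa [Category.id_comp] at this
  rw [h1, ← Category.assoc, gaFn_comp']
  unfold fromA1
  rw [gaFn_ptOfFn, Over.comp_left, Scheme.Hom.comp_appTop, CommRingCat.hom_comp, RingHom.comp_apply]
  have h2 : (phiA p).left.appTop.hom ((Scheme.ΓSpecIso (CommRingCat.of K[X])).inv.hom X) =
      (Scheme.ΓSpecIso (CommRingCat.of K[X])).inv.hom p := by
    have := congrArg (fun φ => φ.hom X) (Scheme.ΓSpecIso_inv_naturality (psi p))
    change (Scheme.ΓSpecIso _).inv.hom ((psi p).hom X) =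
      (Spec.map (psi p)).appTop.hom ((Scheme.ΓSpecIso _).inv.hom X) at this
    change (Spec.map (psi p)).appTop.hom ((Scheme.ΓSpecIso _).inv.hom X) = _
    rw [← this]
    change (Scheme.ΓSpecIso (CommRingCat.of K[X])).inv.hom (eval₂ (C : K →+* K[X]) p X) = _
    rw [eval₂_X]
  rw [h2, toA1_appTop]

/-- the plain ring endomorphism `q ↦ q(p)` -/
noncomputable def psi' (p : K[X]) : K[X] →+* K[X] := eval₂RingHom (C : K →+* K[X]) p

lemma psi'_apply (p q : K[X]) : psi' p q = q.comp p := rfl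

lemma psi'_injective (p : K[X]) (hp : 1 ≤ p.natDegree) : Function.Injective (psi' p) := by
  rw [injective_iff_map_eq_zero]
  intro q hq
  rw [psi'_apply] at hq
  rcases comp_eq_zero_iff.mp hq with h | ⟨_, h⟩
  · exact h
  · exfalso
    rw [h, natDegree_C] at hp
    omega

lemma psi'_flat (p : K[X]) (hp : 1 ≤ p.natDegree) : (psi' p).Flat := by
  unfold RingHom.Flat
  refine (@Module.Flat.flat_iff_torsion_eq_bot_of_isBezout K[X] K[X] _ _
    (psi' p).toAlgebra.toModule _ _).mpr ?_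
  refine (@Submodule.eq_bot_iff K[X] K[X] _ _ (psi' p).toAlgebra.toModule _).mpr ?_
  intro m hm
  obtain ⟨⟨r, hr⟩, hrm⟩ := (@Submodule.mem_torsion_iff K[X] K[X] _ _
    (psi' p).toAlgebra.toModule m).mp hm
  have h1 : psi' p r * m = 0 := hrm
  rcases mul_eq_zero.mp h1 with h | h
  · have := psi'_injective p hp (h.trans (map_zero _).symm)
    exact absurd this (nonZeroDivisors.ne_zero hr)
  · exact h

lemma psi'_isIntegralElem_X (p : K[X]) (hm : p.Monic) (hp : 1 ≤ p.natDegree) :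
    (psi' p).IsIntegralElem X := by
  refine ⟨p.map C - C X, ?_, ?_⟩
  · refine (hm.map C).sub_of_left ?_
    refine lt_of_le_of_lt degree_C_le ?_
    rw [← natDegree_pos_iff_degree_pos, hm.natDegree_map]
    omega
  · rw [eval₂_sub, eval₂_map, eval₂_C]
    have e : (psi' p).comp C = C := by
      ext c
      · rw [RingHom.comp_apply, psi'_apply, C_comp]
    rw [e, eval₂_C_X, psi'_apply, X_comp, sub_self]

lemma psi'_isIntegral (p : K[X]) (hm : p.Monic) (hp : 1 ≤ p.natDegree) : (psi' p).IsIntegral := by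
  have hX := psi'_isIntegralElem_X p hm hp
  have hpow : ∀ n : ℕ, (psi' p).IsIntegralElem (X ^ n) := by
    intro n
    induction n with
    | zero => rw [pow_zero]; exact (psi' p).isIntegralElem_one
    | succ n ih => rw [pow_succ]; exact RingHom.IsIntegralElem.mul _ ih hX
  intro q
  induction q using Polynomial.induction_on' with
  | add q r hq hr => exact RingHom.IsIntegralElem.add _ hq hr
  | monomial n a =>
    rw [← C_mul_X_pow_eq_monomial]
    refine RingHom.IsIntegralElem.mul _ ?_ (hpow n)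
    have : C a = psi' p (C a) := by rw [psi'_apply, C_comp]
    rw [this]
    exact (psi' p).isIntegralElem_map

lemma psi_faithfullyFlat (p : K[X]) (hm : p.Monic) (hp : 1 ≤ p.natDegree) :
    (psi p).hom.FaithfullyFlat := by
  change (psi' p).FaithfullyFlat
  rw [RingHom.FaithfullyFlat.iff_flat_and_comap_surjective]
  exact ⟨psi'_flat p hp, (psi'_isIntegral p hm hp).comap_surjective (psi'_injective p hp)⟩

lemma flat_surjective_phi (p : K[X]) (hm : p.Monic) (hp : 1 ≤ p.natDegree) :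
    Flat (phi p).left ∧ Surjective (phi p).left := by
  obtain ⟨h1, h2⟩ := (flat_and_surjective_SpecMap_iff (psi p)).mpr (psi_faithfullyFlat p hm hp)
  haveI : IsIso (toA1 (K := K)) := ⟨fromA1, toA1_fromA1, fromA1_toA1⟩
  haveI : IsIso (fromA1 (K := K)) := ⟨toA1, fromA1_toA1, toA1_fromA1⟩
  haveI : IsIso (toA1 (K := K)).left :=
    (inferInstance : IsIso ((Over.forget _).map (toA1 (K := K))))
  haveI : IsIso (fromA1 (K := K)).left :=
    (inferInstance : IsIso ((Over.forget _).map (fromA1 (K := K))))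
  haveI : Flat (phiA p).left := h1
  haveI : Surjective (phiA p).left := h2
  rw [phi_eq, Over.comp_left, Over.comp_left]
  exact ⟨inferInstance, inferInstance⟩

section main

instance : IsAffine (GaK K).left := by
  haveI : IsIso (toA1 (K := K)) := ⟨fromA1, toA1_fromA1, fromA1_toA1⟩
  haveI : IsIso (toA1 (K := K)).left :=
    (inferInstance : IsIso ((Over.forget _).map (toA1 (K := K))))
  haveI : IsAffine (A1 K).left := (inferInstance : IsAffine (Spec (CommRingCat.of K[X])))
  exact IsAffine.of_isIso (toA1 (K := K)).left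

lemma exists_ev_eq (b : Γ((GaK K).left, ⊤)) :
    ∃ q : K[X], ev (GaK K) (Red.gaFn (𝟙 (GaK K))) q = b := by
  have h1 : (toA1 (K := K) ≫ fromA1).left.appTop.hom b = b := by
    rw [toA1_fromA1]; rfl
  rw [Over.comp_left, Scheme.Hom.comp_appTop, CommRingCat.hom_comp, RingHom.comp_apply] at h1
  obtain ⟨q, hq⟩ := (ConcreteCategory.bijective_of_isIso
    (Scheme.ΓSpecIso (CommRingCat.of K[X])).inv).2 ((fromA1 (K := K)).left.appTop.hom b)
  refine ⟨q, ?_⟩
  rw [← toA1_appTop]
  refine Eq.trans ?_ h1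
  congr 1

variable (H : Over (Spec (CommRingCat.of K))) (i : H ⟶ GaK K)

lemma ev_surjective [Mono i] [IsFinite H.hom] : Function.Surjective (ev H (Red.gaFn i)) := by
  intro a
  obtain ⟨b, hb⟩ := appTop_surjective_of_mono_finite (GaK K) H i a
  obtain ⟨q, hq⟩ := exists_ev_eq b
  refine ⟨q, ?_⟩
  rw [← hb, ← hq, ev_comp, ← gaFn_comp', Category.comp_id]

/-- `f` generates the ideal of `H` in the additive group. -/
def IsGen (f : K[X]) : Prop :=
  f.Monic ∧ ev H (Red.gaFn i) f = 0 ∧ ∀ q : K[X], ev H (Red.gaFn i) q = 0 → f ∣ q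

lemma exists_isGen [IsFinite H.hom] : ∃ f, IsGen H i f :=
  exists_monic_gen (sectStr H).hom (finite_sectStr H) (Red.gaFn i)

variable {H i}

lemma factors_iff [Mono i] [IsFinite H.hom] {f : K[X]} (hf : IsGen H i f) {T : Over (Spec (CommRingCat.of K))}
    (x : T ⟶ GaK K) : (∃ y : T ⟶ H, y ≫ i = x) ↔ ev T (Red.gaFn x) f = 0 := by
  constructor
  · rintro ⟨y, rfl⟩
    rw [gaFn_comp', ← ev_comp, hf.2.1, map_zero]
  · intro hx
    haveI := isAffine_of_isFinite H
    have hker : RingHom.ker (ev H (Red.gaFn i)) ≤ RingHom.ker (ev T (Red.gaFn x)) := by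
      intro q hq
      rw [RingHom.mem_ker] at hq ⊢
      obtain ⟨r, rfl⟩ := hf.2.2 q hq
      rw [map_mul, hx, zero_mul]
    let ρ' : Γ(H.left, ⊤) →+* Γ(T.left, ⊤) :=
      RingHom.liftOfSurjective (ev H (Red.gaFn i)) (ev_surjective H i) ⟨ev T (Red.gaFn x), hker⟩
    have hρ' : ∀ q, ρ' (ev H (Red.gaFn i) q) = ev T (Red.gaFn x) q := fun q =>
      RingHom.liftOfSurjective_comp_apply _ (ev_surjective H i) ⟨ev T (Red.gaFn x), hker⟩ q
    have hstr : sectStr H ≫ CommRingCat.ofHom ρ' = sectStr T := by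
      refine CommRingCat.hom_ext (RingHom.ext fun c => ?_)
      change ρ' ((sectStr H).hom c) = (sectStr T).hom c
      rw [← ev_C H (Red.gaFn i) c, hρ', ev_C]
    obtain ⟨y, hy⟩ := exists_hom_of_ringHom H T (CommRingCat.ofHom ρ') hstr
    refine ⟨y, eq_of_gaFn_eq ?_⟩
    rw [gaFn_comp', hy]
    change ρ' (Red.gaFn i) = _
    have := hρ' X
    rwa [ev_X, ev_X] at this

lemma coeff_zero_eq_zero [GrpObj H] [IsMonHom i] [Mono i] [IsFinite H.hom] {f : K[X]} (hf : IsGen H i f) : f.coeff 0 = 0 := by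
  have h1 : ev H (Red.gaFn ((1 : H ⟶ H) ≫ i)) f = 0 := (factors_iff hf _).mp ⟨1, rfl⟩
  have h2 : (1 : H ⟶ H) ≫ i = 1 := MonObj.one_comp i
  rw [h2, gaFn_one, ev_apply, eval₂_at_zero] at h1
  haveI : Nonempty (𝟙_ (Over (Spec (CommRingCat.of K)))).left :=
    (inferInstance : Nonempty (Spec (CommRingCat.of K)))
  haveI : Nonempty (⊤ : H.left.Opens) :=
    ⟨⟨(η[H] : _ ⟶ H).left.base (Classical.arbitrary _), trivial⟩⟩
  haveI : Nontrivial Γ(H.left, ⊤) := inferInstance
  exact (map_eq_zero_iff _ (sectStr H).hom.injective).mp h1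

lemma hB_of_isGen [GrpObj H] [IsMonHom i] [Mono i] [IsFinite H.hom] {f : K[X]}
    (hf : IsGen H i f) :
    eval₂ (algebraMap K (AdjoinRoot (f.map (algebraMap K (AdjoinRoot f)))))
      (algebraMap (AdjoinRoot f) _ (AdjoinRoot.root f) +
        AdjoinRoot.root (f.map (algebraMap K (AdjoinRoot f)))) f = 0 := by
  obtain ⟨B, hBdef⟩ : ∃ B : Type u, B = AdjoinRoot (f.map (algebraMap K (AdjoinRoot f))) := ⟨_, rfl⟩
  have hsc : algebraMap K (AdjoinRoot (f.map (algebraMap K (AdjoinRoot f)))) =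
      (algebraMap (AdjoinRoot f) _).comp (algebraMap K (AdjoinRoot f)) := by
    ext c; rfl
  have hα : eval₂ (algebraMap K (AdjoinRoot (f.map (algebraMap K (AdjoinRoot f)))))
      (algebraMap (AdjoinRoot f) _ (AdjoinRoot.root f)) f = 0 := by
    rw [hsc, ← hom_eval₂]
    have : eval₂ (algebraMap K (AdjoinRoot f)) (AdjoinRoot.root f) f = 0 := AdjoinRoot.eval₂_root f
    rw [this, map_zero]
  have hβ : eval₂ (algebraMap K (AdjoinRoot (f.map (algebraMap K (AdjoinRoot f)))))
      (AdjoinRoot.root (f.map (algebraMap K (AdjoinRoot f)))) f = 0 := by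
    rw [hsc, ← eval₂_map]
    exact AdjoinRoot.eval₂_root _
  let a : CommRingCat.of K ⟶ CommRingCat.of (AdjoinRoot (f.map (algebraMap K (AdjoinRoot f)))) :=
    CommRingCat.ofHom (algebraMap K _)
  let T : Over (Spec (CommRingCat.of K)) := specOver a
  have hev : ∀ (r : AdjoinRoot (f.map (algebraMap K (AdjoinRoot f)))) (p : K[X]),
      ev T ((Scheme.ΓSpecIso _).inv.hom r) p = (Scheme.ΓSpecIso _).inv.hom (eval₂ (algebraMap K _) r p) :=
    fun r p => ev_specOver a r p
  obtain ⟨ya, hya⟩ := (factors_iff hf (T := T) (ptOfFn ((Scheme.ΓSpecIso _).inv.hom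
    (algebraMap (AdjoinRoot f) _ (AdjoinRoot.root f))))).mpr (by
      rw [gaFn_ptOfFn, hev, hα, map_zero])
  obtain ⟨yb, hyb⟩ := (factors_iff hf (T := T) (ptOfFn ((Scheme.ΓSpecIso _).inv.hom
    (AdjoinRoot.root (f.map (algebraMap K (AdjoinRoot f))))))).mpr (by
      rw [gaFn_ptOfFn, hev, hβ, map_zero])
  have h1 := (factors_iff hf ((ya * yb) ≫ i)).mp ⟨ya * yb, rfl⟩
  have h2 : (ya * yb) ≫ i = (ya ≫ i) * (yb ≫ i) := MonObj.mul_comp ya yb i
  rw [h2, hya, hyb, gaFn_mul, gaFn_ptOfFn, gaFn_ptOfFn, ← map_add, hev] at h1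
  exact (map_eq_zero_iff _ (specOver_inv_injective _)).mp h1

theorem main_Ga [GrpObj H] [IsMonHom i] [Mono i] [IsFinite H.hom] :
    ∃ φ : GaK K ⟶ GaK K, IsMonHom φ ∧ AlgGrp.IsKernel i φ ∧ Flat φ.left ∧ Surjective φ.left := by
  obtain ⟨f, hf⟩ := exists_isGen H i
  have h0 := coeff_zero_eq_zero hf
  have hB := hB_of_isGen hf
  have hn : 1 ≤ f.natDegree := by
    by_contra h
    have h' : f.natDegree = 0 := by omega
    have := hf.1.natDegree_eq_zero.mp h'
    rw [this, coeff_one_zero] at h0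
    exact one_ne_zero h0
  have hcomm : i ≫ phi f = toUnit H ≫ η[GaK K] := by
    apply eq_of_gaFn_eq
    rw [gaFn_comp_phi, hf.2.1]
    have : toUnit H ≫ η[GaK K] = (1 : H ⟶ GaK K) := (Hom.one_def).symm
    rw [this, gaFn_one]
  have hs : ∀ s : PullbackCone (phi f) η[GaK K], ∃ y : s.pt ⟶ H, y ≫ i = s.fst := by
    intro s
    refine (factors_iff hf s.fst).mpr ?_
    rw [← gaFn_comp_phi, s.condition]
    have : s.snd ≫ η[GaK K] = (1 : s.pt ⟶ GaK K) := by
      rw [Hom.one_def, toUnit_unique s.snd (toUnit s.pt)]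
    rw [this, gaFn_one]
  refine ⟨phi f, Groth.Agent.Lib.Helper5.TorsorExact.isMonHom_of_points _
    (fun x y => eq_of_gaFn_eq ?_), ?_, (flat_surjective_phi f hf.1 hn).1,
    (flat_surjective_phi f hf.1 hn).2⟩
  · rw [gaFn_comp_phi, gaFn_mul, gaFn_mul, gaFn_comp_phi, gaFn_comp_phi, ev_apply, ev_apply,
      ev_apply]
    exact additive f hf.1 h0 hB _ _ _
  · refine ⟨⟨hcomm⟩, ⟨PullbackCone.IsLimit.mk _ (fun s => (hs s).choose)
      (fun s => (hs s).choose_spec) (fun s => toUnit_unique _ _) ?_⟩⟩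
    intro s m hm _
    exact (cancel_mono i).mp (hm.trans (hs s).choose_spec.symm)

end main

end Groth.Agent.Lib.Helper61.FS.Ga
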