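import Mathlib
import Groth.Agent.Lib.Helper61.FS1
import Groth.Agent.Lib.Helper61.FS2
import Groth.Agent.Lib.Helper19.GaGm.GmIso
import Groth.Agent.Lib.Helper5.TorsorExact
import Groth.Prelude.Def_AlgGrp

set_option autoImplicit false
universe u

open CategoryTheory CategoryTheory.Limits AlgebraicGeometry Opposite
  MonoidalCategory CartesianMonoidalCategory MonObj GrpObj
open GmPts (ptOfUnit unitOfPt gmFn_ptOfUnit ptOfUnit_unitOfPt unitOfPt_ptOfUnit gmFn_comp
  gmFn_injective isUnit_gmFn val_unitOfPt gmFn_mul gmFn_one)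
open LaurentPolynomial

namespace Groth.Agent.Lib.Helper61.FS.Gm

open Groth.Agent.Lib.Helper19.GaGm Groth.Agent.Lib.Helper61.FS

set_option backward.isDefEq.respectTransparency.types false
set_option maxHeartbeats 400000

variable {K : Type u} [Field K]

/-- the multiplicative group over `K` -/
noncomputable abbrev GmK (K : Type u) [Field K] : Over (Spec (CommRingCat.of K)) :=
  Red.Gm (Spec (CommRingCat.of K))

lemma gmFn_comp' {W' W : Over (Spec (CommRingCat.of K))} (g : W' ⟶ W) (x : W ⟶ GmK K) :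
    Red.gmFn (g ≫ x) = g.left.appTop.hom (Red.gmFn x) := gmFn_comp g x

lemma eq_of_gmFn_eq {W : Over (Spec (CommRingCat.of K))} {x y : W ⟶ GmK K}
    (h : Red.gmFn x = Red.gmFn y) : x = y := gmFn_injective h

/-- the `n`-th power endomorphism -/
noncomputable def phi (n : ℕ) : GmK K ⟶ GmK K := ptOfUnit ((unitOfPt (𝟙 (GmK K))) ^ n)

lemma gmFn_comp_phi {W : Over (Spec (CommRingCat.of K))} (x : W ⟶ GmK K) (n : ℕ) :
    Red.gmFn (x ≫ phi n) = Red.gmFn x ^ n := by
  unfold phi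
  rw [gmFn_comp', gmFn_ptOfUnit, Units.val_pow_eq_pow_val, map_pow, val_unitOfPt, ← gmFn_comp',
    Category.comp_id]

/-- evaluation of Laurent polynomials at units -/
noncomputable def evL (W : Over (Spec (CommRingCat.of K))) (v : (Γ(W.left, ⊤))ˣ) :
    K[T;T⁻¹] →+* Γ(W.left, ⊤) := LaurentPolynomial.eval₂ (sectStr W).hom v

lemma evL_comp {W' W : Over (Spec (CommRingCat.of K))} (g : W' ⟶ W) (v : (Γ(W.left, ⊤))ˣ)
    (q : K[T;T⁻¹]) :
    g.left.appTop.hom (evL W v q) = evL W' (Units.map g.left.appTop.hom.toMonoidHom v) q := by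
  have : g.left.appTop.hom.comp (evL W v) =
      evL W' (Units.map g.left.appTop.hom.toMonoidHom v) := by
    refine Gm.laurent_ringHom_ext (fun c => ?_) ?_
    · change g.left.appTop.hom (LaurentPolynomial.eval₂ _ _ (C c)) =
        LaurentPolynomial.eval₂ _ _ (C c)
      rw [eval₂_C, eval₂_C]
      exact sectStr_comp_apply g c
    · change g.left.appTop.hom (LaurentPolynomial.eval₂ _ _ (T 1)) =
        LaurentPolynomial.eval₂ _ _ (T 1)
      rw [eval₂_T, eval₂_T, zpow_one, zpow_one]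
      rfl
  exact congrArg (fun φ => φ q) this

noncomputable def toT : GmK K ⟶ Gm.torus₁ K := Gm.gmToTorus

noncomputable def fromT : Gm.torus₁ K ⟶ GmK K := ptOfUnit (Gm.tU K)

lemma toT_appTop (q : K[T;T⁻¹]) :
    (toT (K := K)).left.appTop.hom ((Scheme.ΓSpecIso (CommRingCat.of K[T;T⁻¹])).inv.hom q) =
      evL (GmK K) (unitOfPt (𝟙 (GmK K))) q :=
  toSpecOver_appTop_apply (GmK K) _ Gm.gmEval Gm.gmEval_str q

lemma val_tU' : ((Gm.tU K : (Γ((Gm.torus₁ K).left, ⊤))ˣ) : Γ((Gm.torus₁ K).left, ⊤)) =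
    (Scheme.ΓSpecIso (CommRingCat.of K[T;T⁻¹])).inv.hom (T 1) := rfl

lemma toT_fromT : toT (K := K) ≫ fromT = 𝟙 _ := by
  apply eq_of_gmFn_eq
  unfold fromT
  rw [gmFn_comp', gmFn_ptOfUnit, val_tU', toT_appTop]
  change LaurentPolynomial.eval₂ _ _ (T 1) = _
  rw [eval₂_T, zpow_one, val_unitOfPt]

lemma fromT_toT : fromT (K := K) ≫ toT = 𝟙 _ := by
  apply Gm.specOver_hom_ext
  rw [Over.comp_left, Scheme.Hom.comp_appTop, ← Category.assoc]
  unfold toT Gm.gmToTorus
  rw [toSpecOver_appTop]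
  have : (𝟙 (Gm.torus₁ K) : Gm.torus₁ K ⟶ Gm.torus₁ K).left.appTop = 𝟙 _ := by
    rw [Over.id_left]; rfl
  rw [this]
  erw [Category.comp_id]
  refine CommRingCat.hom_ext (Gm.laurent_ringHom_ext (fun c => ?_) ?_)
  · change (fromT (K := K)).left.appTop.hom (LaurentPolynomial.eval₂ _ _ (C c)) = _
    rw [eval₂_C, sectStr_comp_apply, sectStr_specOver]
    rfl
  · change (fromT (K := K)).left.appTop.hom (LaurentPolynomial.eval₂ _ _ (T 1)) = _
    rw [eval₂_T, zpow_one, val_unitOfPt, ← gmFn_comp', Category.comp_id]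
    unfold fromT
    rw [gmFn_ptOfUnit]
    rfl

/-- the plain ring endomorphism `T ↦ T ^ n` of the Laurent polynomial ring -/
noncomputable def psi' (n : ℕ) : K[T;T⁻¹] →+* K[T;T⁻¹] :=
  AddMonoidAlgebra.mapDomainRingHom K (AddMonoidHom.mulLeft (n : ℤ))

lemma psi'_C (n : ℕ) (a : K) : psi' n (C a) = C a := by
  change AddMonoidAlgebra.mapDomain _ (AddMonoidAlgebra.single 0 a) = AddMonoidAlgebra.single 0 a
  rw [AddMonoidAlgebra.mapDomain_single]
  congr 1

lemma psi'_T (n : ℕ) (m : ℤ) : psi' n (T m : K[T;T⁻¹]) = T (n * m) := by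
  change AddMonoidAlgebra.mapDomain _ (AddMonoidAlgebra.single m 1) = AddMonoidAlgebra.single _ 1
  rw [AddMonoidAlgebra.mapDomain_single]
  rfl

lemma psi'_injective (n : ℕ) (hn : 1 ≤ n) : Function.Injective (psi' (K := K) n) := by
  have : Function.Injective (AddMonoidHom.mulLeft (n : ℤ)) := by
    intro a b h
    have h' : (n : ℤ) * a = n * b := h
    exact mul_left_cancel₀ (by positivity) h'
  exact AddMonoidAlgebra.mapDomain_injective this

instance : IsDedekindDomain K[T;T⁻¹] :=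
  IsLocalization.isDedekindDomain (Polynomial K) (M := Submonoid.powers (Polynomial.X : Polynomial K))
    (Submonoid.powers_le.mpr (mem_nonZeroDivisors_of_ne_zero Polynomial.X_ne_zero)) K[T;T⁻¹]

lemma psi'_flat (n : ℕ) (hn : 1 ≤ n) : (psi' (K := K) n).Flat := by
  unfold RingHom.Flat
  refine (@IsDedekindDomain.flat_iff_torsion_eq_bot K[T;T⁻¹] K[T;T⁻¹] _ _
    (psi' n).toAlgebra.toModule _).mpr ?_
  refine (@Submodule.eq_bot_iff K[T;T⁻¹] K[T;T⁻¹] _ _ (psi' n).toAlgebra.toModule _).mpr ?_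
  intro m hm
  obtain ⟨⟨r, hr⟩, hrm⟩ := (@Submodule.mem_torsion_iff K[T;T⁻¹] K[T;T⁻¹] _ _
    (psi' n).toAlgebra.toModule m).mp hm
  have h1 : psi' n r * m = 0 := hrm
  rcases mul_eq_zero.mp h1 with h | h
  · have := psi'_injective n hn (h.trans (map_zero _).symm)
    exact absurd this (nonZeroDivisors.ne_zero hr)
  · exact h

lemma psi'_isIntegralElem_T (n : ℕ) (hn : 1 ≤ n) (m : ℤ) :
    (psi' (K := K) n).IsIntegralElem (T m) := by
  refine ⟨Polynomial.X ^ n - Polynomial.C (T m), Polynomial.monic_X_pow_sub_C _ (by omega), ?_⟩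
  rw [Polynomial.eval₂_sub, Polynomial.eval₂_pow, Polynomial.eval₂_X, Polynomial.eval₂_C, psi'_T,
    T_pow, sub_self]

lemma psi'_isIntegral (n : ℕ) (hn : 1 ≤ n) : (psi' (K := K) n).IsIntegral := by
  intro q
  induction q using LaurentPolynomial.induction_on' with
  | add q r hq hr => exact RingHom.IsIntegralElem.add _ hq hr
  | C_mul_T m a =>
    refine RingHom.IsIntegralElem.mul _ ?_ (psi'_isIntegralElem_T n hn m)
    rw [← psi'_C n a]
    exact (psi' n).isIntegralElem_map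

/-- the ring endomorphism `T ↦ T ^ n` -/
noncomputable def psi (n : ℕ) : CommRingCat.of K[T;T⁻¹] ⟶ CommRingCat.of K[T;T⁻¹] :=
  CommRingCat.ofHom (psi' n)

lemma psi_faithfullyFlat (n : ℕ) (hn : 1 ≤ n) : (psi (K := K) n).hom.FaithfullyFlat := by
  change (psi' n).FaithfullyFlat
  rw [RingHom.FaithfullyFlat.iff_flat_and_comap_surjective]
  exact ⟨psi'_flat n hn, (psi'_isIntegral n hn).comap_surjective (psi'_injective n hn)⟩

lemma psi_str (n : ℕ) : CommRingCat.ofHom (C : K →+* K[T;T⁻¹]) ≫ psi n = CommRingCat.ofHom C := by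
  refine CommRingCat.hom_ext (RingHom.ext fun c => ?_)
  exact psi'_C n c

noncomputable def phiA (n : ℕ) : Gm.torus₁ K ⟶ Gm.torus₁ K :=
  Over.homMk (Spec.map (psi n)) (by
    change Spec.map (psi n) ≫ Spec.map _ = Spec.map _
    rw [← Spec.map_comp, psi_str])

lemma phi_eq (n : ℕ) : phi (K := K) n = toT ≫ phiA n ≫ fromT := by
  apply eq_of_gmFn_eq
  have h1 : Red.gmFn (phi (K := K) n) = Red.gmFn (𝟙 (GmK K)) ^ n := by
    have := gmFn_comp_phi (𝟙 (GmK K)) n
    rwa [Category.id_comp] at this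
  rw [h1, ← Category.assoc, gmFn_comp']
  unfold fromT
  rw [gmFn_ptOfUnit, val_tU', Over.comp_left, Scheme.Hom.comp_appTop, CommRingCat.hom_comp,
    RingHom.comp_apply]
  have h2 : (phiA (K := K) n).left.appTop.hom
      ((Scheme.ΓSpecIso (CommRingCat.of K[T;T⁻¹])).inv.hom (T 1)) =
      (Scheme.ΓSpecIso (CommRingCat.of K[T;T⁻¹])).inv.hom (T (n : ℤ)) := by
    have := congrArg (fun φ => φ.hom (T 1)) (Scheme.ΓSpecIso_inv_naturality (psi (K := K) n))
    change (Scheme.ΓSpecIso _).inv.hom ((psi n).hom (T 1)) =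
      (Spec.map (psi n)).appTop.hom ((Scheme.ΓSpecIso _).inv.hom (T 1)) at this
    change (Spec.map (psi n)).appTop.hom ((Scheme.ΓSpecIso _).inv.hom (T 1)) = _
    rw [← this]
    change (Scheme.ΓSpecIso (CommRingCat.of K[T;T⁻¹])).inv.hom (psi' n (T 1)) = _
    rw [psi'_T, _root_.mul_one]
  rw [h2, toT_appTop]
  change _ = LaurentPolynomial.eval₂ _ _ (T (n : ℤ))
  rw [eval₂_T_n, val_unitOfPt]

lemma flat_surjective_phi (n : ℕ) (hn : 1 ≤ n) :
    Flat (phi (K := K) n).left ∧ Surjective (phi (K := K) n).left := by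
  obtain ⟨h1, h2⟩ := (flat_and_surjective_SpecMap_iff (psi (K := K) n)).mpr (psi_faithfullyFlat n hn)
  haveI : IsIso (toT (K := K)) := ⟨fromT, toT_fromT, fromT_toT⟩
  haveI : IsIso (fromT (K := K)) := ⟨toT, fromT_toT, toT_fromT⟩
  haveI : IsIso (toT (K := K)).left :=
    (inferInstance : IsIso ((Over.forget _).map (toT (K := K))))
  haveI : IsIso (fromT (K := K)).left :=
    (inferInstance : IsIso ((Over.forget _).map (fromT (K := K))))
  haveI : Flat (phiA (K := K) n).left := h1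
  haveI : Surjective (phiA (K := K) n).left := h2
  rw [phi_eq, Over.comp_left, Over.comp_left]
  exact ⟨inferInstance, inferInstance⟩

section main

instance : IsAffine (GmK K).left := by
  haveI : IsIso (toT (K := K)) := ⟨fromT, toT_fromT, fromT_toT⟩
  haveI : IsIso (toT (K := K)).left :=
    (inferInstance : IsIso ((Over.forget _).map (toT (K := K))))
  haveI : IsAffine (Gm.torus₁ K).left :=
    (inferInstance : IsAffine (Spec (CommRingCat.of K[T;T⁻¹])))
  exact IsAffine.of_isIso (toT (K := K)).left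

lemma exists_evL_eq (b : Γ((GmK K).left, ⊤)) :
    ∃ q : K[T;T⁻¹], evL (GmK K) (unitOfPt (𝟙 (GmK K))) q = b := by
  have h1 : (toT (K := K) ≫ fromT).left.appTop.hom b = b := by
    rw [toT_fromT]; rfl
  rw [Over.comp_left, Scheme.Hom.comp_appTop, CommRingCat.hom_comp, RingHom.comp_apply] at h1
  obtain ⟨q, hq⟩ := (ConcreteCategory.bijective_of_isIso
    (Scheme.ΓSpecIso (CommRingCat.of K[T;T⁻¹])).inv).2 ((fromT (K := K)).left.appTop.hom b)
  refine ⟨q, ?_⟩
  rw [← toT_appTop]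
  refine Eq.trans ?_ h1
  congr 1

variable (H : Over (Spec (CommRingCat.of K))) (i : H ⟶ GmK K)

/-- `f` generates the ideal of `H` in the multiplicative group. -/
def IsGen (f : Polynomial K) : Prop :=
  f.Monic ∧ ev H (Red.gmFn i) f = 0 ∧ ∀ q : Polynomial K, ev H (Red.gmFn i) q = 0 → f ∣ q

lemma exists_isGen [IsFinite H.hom] : ∃ f, IsGen H i f :=
  exists_monic_gen (sectStr H).hom (finite_sectStr H) (Red.gmFn i)

variable {H i}

lemma nontrivial_sections [GrpObj H] : Nontrivial Γ(H.left, ⊤) := by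
  haveI : Nonempty (𝟙_ (Over (Spec (CommRingCat.of K)))).left :=
    (inferInstance : Nonempty (Spec (CommRingCat.of K)))
  haveI : Nonempty (⊤ : H.left.Opens) :=
    ⟨⟨(η[H] : _ ⟶ H).left.base (Classical.arbitrary _), trivial⟩⟩
  infer_instance

lemma coeff_zero_ne_zero [GrpObj H] {f : Polynomial K} (hf : IsGen H i f) : f.coeff 0 ≠ 0 := by
  haveI := nontrivial_sections (H := H)
  exact coeff_zero_ne_zero_of_isUnit (sectStr H).hom f hf.1 (Red.gmFn i) (isUnit_gmFn i) hf.2.1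
    hf.2.2

lemma ev_surjective [GrpObj H] [Mono i] [IsFinite H.hom] {f : Polynomial K} (hf : IsGen H i f) :
    Function.Surjective (ev H (Red.gmFn i)) := by
  intro a
  obtain ⟨b, hb⟩ := appTop_surjective_of_mono_finite (GmK K) H i a
  obtain ⟨L, hL⟩ := exists_evL_eq b
  obtain ⟨g, hg⟩ := exists_inv_of_root (sectStr H).hom f (coeff_zero_ne_zero hf) (Red.gmFn i) hf.2.1
  have hu : ((unitOfPt i : (Γ(H.left, ⊤))ˣ) : Γ(H.left, ⊤)) = Red.gmFn i := val_unitOfPt i
  obtain ⟨q, hq⟩ := exists_eval₂_eq_laurent (sectStr H).hom (unitOfPt i) g (by rw [hu]; exact hg) L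
  refine ⟨q, ?_⟩
  rw [← hb, ← hL, evL_comp, ev_apply, ← hu, hq]
  have : Units.map i.left.appTop.hom.toMonoidHom (unitOfPt (𝟙 (GmK K))) = unitOfPt i := by
    have := GmPts.unitOfPt_comp i (𝟙 (GmK K))
    rw [Category.comp_id] at this
    exact this.symm
  rw [this]
  rfl

lemma factors_iff [GrpObj H] [Mono i] [IsFinite H.hom] {f : Polynomial K} (hf : IsGen H i f)
    {W : Over (Spec (CommRingCat.of K))} (x : W ⟶ GmK K) :
    (∃ y : W ⟶ H, y ≫ i = x) ↔ ev W (Red.gmFn x) f = 0 := by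
  constructor
  · rintro ⟨y, rfl⟩
    rw [gmFn_comp', ← ev_comp, hf.2.1, map_zero]
  · intro hx
    haveI := isAffine_of_isFinite H
    have hker : RingHom.ker (ev H (Red.gmFn i)) ≤ RingHom.ker (ev W (Red.gmFn x)) := by
      intro q hq
      rw [RingHom.mem_ker] at hq ⊢
      obtain ⟨r, rfl⟩ := hf.2.2 q hq
      rw [map_mul, hx, zero_mul]
    let ρ' : Γ(H.left, ⊤) →+* Γ(W.left, ⊤) :=
      RingHom.liftOfSurjective (ev H (Red.gmFn i)) (ev_surjective hf) ⟨ev W (Red.gmFn x), hker⟩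
    have hρ' : ∀ q, ρ' (ev H (Red.gmFn i) q) = ev W (Red.gmFn x) q := fun q =>
      RingHom.liftOfSurjective_comp_apply _ (ev_surjective hf) ⟨ev W (Red.gmFn x), hker⟩ q
    have hstr : sectStr H ≫ CommRingCat.ofHom ρ' = sectStr W := by
      refine CommRingCat.hom_ext (RingHom.ext fun c => ?_)
      change ρ' ((sectStr H).hom c) = (sectStr W).hom c
      rw [← ev_C H (Red.gmFn i) c, hρ', ev_C]
    obtain ⟨y, hy⟩ := exists_hom_of_ringHom H W (CommRingCat.ofHom ρ') hstr
    refine ⟨y, eq_of_gmFn_eq ?_⟩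
    rw [gmFn_comp', hy]
    change ρ' (Red.gmFn i) = _
    have := hρ' Polynomial.X
    rwa [ev_X, ev_X] at this

lemma hB_of_isGen [GrpObj H] [IsMonHom i] [Mono i] [IsFinite H.hom] {f : Polynomial K}
    (hf : IsGen H i f) :
    Polynomial.eval₂ (algebraMap K (AdjoinRoot (f.map (algebraMap K (AdjoinRoot f)))))
      (algebraMap (AdjoinRoot f) _ (AdjoinRoot.root f) *
        AdjoinRoot.root (f.map (algebraMap K (AdjoinRoot f)))) f = 0 := by
  have h0 := coeff_zero_ne_zero hf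
  have hsc : algebraMap K (AdjoinRoot (f.map (algebraMap K (AdjoinRoot f)))) =
      (algebraMap (AdjoinRoot f) _).comp (algebraMap K (AdjoinRoot f)) := by
    ext c; rfl
  have hα : Polynomial.eval₂ (algebraMap K (AdjoinRoot (f.map (algebraMap K (AdjoinRoot f)))))
      (algebraMap (AdjoinRoot f) _ (AdjoinRoot.root f)) f = 0 := by
    rw [hsc, ← Polynomial.hom_eval₂]
    have : Polynomial.eval₂ (algebraMap K (AdjoinRoot f)) (AdjoinRoot.root f) f = 0 :=
      AdjoinRoot.eval₂_root f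
    rw [this, map_zero]
  have hβ : Polynomial.eval₂ (algebraMap K (AdjoinRoot (f.map (algebraMap K (AdjoinRoot f)))))
      (AdjoinRoot.root (f.map (algebraMap K (AdjoinRoot f)))) f = 0 := by
    rw [hsc, ← Polynomial.eval₂_map]
    exact AdjoinRoot.eval₂_root _
  obtain ⟨gα, hgα⟩ := exists_inv_of_root _ f h0 _ hα
  obtain ⟨gβ, hgβ⟩ := exists_inv_of_root _ f h0 _ hβ
  obtain ⟨uα, huα⟩ := IsUnit.of_mul_eq_one _ hgα
  obtain ⟨uβ, huβ⟩ := IsUnit.of_mul_eq_one _ hgβ
  let a : CommRingCat.of K ⟶ CommRingCat.of (AdjoinRoot (f.map (algebraMap K (AdjoinRoot f)))) :=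
    CommRingCat.ofHom (algebraMap K _)
  let W : Over (Spec (CommRingCat.of K)) := specOver a
  have hev : ∀ (r : AdjoinRoot (f.map (algebraMap K (AdjoinRoot f)))) (p : Polynomial K),
      ev W ((Scheme.ΓSpecIso _).inv.hom r) p =
        (Scheme.ΓSpecIso _).inv.hom (Polynomial.eval₂ (algebraMap K _) r p) :=
    fun r p => ev_specOver a r p
  let vα : (Γ(W.left, ⊤))ˣ := Units.map (Scheme.ΓSpecIso _).inv.hom.toMonoidHom uα
  let vβ : (Γ(W.left, ⊤))ˣ := Units.map (Scheme.ΓSpecIso _).inv.hom.toMonoidHom uβ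
  have hvα : (vα : Γ(W.left, ⊤)) = (Scheme.ΓSpecIso _).inv.hom
      (algebraMap (AdjoinRoot f) _ (AdjoinRoot.root f)) := by
    change (Scheme.ΓSpecIso (CommRingCat.of (AdjoinRoot (f.map (algebraMap K (AdjoinRoot f)))))).inv.hom
      (uα : AdjoinRoot (f.map (algebraMap K (AdjoinRoot f)))) = _
    rw [huα]
  have hvβ : (vβ : Γ(W.left, ⊤)) = (Scheme.ΓSpecIso _).inv.hom
      (AdjoinRoot.root (f.map (algebraMap K (AdjoinRoot f)))) := by
    change (Scheme.ΓSpecIso (CommRingCat.of (AdjoinRoot (f.map (algebraMap K (AdjoinRoot f)))))).inv.hom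
      (uβ : AdjoinRoot (f.map (algebraMap K (AdjoinRoot f)))) = _
    rw [huβ]
  obtain ⟨ya, hya⟩ := (factors_iff hf (W := W) (ptOfUnit vα)).mpr (by
      rw [gmFn_ptOfUnit, hvα, hev, hα, map_zero])
  obtain ⟨yb, hyb⟩ := (factors_iff hf (W := W) (ptOfUnit vβ)).mpr (by
      rw [gmFn_ptOfUnit, hvβ, hev, hβ, map_zero])
  have h1 := (factors_iff hf ((ya * yb) ≫ i)).mp ⟨ya * yb, rfl⟩
  have h2 : (ya * yb) ≫ i = (ya ≫ i) * (yb ≫ i) := MonObj.mul_comp ya yb i
  rw [h2, hya, hyb, gmFn_mul, gmFn_ptOfUnit, gmFn_ptOfUnit, hvα, hvβ, ← map_mul, hev] at h1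
  exact (map_eq_zero_iff _ (specOver_inv_injective _)).mp h1

theorem main_Gm [GrpObj H] [IsMonHom i] [Mono i] [IsFinite H.hom] :
    ∃ φ : GmK K ⟶ GmK K, IsMonHom φ ∧ AlgGrp.IsKernel i φ ∧ Flat φ.left ∧ Surjective φ.left := by
  obtain ⟨f, hf⟩ := exists_isGen H i
  have h0 := coeff_zero_ne_zero hf
  have hB := hB_of_isGen hf
  haveI := nontrivial_sections (H := H)
  have hn : 1 ≤ f.natDegree := by
    by_contra h
    have h' : f.natDegree = 0 := by omega
    have h1 := hf.1.natDegree_eq_zero.mp h'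
    have h2 := hf.2.1
    rw [h1, map_one] at h2
    exact one_ne_zero h2
  have hfeq := multiplicative f hf.1 hn h0 hB
  obtain ⟨n, hndef⟩ : ∃ n, n = f.natDegree := ⟨_, rfl⟩
  rw [← hndef] at hfeq hn
  have hev : ∀ {W : Over (Spec (CommRingCat.of K))} (a : Γ(W.left, ⊤)), ev W a f = a ^ n - 1 := by
    intro W a
    rw [hfeq, map_sub, map_pow, ev_X, map_one]
  have hcomm : i ≫ phi n = toUnit H ≫ η[GmK K] := by
    apply eq_of_gmFn_eq
    rw [gmFn_comp_phi]
    have h1 := hf.2.1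
    rw [hev] at h1
    have : toUnit H ≫ η[GmK K] = (1 : H ⟶ GmK K) := (Hom.one_def).symm
    rw [this, gmFn_one]
    exact sub_eq_zero.mp h1
  have hs : ∀ s : PullbackCone (phi n) η[GmK K], ∃ y : s.pt ⟶ H, y ≫ i = s.fst := by
    intro s
    refine (factors_iff hf s.fst).mpr ?_
    rw [hev, ← gmFn_comp_phi, s.condition]
    have : s.snd ≫ η[GmK K] = (1 : s.pt ⟶ GmK K) := by
      rw [Hom.one_def, toUnit_unique s.snd (toUnit s.pt)]
    rw [this, gmFn_one, sub_self]
  refine ⟨phi n, Groth.Agent.Lib.Helper5.TorsorExact.isMonHom_of_points _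
    (fun x y => eq_of_gmFn_eq ?_), ?_, (flat_surjective_phi n hn).1,
    (flat_surjective_phi n hn).2⟩
  · rw [gmFn_comp_phi, gmFn_mul, gmFn_mul, gmFn_comp_phi, gmFn_comp_phi, mul_pow]
  · refine ⟨⟨hcomm⟩, ⟨PullbackCone.IsLimit.mk _ (fun s => (hs s).choose)
      (fun s => (hs s).choose_spec) (fun s => toUnit_unique _ _) ?_⟩⟩
    intro s m hm _
    exact (cancel_mono i).mp (hm.trans (hs s).choose_spec.symm)

end main

end Groth.Agent.Lib.Helper61.FS.Gm
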