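import Groth.Agent.Lib.Helper61.FSAdicBC
import Mathlib.RingTheory.Flat.FaithfullyFlat.Algebra
import Mathlib.Algebra.Module.Projective

/-!
Descent of adic formal smoothness along a base change `A → A'` admitting an `A`-linear retraction
(e.g. `A'` faithfully flat and projective).
-/

set_option autoImplicit false
universe u

namespace Groth.Agent.Lib.Helper61.FSAdic

open TensorProduct

/-- A faithfully flat projective algebra has a linear retraction onto the base. -/
theorem exists_retraction (A A' : Type*) [CommRing A] [CommRing A'] [Algebra A A']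
    [Module.FaithfullyFlat A A'] [Module.Projective A A'] :
    ∃ r : A' →ₗ[A] A, r 1 = 1 := by
  let ev : (A' →ₗ[A] A) →ₗ[A] A := LinearMap.applyₗ (1 : A')
  let T : Ideal A := LinearMap.range ev
  obtain ⟨s, hs⟩ := (Module.projective_def' (R := A) (P := A')).mp inferInstance
  have h1 : (1 : A') ∈ T.map (algebraMap A A') := by
    have h2 : (1 : A') = Finsupp.linearCombination A id (s 1) := by
      have := DFunLike.congr_fun hs 1
      simpa using this.symm
    rw [h2, Finsupp.linearCombination_apply, Finsupp.sum]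
    refine Ideal.sum_mem _ fun p _ => ?_
    rw [id, Algebra.smul_def]
    refine Ideal.mul_mem_right _ _ (Ideal.mem_map_of_mem _ ?_)
    exact ⟨(Finsupp.lapply p) ∘ₗ s, rfl⟩
  have hT : T = ⊤ := by
    rw [← Ideal.comap_map_eq_self_of_faithfullyFlat (B := A') T,
      (Ideal.eq_top_iff_one _).mpr h1, Ideal.comap_top]
  have : (1 : A) ∈ T := by rw [hT]; trivial
  obtain ⟨r, hr⟩ := this
  exact ⟨r, hr⟩

section descent

variable {A B A' : Type u} [CommRing A] [CommRing B] [CommRing A'] [Algebra A B] [Algebra A A']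

/-- The `C`-linear map `A' ⊗ C → C` induced by a linear form on `A'`. -/
noncomputable def retr {C : Type u} [CommRing C] [Algebra A C] (r : A' →ₗ[A] A) :
    A' ⊗[A] C →ₗ[A] C :=
  TensorProduct.lift ((LinearMap.lsmul A C).comp r)

theorem retr_tmul {C : Type u} [CommRing C] [Algebra A C] (r : A' →ₗ[A] A) (a' : A') (c : C) :
    retr r (a' ⊗ₜ[A] c) = r a' • c := rfl

theorem retr_mul_one_tmul {C : Type u} [CommRing C] [Algebra A C] (r : A' →ₗ[A] A)
    (t : A' ⊗[A] C) (c : C) : retr r (t * ((1 : A') ⊗ₜ[A] c)) = retr r t * c := by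
  induction t using TensorProduct.induction_on with
  | zero => simp
  | tmul a' c₀ =>
    rw [Algebra.TensorProduct.tmul_mul_tmul, mul_one, retr_tmul, retr_tmul, smul_mul_assoc]
  | add x y hx hy => rw [add_mul, map_add, hx, hy, map_add, add_mul]

theorem retr_mem {C : Type u} [CommRing C] [Algebra A C] (r : A' →ₗ[A] A) (J : Ideal C)
    {t : A' ⊗[A] C}
    (ht : t ∈ J.map (Algebra.TensorProduct.includeRight : C →ₐ[A] A' ⊗[A] C).toRingHom) :
    retr r t ∈ J := by
  have key : ∀ s : A' ⊗[A] C, retr r (s * t) ∈ J := by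
    unfold Ideal.map at ht
    induction ht using Submodule.span_induction with
    | mem x hx =>
      obtain ⟨j, hj, rfl⟩ := hx
      intro s
      change retr r (s * ((1 : A') ⊗ₜ[A] j)) ∈ J
      rw [retr_mul_one_tmul]
      exact J.mul_mem_left _ hj
    | zero => intro s; simp
    | add x y _ _ hx hy =>
      intro s
      rw [mul_add, map_add]
      exact J.add_mem (hx s) (hy s)
    | smul a x _ hx =>
      intro s
      rw [smul_eq_mul, ← mul_assoc]
      exact hx (s * a)
  simpa using key 1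

/-- Descent of adic formal smoothness along `A → A'` with an `A`-linear retraction. -/
theorem lifts_of_baseChange (𝔞 : Ideal A) (𝔟 : Ideal B) (r : A' →ₗ[A] A) (hr : r 1 = 1)
    (hB' : Lifts (𝔞.map (algebraMap A A')) (algebraMap A' (A' ⊗[A] B))
      ((𝔞.map (algebraMap A A')).map (algebraMap A' (A' ⊗[A] B)) ⊔
        𝔟.map (Algebra.TensorProduct.includeRight : B →ₐ[A] A' ⊗[A] B).toRingHom)) :
    Lifts 𝔞 (algebraMap A B) 𝔟 := by
  apply lifts_of_liftsSq
  intro C _ J hJ2 φ hφ u hu hcont
  obtain ⟨k, hk⟩ := hφ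
  obtain ⟨m, hm⟩ := hcont
  let _ : Algebra A C := φ.toAlgebra
  let incl : B →+* A' ⊗[A] B :=
    (Algebra.TensorProduct.includeRight : B →ₐ[A] A' ⊗[A] B).toRingHom
  let ιC : C →+* A' ⊗[A] C :=
    (Algebra.TensorProduct.includeRight : C →ₐ[A] A' ⊗[A] C).toRingHom
  let J' : Ideal (A' ⊗[A] C) := J.map ιC
  have hJ'2 : J' ^ 2 = ⊥ := by
    rw [← Ideal.map_pow, hJ2, Ideal.map_bot]
  let φ' : A' →+* A' ⊗[A] C := algebraMap A' (A' ⊗[A] C)
  have hφ'φ : ∀ a : A, φ' (algebraMap A A' a) = ιC (φ a) := by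
    intro a
    change (algebraMap A A' a) ⊗ₜ[A] (1 : C) = (1 : A') ⊗ₜ[A] (algebraMap A C a)
    rw [Algebra.algebraMap_eq_smul_one, Algebra.algebraMap_eq_smul_one, TensorProduct.smul_tmul]
  have hinclalg : ∀ a : A, incl (algebraMap A B a) =
      algebraMap A' (A' ⊗[A] B) (algebraMap A A' a) := by
    intro a
    change (1 : A') ⊗ₜ[A] (algebraMap A B a) = (algebraMap A A' a) ⊗ₜ[A] (1 : B)
    rw [Algebra.algebraMap_eq_smul_one, Algebra.algebraMap_eq_smul_one, TensorProduct.smul_tmul]
  have hφ'k : ((𝔞.map (algebraMap A A')) ^ k).map φ' = ⊥ := by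
    rw [← Ideal.map_pow, Ideal.map_map, eq_bot_iff, Ideal.map_le_iff_le_comap]
    intro a ha
    rw [Ideal.mem_comap, Ideal.mem_bot, RingHom.comp_apply, hφ'φ]
    have : φ a ∈ (𝔞 ^ k).map φ := Ideal.mem_map_of_mem _ ha
    rw [hk, Ideal.mem_bot] at this
    rw [this, map_zero]
  -- the base-changed test map
  let q : C ⧸ J →+* (A' ⊗[A] C) ⧸ J' := Ideal.quotientMap J' ιC Ideal.le_comap_map
  have hq : ∀ c, q (Ideal.Quotient.mk J c) = Ideal.Quotient.mk J' (ιC c) := fun c => rfl
  let ubar : B →ₐ[A] (A' ⊗[A] C) ⧸ J' :=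
    { q.comp u with
      commutes' := fun a => by
        have h1 := DFunLike.congr_fun hu a
        simp only [RingHom.comp_apply] at h1
        change q (u (algebraMap A B a)) = Ideal.Quotient.mk J' (algebraMap A (A' ⊗[A] C) a)
        rw [h1, hq, ← hφ'φ]
        rfl }
  have hubar : ∀ b, ubar b = q (u b) := fun b => rfl
  let u' : A' ⊗[A] B →ₐ[A'] (A' ⊗[A] C) ⧸ J' :=
    Algebra.TensorProduct.lift (Algebra.ofId A' _) ubar (fun _ _ => Commute.all _ _)
  have hu'incl : ∀ b, u' (incl b) = q (u b) := by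
    intro b
    change u' ((1 : A') ⊗ₜ[A] b) = _
    rw [Algebra.TensorProduct.lift_tmul, map_one, one_mul, hubar]
  have hu'alg : ∀ a' : A', u' (algebraMap A' (A' ⊗[A] B) a') = Ideal.Quotient.mk J' (φ' a') :=
    fun a' => u'.commutes a'
  have hcont' : ∃ K : ℕ, ∀ x ∈ ((𝔞.map (algebraMap A A')).map (algebraMap A' (A' ⊗[A] B)) ⊔
      𝔟.map incl) ^ K, u'.toRingHom x = 0 := by
    refine ⟨k + m, fun x hx => ?_⟩
    have h1 : ((𝔞.map (algebraMap A A')).map (algebraMap A' (A' ⊗[A] B))) ^ k ⊔ (𝔟.map incl) ^ m ≤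
        RingHom.ker u'.toRingHom := by
      refine sup_le ?_ ?_
      · rw [← Ideal.map_pow, Ideal.map_le_iff_le_comap]
        intro a' ha'
        rw [Ideal.mem_comap, RingHom.mem_ker]
        change u' (algebraMap A' (A' ⊗[A] B) a') = 0
        rw [hu'alg]
        have : φ' a' ∈ ((𝔞.map (algebraMap A A')) ^ k).map φ' := Ideal.mem_map_of_mem _ ha'
        rw [hφ'k, Ideal.mem_bot] at this
        rw [this, map_zero]
      · rw [← Ideal.map_pow, Ideal.map_le_iff_le_comap]
        intro b hb
        rw [Ideal.mem_comap, RingHom.mem_ker]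
        change u' (incl b) = 0
        rw [hu'incl, hm b hb, map_zero]
    exact h1 (Ideal.sup_pow_add_le_pow_sup_pow hx)
  obtain ⟨v', hv'1, hv'2⟩ := hB' (A' ⊗[A] C) J' ⟨2, hJ'2⟩ φ' ⟨k, hφ'k⟩ u'.toRingHom
    (by
      refine RingHom.ext fun a' => ?_
      exact hu'alg a') hcont'
  -- choose set-theoretic lifts of `u`
  let w : B → C := fun b => Classical.choose (Ideal.Quotient.mk_surjective (u b))
  have hw : ∀ b, Ideal.Quotient.mk J (w b) = u b := fun b =>
    Classical.choose_spec (Ideal.Quotient.mk_surjective (u b))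
  let d : B → A' ⊗[A] C := fun b => v' (incl b) - ιC (w b)
  have hd : ∀ b, d b ∈ J' := by
    intro b
    rw [← Ideal.Quotient.eq]
    have h1 := DFunLike.congr_fun hv'2 (incl b)
    simp only [RingHom.comp_apply] at h1
    rw [h1]
    change u' (incl b) = _
    rw [hu'incl, ← hw, hq]
  have hv'd : ∀ b, v' (incl b) = ιC (w b) + d b := fun b => by simp [d]
  let R : A' ⊗[A] C →ₗ[A] C := retr r
  have hRι : ∀ c, R (ιC c) = c := by
    intro c
    change retr r ((1 : A') ⊗ₜ[A] c) = c
    rw [retr_tmul, hr, one_smul]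
  have hRmul : ∀ t c, R (t * ιC c) = R t * c := fun t c => retr_mul_one_tmul r t c
  have hRJ : ∀ t ∈ J', R t ∈ J := fun t ht => retr_mem r J ht
  have hJJ : ∀ x ∈ J, ∀ y ∈ J, x * y = 0 := by
    intro x hx y hy
    have : x * y ∈ J ^ 2 := by
      rw [pow_two]
      exact Ideal.mul_mem_mul hx hy
    rwa [hJ2, Ideal.mem_bot] at this
  have hJ'J' : ∀ x ∈ J', ∀ y ∈ J', x * y = 0 := by
    intro x hx y hy
    have : x * y ∈ J' ^ 2 := by
      rw [pow_two]
      exact Ideal.mul_mem_mul hx hy
    rwa [hJ'2, Ideal.mem_bot] at this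
  have hvval : ∀ b, R (v' (incl b)) = w b + R (d b) := by
    intro b
    rw [hv'd, map_add, hRι]
  let v : B →+* C :=
    { toFun := fun b => R (v' (incl b))
      map_one' := by
        rw [map_one, map_one]
        change retr r ((1 : A') ⊗ₜ[A] (1 : C)) = 1
        rw [retr_tmul, hr, one_smul]
      map_mul' := fun x y => by
        have h1 : v' (incl (x * y)) = ιC (w x * w y) + d y * ιC (w x) + d x * ιC (w y) := by
          rw [map_mul, map_mul, hv'd x, hv'd y, map_mul]
          have := hJ'J' _ (hd x) _ (hd y)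
          linear_combination this
        rw [h1, map_add, map_add, hRι, hRmul, hRmul, hvval, hvval]
        have := hJJ _ (hRJ _ (hd x)) _ (hRJ _ (hd y))
        linear_combination -this
      map_zero' := by rw [map_zero, map_zero, map_zero]
      map_add' := fun x y => by rw [map_add, map_add, map_add] }
  have hv : ∀ b, v b = R (v' (incl b)) := fun b => rfl
  refine ⟨v, ?_, ?_⟩
  · refine RingHom.ext fun a => ?_
    rw [RingHom.comp_apply, hv, hinclalg]
    have h1 := DFunLike.congr_fun hv'1 (algebraMap A A' a)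
    simp only [RingHom.comp_apply] at h1
    rw [h1, hφ'φ, hRι]
  · refine RingHom.ext fun b => ?_
    rw [RingHom.comp_apply, hv, hvval, map_add, hw,
      Ideal.Quotient.eq_zero_iff_mem.mpr (hRJ _ (hd b)), add_zero]

end descent

end Groth.Agent.Lib.Helper61.FSAdic
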