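import Groth.Agent.Lib.Helper61.FSAdicComplete

/-!
Adic formal smoothness of a formally projective algebra can be tested modulo the ideal of
definition of the base (EGA 0_IV 19.7.1), ring-homomorphism form.
-/

set_option autoImplicit false
universe u

namespace Groth.Agent.Lib.Helper61.FSAdic

open Ideal.Quotient

section helpers

variable {C : Type*} [CommRing C]

theorem ker_factor_le {I J : Ideal C} (H : I ≤ J) :
    RingHom.ker (factor H) ≤ J.map (Ideal.Quotient.mk I) := by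
  intro x hx
  obtain ⟨c, rfl⟩ := Ideal.Quotient.mk_surjective x
  rw [RingHom.mem_ker, factor_mk, Ideal.Quotient.eq_zero_iff_mem] at hx
  exact Ideal.mem_map_of_mem _ hx

/-- Two ideals with trivial intersection: a pair of compatible maps into the quotients glues to a
map into the ring. -/
theorem exists_ringHom_of_inf_eq_bot {B : Type*} [CommRing B] (I₁ I₂ : Ideal C)
    (hbot : I₁ ⊓ I₂ = ⊥)
    (f₁ : B →+* C ⧸ I₁) (f₂ : B →+* C ⧸ I₂)
    (hcompat : (factor (le_sup_left : I₁ ≤ I₁ ⊔ I₂)).comp f₁ =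
      (factor (le_sup_right : I₂ ≤ I₁ ⊔ I₂)).comp f₂) :
    ∃ F : B →+* C, (Ideal.Quotient.mk I₁).comp F = f₁ ∧ (Ideal.Quotient.mk I₂).comp F = f₂ := by
  obtain ⟨F₀, h1, h2⟩ := exists_ringHom_quotient_inf I₁ I₂ f₁ f₂ hcompat
  let ε : C ⧸ (I₁ ⊓ I₂) ≃+* C := (Ideal.quotEquivOfEq hbot).trans (RingEquiv.quotientBot C)
  have hε : ∀ y : C ⧸ (I₁ ⊓ I₂), Ideal.Quotient.mk (I₁ ⊓ I₂) (ε y) = y := by
    intro y
    obtain ⟨c, rfl⟩ := Ideal.Quotient.mk_surjective y
    rfl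
  refine ⟨(ε : _ →+* C).comp F₀, ?_, ?_⟩
  · rw [← h1]
    ext b
    simp only [RingHom.comp_apply, RingHom.coe_coe]
    conv_rhs => rw [← hε (F₀ b)]
    rw [factor_mk]
  · rw [← h2]
    ext b
    simp only [RingHom.comp_apply, RingHom.coe_coe]
    conv_rhs => rw [← hε (F₀ b)]
    rw [factor_mk]

/-- The filtration `J ⊇ I J ⊇ I (I J) ⊇ …`. -/
def filt (I J : Ideal C) : ℕ → Ideal C
  | 0 => J
  | (j + 1) => I * filt I J j

end helpers

variable {A B : Type u} [CommRing A] [CommRing B]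

/-- If `p ∘ v` kills `𝔟 ^ k` and `(ker p) ^ n = ⊥` then `v` kills `𝔟 ^ (k * n)`. -/
theorem kills_of_comp_kills {D E : Type*} [CommRing D] [CommRing E] (p : D →+* E) {n : ℕ}
    (hker : RingHom.ker p ^ n = ⊥) {𝔟 : Ideal B} (v : B →+* D) {k : ℕ}
    (hk : ∀ x ∈ 𝔟 ^ k, p (v x) = 0) : ∀ x ∈ 𝔟 ^ (k * n), v x = 0 := by
  intro x hx
  have h1 : (𝔟 ^ k).map v ≤ RingHom.ker p := by
    rw [Ideal.map_le_iff_le_comap]
    intro y hy
    rw [Ideal.mem_comap, RingHom.mem_ker]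
    exact hk y hy
  have h2 : (𝔟 ^ (k * n)).map v ≤ ⊥ := by
    rw [pow_mul, Ideal.map_pow, ← hker]
    exact Ideal.pow_right_mono h1 n
  exact Ideal.mem_bot.mp (h2 (Ideal.mem_map_of_mem v hx))

/-- Lifting along surjections whose kernel is of square zero and killed by `𝔞`. -/
def LiftsSq0 (𝔞 : Ideal A) (f : A →+* B) (𝔟 : Ideal B) : Prop :=
  ∀ (D E : Type u) [CommRing D] [CommRing E] (p : D →+* E), Function.Surjective p →
    RingHom.ker p ^ 2 = ⊥ → ∀ φ : A →+* D, (∃ k : ℕ, (𝔞 ^ k).map φ = ⊥) →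
      𝔞.map φ * RingHom.ker p = ⊥ → ∀ u : B →+* E, u.comp f = p.comp φ →
        (∃ k : ℕ, ∀ x ∈ 𝔟 ^ k, u x = 0) → ∃ v : B →+* D, v.comp f = φ ∧ p.comp v = u

theorem liftsSq_of_liftsSq0 {𝔞 : Ideal A} {f : A →+* B} {𝔟 : Ideal B} (h : LiftsSq0 𝔞 f 𝔟) :
    LiftsSq 𝔞 f 𝔟 := by
  intro E _ J hJ2 φ hφ u hu hcont
  obtain ⟨k, hk⟩ := hφ
  set N : ℕ → Ideal E := filt (𝔞.map φ) J with hN
  have hN0 : N 0 = J := rfl
  have hNs : ∀ j, N (j + 1) = 𝔞.map φ * N j := fun j => rfl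
  have hNJ : ∀ j, N j ≤ J := by
    intro j
    induction j with
    | zero => exact le_rfl
    | succ j ih => rw [hNs]; exact Ideal.mul_le_right.trans ih
  have hNpow : ∀ j, N j ≤ (𝔞.map φ) ^ j := by
    intro j
    induction j with
    | zero => simp
    | succ j ih =>
      rw [hNs, pow_succ']
      exact Ideal.mul_mono_right ih
  have hNk : N k = ⊥ := by
    rw [eq_bot_iff]
    calc N k ≤ (𝔞.map φ) ^ k := hNpow k
      _ = (𝔞 ^ k).map φ := (Ideal.map_pow _ _ _).symm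
      _ = ⊥ := hk
  have hNle : ∀ j, N (j + 1) ≤ N j := by
    intro j
    rw [hNs]
    exact Ideal.mul_le_right
  have key : ∀ j, ∃ uj : B →+* E ⧸ N j, uj.comp f = (Ideal.Quotient.mk (N j)).comp φ ∧
      (factor (hNJ j)).comp uj = u ∧ ∃ m : ℕ, ∀ x ∈ 𝔟 ^ m, uj x = 0 := by
    intro j
    induction j with
    | zero =>
      refine ⟨u, hu, ?_, hcont⟩
      ext b
      rw [RingHom.comp_apply]
      generalize u b = y
      obtain ⟨c, rfl⟩ := Ideal.Quotient.mk_surjective y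
      rfl
    | succ j ih =>
      obtain ⟨uj, huj1, huj2, m, hm⟩ := ih
      let p : E ⧸ N (j + 1) →+* E ⧸ N j := factor (hNle j)
      have hkerle : RingHom.ker p ≤ (N j).map (Ideal.Quotient.mk (N (j + 1))) :=
        ker_factor_le (hNle j)
      have hker2 : RingHom.ker p ^ 2 = ⊥ := by
        rw [eq_bot_iff]
        calc RingHom.ker p ^ 2 ≤ ((N j).map (Ideal.Quotient.mk (N (j + 1)))) ^ 2 :=
              Ideal.pow_right_mono hkerle 2
          _ = ((N j) ^ 2).map (Ideal.Quotient.mk (N (j + 1))) := (Ideal.map_pow _ _ _).symm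
          _ ≤ (J ^ 2).map (Ideal.Quotient.mk (N (j + 1))) :=
              Ideal.map_mono (Ideal.pow_right_mono (hNJ j) 2)
          _ = ⊥ := by rw [hJ2, Ideal.map_bot]
      have hkill : 𝔞.map ((Ideal.Quotient.mk (N (j + 1))).comp φ) * RingHom.ker p = ⊥ := by
        rw [eq_bot_iff, ← Ideal.map_map]
        calc (𝔞.map φ).map (Ideal.Quotient.mk (N (j + 1))) * RingHom.ker p
            ≤ (𝔞.map φ).map (Ideal.Quotient.mk (N (j + 1))) *
                (N j).map (Ideal.Quotient.mk (N (j + 1))) := Ideal.mul_mono_right hkerle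
          _ = (𝔞.map φ * N j).map (Ideal.Quotient.mk (N (j + 1))) := (Ideal.map_mul _ _ _).symm
          _ = ⊥ := by rw [← hNs, Ideal.map_quotient_self]
      obtain ⟨v, hv1, hv2⟩ := h (E ⧸ N (j + 1)) (E ⧸ N j) p (factor_surjective _) hker2
        ((Ideal.Quotient.mk (N (j + 1))).comp φ)
        ⟨k, by rw [← Ideal.map_map, hk, Ideal.map_bot]⟩ hkill uj
        (by
          rw [huj1, ← RingHom.comp_assoc]
          simp only [p, factor_comp_mk])
        ⟨m, hm⟩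
      refine ⟨v, hv1, ?_, m * 2, ?_⟩
      · rw [← huj2, ← hv2, ← RingHom.comp_assoc]
        simp only [p, factor_comp]
      · apply kills_of_comp_kills p hker2 v
        intro x hx
        have := DFunLike.congr_fun hv2 x
        simp only [RingHom.comp_apply] at this
        rw [this]
        exact hm x hx
  obtain ⟨uk, huk1, huk2, -⟩ := key k
  let ε : E ⧸ N k ≃+* E := (Ideal.quotEquivOfEq hNk).trans (RingEquiv.quotientBot E)
  have hε : ∀ y : E ⧸ N k, Ideal.Quotient.mk (N k) (ε y) = y := by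
    intro y
    obtain ⟨c, rfl⟩ := Ideal.Quotient.mk_surjective y
    rfl
  refine ⟨(ε : _ →+* E).comp uk, ?_, ?_⟩
  · ext a
    have := DFunLike.congr_fun huk1 a
    simp only [RingHom.comp_apply, RingHom.coe_coe] at this ⊢
    rw [this]
    rfl
  · rw [← huk2]
    ext b
    simp only [RingHom.comp_apply, RingHom.coe_coe]
    conv_rhs => rw [← hε (uk b)]
    rw [factor_mk]

section pull

variable {D E Bm : Type*} [CommRing D] [CommRing E] [CommRing Bm] (p : D →+* E) (q : Bm →+* E)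

/-- The fibre product `D ×_E Bm` as a subring of the product. -/
def Pull : Subring (D × Bm) :=
  (p.comp (RingHom.fst D Bm)).eqLocus (q.comp (RingHom.snd D Bm))

/-- First projection. -/
def Pull.pr₁ : Pull p q →+* D := (RingHom.fst D Bm).comp (Pull p q).subtype

/-- Second projection. -/
def Pull.pr₂ : Pull p q →+* Bm := (RingHom.snd D Bm).comp (Pull p q).subtype

theorem Pull.comm (e : Pull p q) : p (Pull.pr₁ p q e) = q (Pull.pr₂ p q e) := e.2

theorem Pull.ext {x y : Pull p q} (h1 : Pull.pr₁ p q x = Pull.pr₁ p q y)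
    (h2 : Pull.pr₂ p q x = Pull.pr₂ p q y) : x = y :=
  Subtype.ext (Prod.ext h1 h2)

theorem Pull.pr₂_surjective (hp : Function.Surjective p) :
    Function.Surjective (Pull.pr₂ p q) := fun c => by
  obtain ⟨d, hd⟩ := hp (q c)
  exact ⟨⟨(d, c), hd⟩, rfl⟩

theorem Pull.pr₁_mem_ker {x : Pull p q} (hx : x ∈ RingHom.ker (Pull.pr₂ p q)) :
    Pull.pr₁ p q x ∈ RingHom.ker p := by
  rw [RingHom.mem_ker] at hx ⊢
  rw [Pull.comm, hx, map_zero]

theorem Pull.ker_pr₂_sq (h : RingHom.ker p ^ 2 = ⊥) :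
    RingHom.ker (Pull.pr₂ p q) ^ 2 = ⊥ := by
  rw [eq_bot_iff, pow_two, Ideal.mul_le]
  intro x hx y hy
  rw [Ideal.mem_bot]
  apply Pull.ext
  · rw [map_mul, map_zero]
    have : Pull.pr₁ p q x * Pull.pr₁ p q y ∈ RingHom.ker p ^ 2 := by
      rw [pow_two]
      exact Ideal.mul_mem_mul (Pull.pr₁_mem_ker p q hx) (Pull.pr₁_mem_ker p q hy)
    rwa [h, Ideal.mem_bot] at this
  · rw [map_mul, map_zero, RingHom.mem_ker.mp hx, zero_mul]

/-- The map into the fibre product defined by a compatible pair. -/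
def Pull.lift {A : Type*} [CommRing A] (φ : A →+* D) (ψ : A →+* Bm)
    (h : p.comp φ = q.comp ψ) : A →+* Pull p q :=
  (φ.prod ψ).codRestrict _ (fun a => DFunLike.congr_fun h a)

@[simp] theorem Pull.pr₁_lift {A : Type*} [CommRing A] (φ : A →+* D) (ψ : A →+* Bm)
    (h : p.comp φ = q.comp ψ) (a : A) : Pull.pr₁ p q (Pull.lift p q φ ψ h a) = φ a := rfl

@[simp] theorem Pull.pr₂_lift {A : Type*} [CommRing A] (φ : A →+* D) (ψ : A →+* Bm)
    (h : p.comp φ = q.comp ψ) (a : A) : Pull.pr₂ p q (Pull.lift p q φ ψ h a) = ψ a := rfl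

end pull

/-- Formal projectivity of the topological `A`-module `B` (the form used in the statements). -/
def FormallyProjective (A B : Type u) [CommRing A] [CommRing B] [Algebra A B]
    (𝔞 : Ideal A) (𝔟 : Ideal B) : Prop :=
  ∀ (n : ℕ) (P Q : Type u) [AddCommGroup P] [Module A P] [AddCommGroup Q] [Module A Q],
    (∀ a ∈ 𝔞 ^ n, ∀ y : P, a • y = 0) → (∀ a ∈ 𝔞 ^ n, ∀ y : Q, a • y = 0) →
    ∀ f : P →ₗ[A] Q, Function.Surjective f → ∀ v : B →ₗ[A] Q, (∃ m : ℕ, ∀ x ∈ 𝔟 ^ m, v x = 0) →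
      ∃ w : B →ₗ[A] P, (∃ m : ℕ, ∀ x ∈ 𝔟 ^ m, w x = 0) ∧ f ∘ₗ w = v

theorem liftsSq0_of_formallyProjective [Algebra A B] (𝔞 : Ideal A) (𝔟 : Ideal B)
    (hproj : FormallyProjective A B 𝔞 𝔟)
    (h₀ : Lifts (⊥ : Ideal (A ⧸ 𝔞))
      (algebraMap (A ⧸ 𝔞) (B ⧸ 𝔞.map (algebraMap A B)))
      (𝔟.map (Ideal.Quotient.mk (𝔞.map (algebraMap A B))))) :
    LiftsSq0 𝔞 (algebraMap A B) 𝔟 := by
  intro D E _ _ p hp hker2 φ hφ hkill u hu hcont
  obtain ⟨k, hk⟩ := hφ
  obtain ⟨m, hm⟩ := hcont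
  have hφ0 : ∀ a ∈ 𝔞 ^ k, φ a = 0 := by
    intro a ha
    have : φ a ∈ (𝔞 ^ k).map φ := Ideal.mem_map_of_mem _ ha
    rwa [hk, Ideal.mem_bot] at this
  have hualg : ∀ a, u (algebraMap A B a) = p (φ a) := fun a => DFunLike.congr_fun hu a
  -- (i) the linear lift
  letI : Module A D := Module.compHom D φ
  letI : Module A E := Module.compHom E (p.comp φ)
  have hsmulD : ∀ (a : A) (d : D), a • d = φ a * d := fun a d => rfl
  have hsmulE : ∀ (a : A) (e : E), a • e = p (φ a) * e := fun a e => rfl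
  let pₗ : D →ₗ[A] E :=
    { toFun := p
      map_add' := map_add p
      map_smul' := fun a d => by
        rw [hsmulD, map_mul]
        rfl }
  let uₗ : B →ₗ[A] E :=
    { toFun := u
      map_add' := map_add u
      map_smul' := fun a b => by
        rw [Algebra.smul_def, map_mul, hualg]
        rfl }
  obtain ⟨w, ⟨m₁, hm₁⟩, hw⟩ := hproj k D E
    (fun a ha y => by rw [hsmulD, hφ0 a ha, zero_mul])
    (fun a ha y => by rw [hsmulE, hφ0 a ha, map_zero, zero_mul]) pₗ hp uₗ ⟨m, hm⟩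
  have hpw : ∀ b, p (w b) = u b := fun b => DFunLike.congr_fun hw b
  have hwsmul : ∀ (a : A) (b : B), w (algebraMap A B a * b) = φ a * w b := by
    intro a b
    rw [← Algebra.smul_def, map_smul, hsmulD]
  -- (ii) the discrete quotient of `B`
  let M := m + m₁
  have hMm : 𝔟 ^ M ≤ 𝔟 ^ m := Ideal.pow_le_pow_right (Nat.le_add_right _ _)
  have hMm₁ : 𝔟 ^ M ≤ 𝔟 ^ m₁ := Ideal.pow_le_pow_right (Nat.le_add_left _ _)
  let ubar : B ⧸ 𝔟 ^ M →+* E := Ideal.Quotient.lift (𝔟 ^ M) u (fun x hx => hm x (hMm hx))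
  have hubar : ∀ b, ubar (Ideal.Quotient.mk _ b) = u b := fun b => rfl
  let wq : B ⧸ 𝔟 ^ M → D := fun c => w (Classical.choose (Ideal.Quotient.mk_surjective c))
  have hwq : ∀ b, wq (Ideal.Quotient.mk _ b) = w b := by
    intro b
    have h1 := Classical.choose_spec (Ideal.Quotient.mk_surjective (Ideal.Quotient.mk (𝔟 ^ M) b))
    rw [Ideal.Quotient.eq] at h1
    have h2 := hm₁ _ (hMm₁ h1)
    rw [map_sub, sub_eq_zero] at h2
    exact h2
  -- (iii) the fibre product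
  let φ₁ : A →+* Pull p ubar := Pull.lift p ubar φ
    ((Ideal.Quotient.mk (𝔟 ^ M)).comp (algebraMap A B)) (by
      ext a
      simp only [RingHom.comp_apply]
      rw [hubar, hualg])
  let I₁ : Ideal (Pull p ubar) := 𝔞.map φ₁
  let N₁ : Ideal (Pull p ubar) := RingHom.ker (Pull.pr₂ p ubar)
  have hN₁sq : N₁ ^ 2 = ⊥ := Pull.ker_pr₂_sq p ubar hker2
  have hpr₂surj : Function.Surjective (Pull.pr₂ p ubar) := Pull.pr₂_surjective p ubar hp
  -- (iv) `I₁ ⊓ N₁ = ⊥`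
  let ρ : Pull p ubar → D := fun e => Pull.pr₁ p ubar e - wq (Pull.pr₂ p ubar e)
  have hρadd : ∀ x y, ρ (x + y) = ρ x + ρ y := by
    intro x y
    obtain ⟨b, hb⟩ := Ideal.Quotient.mk_surjective (Pull.pr₂ p ubar x)
    obtain ⟨b', hb'⟩ := Ideal.Quotient.mk_surjective (Pull.pr₂ p ubar y)
    simp only [ρ]
    rw [map_add, map_add, ← hb, ← hb',
      show Ideal.Quotient.mk (𝔟 ^ M) b + Ideal.Quotient.mk (𝔟 ^ M) b' =
        Ideal.Quotient.mk (𝔟 ^ M) (b + b') from (map_add _ _ _).symm,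
      hwq, hwq, hwq, map_add]
    ring
  have hρmem : ∀ x, ρ x ∈ RingHom.ker p := by
    intro x
    obtain ⟨b, hb⟩ := Ideal.Quotient.mk_surjective (Pull.pr₂ p ubar x)
    simp only [ρ]
    rw [RingHom.mem_ker, map_sub, Pull.comm, ← hb, hwq, hpw, hubar, sub_self]
  have hρsmul : ∀ (a : A) (x : Pull p ubar), ρ (φ₁ a * x) = φ a * ρ x := by
    intro a x
    obtain ⟨b, hb⟩ := Ideal.Quotient.mk_surjective (Pull.pr₂ p ubar x)
    simp only [ρ]
    rw [map_mul, map_mul, ← hb]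
    simp only [φ₁, Pull.pr₁_lift, Pull.pr₂_lift, RingHom.comp_apply]
    rw [← map_mul, hwq, hwq, hwsmul]
    ring
  have hρzero : ρ 0 = 0 := by
    have := hρadd 0 0
    rw [add_zero] at this
    exact left_eq_add.mp this
  let T : Ideal (Pull p ubar) :=
    { carrier := {x | ∀ e : Pull p ubar, ρ (e * x) = 0}
      add_mem' := fun {x y} hx hy e => by rw [mul_add, hρadd, hx e, hy e, add_zero]
      zero_mem' := fun e => by rw [mul_zero, hρzero]
      smul_mem' := fun c x hx e => by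
        rw [smul_eq_mul, ← mul_assoc]
        exact hx (e * c) }
  have hI₁T : I₁ ≤ T := by
    rw [Ideal.map_le_iff_le_comap]
    intro a ha
    rw [Ideal.mem_comap]
    intro e
    rw [mul_comm, hρsmul]
    have : φ a * ρ e ∈ 𝔞.map φ * RingHom.ker p :=
      Ideal.mul_mem_mul (Ideal.mem_map_of_mem _ ha) (hρmem e)
    rwa [hkill, Ideal.mem_bot] at this
  have hbot : I₁ ⊓ N₁ = ⊥ := by
    rw [eq_bot_iff]
    rintro x ⟨hx1, hx2⟩
    rw [Ideal.mem_bot]
    have h1 := hI₁T hx1 1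
    rw [one_mul] at h1
    have h2 : Pull.pr₂ p ubar x = 0 := hx2
    simp only [ρ] at h1
    rw [h2, ← map_zero (Ideal.Quotient.mk (𝔟 ^ M)), hwq, map_zero, sub_zero] at h1
    exact Pull.ext p ubar (by rw [h1, map_zero]) (by rw [h2, map_zero])
  -- (v) the lift modulo `𝔞`
  let e : Pull p ubar ⧸ N₁ ≃+* B ⧸ 𝔟 ^ M := RingHom.quotientKerEquivOfSurjective hpr₂surj
  let g₂ : B →+* Pull p ubar ⧸ N₁ := (e.symm : _ →+* _).comp (Ideal.Quotient.mk (𝔟 ^ M))
  have he : ∀ x : Pull p ubar, e (Ideal.Quotient.mk N₁ x) = Pull.pr₂ p ubar x := fun x =>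
    RingHom.quotientKerEquivOfSurjective_apply_mk hpr₂surj x
  have hg₂ : ∀ b, e (g₂ b) = Ideal.Quotient.mk (𝔟 ^ M) b := fun b => e.apply_symm_apply _
  have hg₂alg : ∀ a, g₂ (algebraMap A B a) = Ideal.Quotient.mk N₁ (φ₁ a) := by
    intro a
    apply e.injective
    rw [hg₂, he]
    rfl
  let pbar : Pull p ubar ⧸ I₁ →+* Pull p ubar ⧸ (I₁ ⊔ N₁) := factor le_sup_left
  let g₃ : B →+* Pull p ubar ⧸ (I₁ ⊔ N₁) := (factor (le_sup_right : N₁ ≤ I₁ ⊔ N₁)).comp g₂
  have hg₃kill : ∀ x ∈ 𝔞.map (algebraMap A B), g₃ x = 0 := by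
    intro x hx
    have h1 : 𝔞.map (algebraMap A B) ≤ RingHom.ker g₃ := by
      rw [Ideal.map_le_iff_le_comap]
      intro a ha
      rw [Ideal.mem_comap, RingHom.mem_ker]
      simp only [g₃, RingHom.comp_apply]
      rw [hg₂alg, factor_mk, Ideal.Quotient.eq_zero_iff_mem]
      exact Ideal.mem_sup_left (Ideal.mem_map_of_mem _ ha)
    exact h1 hx
  let u₀ : B ⧸ 𝔞.map (algebraMap A B) →+* Pull p ubar ⧸ (I₁ ⊔ N₁) :=
    Ideal.Quotient.lift _ g₃ hg₃kill
  have hφ₁kill : ∀ a ∈ 𝔞, ((Ideal.Quotient.mk I₁).comp φ₁) a = 0 := by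
    intro a ha
    rw [RingHom.comp_apply, Ideal.Quotient.eq_zero_iff_mem]
    exact Ideal.mem_map_of_mem _ ha
  let φbar : A ⧸ 𝔞 →+* Pull p ubar ⧸ I₁ :=
    Ideal.Quotient.lift 𝔞 ((Ideal.Quotient.mk I₁).comp φ₁) hφ₁kill
  have hpbarker : IsNilpotent (RingHom.ker pbar) := by
    refine ⟨2, ?_⟩
    rw [Ideal.zero_eq_bot, eq_bot_iff]
    calc RingHom.ker pbar ^ 2 ≤ ((I₁ ⊔ N₁).map (Ideal.Quotient.mk I₁)) ^ 2 :=
          Ideal.pow_right_mono (ker_factor_le _) 2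
      _ = ((I₁ ⊔ N₁) ^ 2).map (Ideal.Quotient.mk I₁) := (Ideal.map_pow _ _ _).symm
      _ ≤ (N₁ ^ 2 ⊔ I₁).map (Ideal.Quotient.mk I₁) := by
          apply Ideal.map_mono
          rw [sup_comm]
          exact sup_pow_le N₁ I₁ 2
      _ = ⊥ := by
          rw [hN₁sq, bot_sup_eq, Ideal.map_quotient_self]
  have hcompat₀ : u₀.comp (algebraMap (A ⧸ 𝔞) (B ⧸ 𝔞.map (algebraMap A B))) =
      pbar.comp φbar := by
    refine RingHom.ext fun x => ?_
    obtain ⟨a, rfl⟩ := Ideal.Quotient.mk_surjective x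
    have h1 : u₀ (algebraMap (A ⧸ 𝔞) (B ⧸ 𝔞.map (algebraMap A B)) (Ideal.Quotient.mk 𝔞 a)) =
        g₃ (algebraMap A B a) := rfl
    have h2 : φbar (Ideal.Quotient.mk 𝔞 a) = Ideal.Quotient.mk I₁ (φ₁ a) := rfl
    rw [RingHom.comp_apply, RingHom.comp_apply, h1, h2]
    simp only [g₃, pbar, RingHom.comp_apply]
    rw [hg₂alg, factor_mk, factor_mk]
  have hcont₀ : ∃ k : ℕ, ∀ x ∈ (𝔟.map (Ideal.Quotient.mk (𝔞.map (algebraMap A B)))) ^ k,
      u₀ x = 0 := by
    refine ⟨M, fun x hx => ?_⟩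
    rw [← Ideal.map_pow] at hx
    obtain ⟨y, hy, rfl⟩ := (Ideal.mem_map_iff_of_surjective _
      Ideal.Quotient.mk_surjective).mp hx
    have h1 : u₀ (Ideal.Quotient.mk _ y) = g₃ y := rfl
    rw [h1]
    simp only [g₃, g₂, RingHom.comp_apply]
    rw [Ideal.Quotient.eq_zero_iff_mem.mpr hy, map_zero, map_zero]
  obtain ⟨s₀, hs₀1, hs₀2⟩ := h₀.surj pbar (factor_surjective _) hpbarker φbar ⟨1, by simp⟩ u₀
    hcompat₀ hcont₀
  -- (vi) glue
  let f₁ : B →+* Pull p ubar ⧸ I₁ := s₀.comp (Ideal.Quotient.mk (𝔞.map (algebraMap A B)))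
  have hcompat : (factor (le_sup_left : I₁ ≤ I₁ ⊔ N₁)).comp f₁ =
      (factor (le_sup_right : N₁ ≤ I₁ ⊔ N₁)).comp g₂ := by
    change pbar.comp (s₀.comp _) = g₃
    rw [← RingHom.comp_assoc, hs₀2]
    refine RingHom.ext fun b => ?_
    rfl
  obtain ⟨G, hG1, hG2⟩ := exists_ringHom_of_inf_eq_bot I₁ N₁ hbot f₁ g₂ hcompat
  have hGalg : ∀ a, G (algebraMap A B a) = φ₁ a := by
    intro a
    have h1 : G (algebraMap A B a) - φ₁ a ∈ I₁ ⊓ N₁ := by
      refine Ideal.mem_inf.mpr ⟨?_, ?_⟩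
      · rw [← Ideal.Quotient.eq]
        have h3 := DFunLike.congr_fun hG1 (algebraMap A B a)
        simp only [RingHom.comp_apply] at h3
        rw [h3]
        exact DFunLike.congr_fun hs₀1 (Ideal.Quotient.mk 𝔞 a)
      · rw [← Ideal.Quotient.eq]
        have h3 := DFunLike.congr_fun hG2 (algebraMap A B a)
        simp only [RingHom.comp_apply] at h3
        rw [h3, hg₂alg]
    rw [hbot, Ideal.mem_bot, sub_eq_zero] at h1
    exact h1
  refine ⟨(Pull.pr₁ p ubar).comp G, ?_, ?_⟩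
  · refine RingHom.ext fun a => ?_
    simp only [RingHom.comp_apply]
    rw [hGalg]
    rfl
  · refine RingHom.ext fun b => ?_
    simp only [RingHom.comp_apply]
    rw [Pull.comm]
    have h1 : Pull.pr₂ p ubar (G b) = Ideal.Quotient.mk (𝔟 ^ M) b := by
      rw [← he, ← hg₂]
      congr 1
      exact DFunLike.congr_fun hG2 b
    rw [h1, hubar]

end Groth.Agent.Lib.Helper61.FSAdic
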