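import Mathlib
import Groth.Agent.S1881
import Groth.Agent.Lib.Helper72.GrpdPts

set_option autoImplicit false
universe u
open CategoryTheory CategoryTheory.Limits AlgebraicGeometry Grpd

namespace Groth.Agent.Lib.Helper61.GQ
set_option backward.isDefEq.respectTransparency.types false
set_option maxHeartbeats 400000
open Groth.Agent.Lib.Helper72.GrpdPts

variable {S : Scheme.{u}} (G : Grpd.GroupoidScheme S)

theorem i_i : G.i ≫ G.i = 𝟙 G.R := by
  have h0 : G.i ≫ G.s = 𝟙 G.R ≫ G.t := by rw [G.i_s, Category.id_comp]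
  have h1 : (G.i ≫ G.i) ≫ G.s = mul G G.i (𝟙 G.R) h0 ≫ G.t := by
    rw [mul_t, Category.assoc, G.i_s, G.i_t]
  have e1 := i_mul_mul G G.i (𝟙 G.R) h0 h1
  have h2 : (𝟙 G.R ≫ G.i) ≫ G.s = 𝟙 G.R ≫ G.t := by simp [G.i_s]
  have e2 : mul G G.i (𝟙 G.R) h0 = G.s ≫ G.e := by
    have h3 := i_mul G (𝟙 G.R) h2
    exact (mul_congr G (Category.id_comp _).symm rfl h0 h2).trans (h3.trans (Category.id_comp _))
  have h4 : (G.i ≫ G.i) ≫ G.s = (G.s ≫ G.e) ≫ G.t := by
    rw [Category.assoc, G.i_s, G.i_t, Category.assoc, G.e_t, Category.comp_id]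
  have e3 : mul G (G.i ≫ G.i) (G.s ≫ G.e) h4 = G.i ≫ G.i :=
    mul_e G (G.i ≫ G.i) (G.s ≫ G.e) (by
      rw [Category.assoc, ← Category.assoc G.i G.s, G.i_s, ← Category.assoc, G.i_t]) h4
  rw [← e3, ← e1]
  exact mul_congr G rfl e2.symm h4 h1

instance isIso_i : IsIso G.i := ⟨G.i, i_i G, i_i G⟩

theorem isFinite_t [IsFinite G.s] : IsFinite G.t := by
  rw [← G.i_s]; infer_instance

theorem flat_t [Flat G.s] : Flat G.t := by
  rw [← G.i_s]; infer_instance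

theorem lfp_t [LocallyOfFinitePresentation G.s] : LocallyOfFinitePresentation G.t := by
  rw [← G.i_s]; infer_instance

/-- invariant opens -/
def IsInv (N : G.U.Opens) : Prop := G.s ⁻¹ᵁ N = G.t ⁻¹ᵁ N


variable {G}

theorem IsInv.mem_iff {N : G.U.Opens} (hN : IsInv G N) (r : G.R) : G.s r ∈ N ↔ G.t r ∈ N := by
  have h : r ∈ G.s ⁻¹ᵁ N ↔ r ∈ G.t ⁻¹ᵁ N := by rw [hN]
  exact h

theorem isInv_of_forall {N : G.U.Opens} (h : ∀ r : G.R, G.s r ∈ N ↔ G.t r ∈ N) : IsInv G N := by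
  ext r
  exact h r

theorem IsInv.inf {N N' : G.U.Opens} (hN : IsInv G N) (hN' : IsInv G N') : IsInv G (N ⊓ N') :=
  isInv_of_forall fun r => by
    show (G.s r ∈ N ∧ G.s r ∈ N') ↔ (G.t r ∈ N ∧ G.t r ∈ N')
    rw [hN.mem_iff, hN'.mem_iff]

theorem preimage_le {N N' : G.U.Opens} (h : N' ≤ N) : G.s ⁻¹ᵁ N' ≤ G.s ⁻¹ᵁ N := fun _ hx => h hx

/-- the `s`-pullback on sections over an open -/
noncomputable def σ (N : G.U.Opens) : Γ(G.U, N) ⟶ Γ(G.R, G.s ⁻¹ᵁ N) :=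
  G.s.appLE N (G.s ⁻¹ᵁ N) le_rfl

/-- the `t`-pullback on sections over an invariant open -/
noncomputable def τ {N : G.U.Opens} (hN : IsInv G N) : Γ(G.U, N) ⟶ Γ(G.R, G.s ⁻¹ᵁ N) :=
  G.t.appLE N (G.s ⁻¹ᵁ N) (le_of_eq hN)

/-- invariant sections over an invariant open -/
noncomputable def Cinv {N : G.U.Opens} (hN : IsInv G N) : Subring Γ(G.U, N) :=
  RingHom.eqLocus (σ N).hom (τ hN).hom

theorem mem_Cinv {N : G.U.Opens} (hN : IsInv G N) (a : Γ(G.U, N)) :
    a ∈ Cinv hN ↔ (σ N).hom a = (τ hN).hom a := Iff.rfl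

theorem σ_res {N N' : G.U.Opens} (h : N' ≤ N) :
    G.U.presheaf.map (homOfLE h).op ≫ σ N' =
      σ N ≫ G.R.presheaf.map (homOfLE (preimage_le h)).op := by
  unfold σ
  rw [Scheme.Hom.map_appLE, Scheme.Hom.appLE_map]

theorem τ_res {N N' : G.U.Opens} (hN : IsInv G N) (hN' : IsInv G N') (h : N' ≤ N) :
    G.U.presheaf.map (homOfLE h).op ≫ τ hN' =
      τ hN ≫ G.R.presheaf.map (homOfLE (preimage_le h)).op := by
  unfold τ
  rw [Scheme.Hom.map_appLE, Scheme.Hom.appLE_map]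

theorem res_mem {N N' : G.U.Opens} (hN : IsInv G N) (hN' : IsInv G N') (h : N' ≤ N)
    (a : Γ(G.U, N)) (ha : a ∈ Cinv hN) : (G.U.presheaf.map (homOfLE h).op).hom a ∈ Cinv hN' := by
  rw [mem_Cinv] at ha ⊢
  have h1 := congrArg (fun φ => φ.hom a) (σ_res (G := G) h)
  have h2 := congrArg (fun φ => φ.hom a) (τ_res hN hN' h)
  simp only [CommRingCat.hom_comp, RingHom.comp_apply] at h1 h2
  rw [h1, h2, ha]

/-- restriction of invariant sections -/
noncomputable def resC {N N' : G.U.Opens} (hN : IsInv G N) (hN' : IsInv G N') (h : N' ≤ N) :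
    Cinv hN →+* Cinv hN' :=
  RingHom.codRestrict ((G.U.presheaf.map (homOfLE h).op).hom.comp (Cinv hN).subtype) (Cinv hN')
    (fun a => res_mem hN hN' h a.1 a.2)

theorem resC_coe {N N' : G.U.Opens} (hN : IsInv G N) (hN' : IsInv G N') (h : N' ≤ N)
    (a : Cinv hN) : ((resC hN hN' h a : Cinv hN') : Γ(G.U, N')) =
      (G.U.presheaf.map (homOfLE h).op).hom a.1 := rfl

/-- the local quotient -/
noncomputable abbrev Yq {N : G.U.Opens} (hN : IsInv G N) : Scheme.{u} :=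
  Spec (CommRingCat.of (Cinv hN))

/-- the local quotient map -/
noncomputable def qN {N : G.U.Opens} (hN : IsInv G N) : (N : Scheme.{u}) ⟶ Yq hN :=
  N.toSpecΓ ≫ Spec.map (CommRingCat.ofHom (Cinv hN).subtype)

/-- transition maps between local quotients -/
noncomputable def Ymap {N N' : G.U.Opens} (hN : IsInv G N) (hN' : IsInv G N') (h : N' ≤ N) :
    Yq hN' ⟶ Yq hN :=
  Spec.map (CommRingCat.ofHom (resC hN hN' h))

theorem qN_natural {N N' : G.U.Opens} (hN : IsInv G N) (hN' : IsInv G N') (h : N' ≤ N) :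
    G.U.homOfLE h ≫ qN hN = qN hN' ≫ Ymap hN hN' h := by
  unfold qN Ymap
  rw [Category.assoc, ← Spec.map_comp, ← Scheme.Opens.toSpecΓ_SpecMap_presheaf_map_assoc _ _ h,
    ← Spec.map_comp]
  rfl

theorem Ymap_id {N : G.U.Opens} (hN : IsInv G N) : Ymap hN hN le_rfl = 𝟙 _ := by
  unfold Ymap
  have : resC hN hN le_rfl = RingHom.id _ := by
    ext a
    rw [resC_coe]
    simp
  rw [this]
  exact Spec.map_id _

theorem Ymap_comp {N N' N'' : G.U.Opens} (hN : IsInv G N) (hN' : IsInv G N') (hN'' : IsInv G N'')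
    (h : N' ≤ N) (h' : N'' ≤ N') :
    Ymap hN' hN'' h' ≫ Ymap hN hN' h = Ymap hN hN'' (h'.trans h) := by
  unfold Ymap
  rw [← Spec.map_comp]
  congr 1
  ext a
  show ((resC hN' hN'' h' (resC hN hN' h a) : Cinv hN'') : Γ(G.U, N'')) = _
  rw [resC_coe, resC_coe]
  show _ = (G.U.presheaf.map (homOfLE (h'.trans h)).op).hom a.1
  rw [← CommRingCat.comp_apply, ← Functor.map_comp]
  rfl

end Groth.Agent.Lib.Helper61.GQ
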