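import Mathlib
import Groth.Agent.Lib.Helper61.GQ1
import Groth.Agent.Lib.Helper95.Q6

set_option autoImplicit false
universe u
open CategoryTheory CategoryTheory.Limits AlgebraicGeometry Grpd

namespace Groth.Agent.Lib.Helper61.GQ
set_option backward.isDefEq.respectTransparency.types false
set_option maxHeartbeats 400000
open Groth.Agent.Lib.Helper95.Q5 Groth.Agent.Lib.Helper95.Q6

variable {S : Scheme.{u}} {G : Grpd.GroupoidScheme S}

section Loc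

variable {W : G.U.Opens} (hW : IsInv G W) (c : Cinv hW)

/-- the basic open of an invariant function -/
noncomputable abbrev Dc : G.U.Opens := G.U.basicOpen (c : Γ(G.U, W))

theorem Dc_le : Dc hW c ≤ W := G.U.basicOpen_le _

theorem s_preimage_Dc : G.s ⁻¹ᵁ (Dc hW c) = G.R.basicOpen ((σ W).hom c.1) := by
  unfold σ
  rw [Scheme.basicOpen_appLE]
  exact (inf_eq_right.mpr (preimage_le (Dc_le hW c))).symm

theorem t_preimage_Dc : G.t ⁻¹ᵁ (Dc hW c) = G.R.basicOpen ((τ hW).hom c.1) := by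
  unfold τ
  rw [Scheme.basicOpen_appLE]
  refine (inf_eq_right.mpr ?_).symm
  intro r hr
  exact (hW.mem_iff r).mpr (Dc_le hW c hr)

theorem isInv_Dc : IsInv G (Dc hW c) := by
  rw [IsInv, s_preimage_Dc, t_preimage_Dc, c.2]


variable (hWa : IsAffineOpen W) [IsAffineHom G.s]

include hWa in
theorem eqLocus_eq :
    letI : Algebra Γ(G.U, W) Γ(G.R, G.s ⁻¹ᵁ W) := (σ W).hom.toAlgebra
    haveI := hWa.isLocalization_basicOpen c.1
    haveI := (hWa.preimage G.s).isLocalization_basicOpen ((σ W).hom c.1)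
    ∀ a : Γ(G.U, Dc hW c),
      a ∈ RingHom.eqLocus
        (sL (A := Γ(G.U, W)) (B := Γ(G.R, G.s ⁻¹ᵁ W)) c.1 Γ(G.U, Dc hW c)
          Γ(G.R, G.R.basicOpen ((σ W).hom c.1)))
        (tL (A := Γ(G.U, W)) (B := Γ(G.R, G.s ⁻¹ᵁ W)) (τ hW).hom c.1 c.2 Γ(G.U, Dc hW c)
          Γ(G.R, G.R.basicOpen ((σ W).hom c.1))) ↔ a ∈ Cinv (isInv_Dc hW c) := by
  letI : Algebra Γ(G.U, W) Γ(G.R, G.s ⁻¹ᵁ W) := (σ W).hom.toAlgebra
  haveI := hWa.isLocalization_basicOpen c.1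
  haveI := (hWa.preimage G.s).isLocalization_basicOpen ((σ W).hom c.1)
  have hle : G.R.basicOpen ((σ W).hom c.1) ≤ G.s ⁻¹ᵁ (Dc hW c) := (s_preimage_Dc hW c).ge
  have hle' : G.R.basicOpen ((σ W).hom c.1) ≤ G.t ⁻¹ᵁ (Dc hW c) := by
    rw [← isInv_Dc hW c]; exact hle
  have hs : sL (A := Γ(G.U, W)) (B := Γ(G.R, G.s ⁻¹ᵁ W)) c.1 Γ(G.U, Dc hW c)
      Γ(G.R, G.R.basicOpen ((σ W).hom c.1)) =
      (G.s.appLE (Dc hW c) (G.R.basicOpen ((σ W).hom c.1)) hle).hom := by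
    have := hWa.appLE_eq_away_map G.s (hWa.preimage G.s) le_rfl c.1
    unfold sL
    exact (congrArg CommRingCat.Hom.hom this).symm
  have ht : tL (A := Γ(G.U, W)) (B := Γ(G.R, G.s ⁻¹ᵁ W)) (τ hW).hom c.1 c.2 Γ(G.U, Dc hW c)
      Γ(G.R, G.R.basicOpen ((σ W).hom c.1)) =
      (G.t.appLE (Dc hW c) (G.R.basicOpen ((σ W).hom c.1)) hle').hom := by
    apply IsLocalization.ringHom_ext (Submonoid.powers c.1)
    ext a
    rw [RingHom.comp_apply, tL_alg, RingHom.comp_apply]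
    simp only [RingHom.algebraMap_toAlgebra]
    rw [← CommRingCat.comp_apply, ← CommRingCat.comp_apply]
    unfold τ
    rw [Scheme.Hom.map_appLE, Scheme.Hom.appLE_map]
  intro a
  rw [mem_Cinv, RingHom.mem_eqLocus, hs, ht]
  have e1 : σ (Dc hW c) = G.s.appLE (Dc hW c) (G.R.basicOpen ((σ W).hom c.1)) hle ≫
      G.R.presheaf.map (eqToHom (s_preimage_Dc hW c)).op := by
    unfold σ
    rw [Scheme.Hom.appLE_map]
  have e2 : τ (isInv_Dc hW c) = G.t.appLE (Dc hW c) (G.R.basicOpen ((σ W).hom c.1)) hle' ≫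
      G.R.presheaf.map (eqToHom (s_preimage_Dc hW c)).op := by
    unfold τ
    rw [Scheme.Hom.appLE_map]
  rw [e1, e2, CommRingCat.hom_comp, CommRingCat.hom_comp, RingHom.comp_apply, RingHom.comp_apply]
  have hinj : Function.Injective (G.R.presheaf.map (eqToHom (s_preimage_Dc hW c)).op).hom := by
    have : IsIso (G.R.presheaf.map (eqToHom (s_preimage_Dc hW c)).op) := inferInstance
    exact ((ConcreteCategory.isIso_iff_bijective _).mp this).1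
  exact hinj.eq_iff.symm


include hWa in
theorem Ymap_Dc_aux : IsOpenImmersion (Ymap hW (isInv_Dc hW c) (Dc_le hW c)) ∧
    Set.range (Ymap hW (isInv_Dc hW c) (Dc_le hW c)) =
      (PrimeSpectrum.basicOpen c : Set (PrimeSpectrum (Cinv hW))) := by
  letI algAB : Algebra Γ(G.U, W) Γ(G.R, G.s ⁻¹ᵁ W) := (σ W).hom.toAlgebra
  haveI := hWa.isLocalization_basicOpen c.1
  haveI := (hWa.preimage G.s).isLocalization_basicOpen ((σ W).hom c.1)
  have hEq : RingHom.eqLocus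
        (sL (A := Γ(G.U, W)) (B := Γ(G.R, G.s ⁻¹ᵁ W)) c.1 Γ(G.U, Dc hW c)
          Γ(G.R, G.R.basicOpen ((σ W).hom c.1)))
        (tL (A := Γ(G.U, W)) (B := Γ(G.R, G.s ⁻¹ᵁ W)) (τ hW).hom c.1 c.2 Γ(G.U, Dc hW c)
          Γ(G.R, G.R.basicOpen ((σ W).hom c.1))) = Cinv (isInv_Dc hW c) :=
    Subring.ext (eqLocus_eq hW c hWa)
  letI algE := (algCE (A := Γ(G.U, W)) (B := Γ(G.R, G.s ⁻¹ᵁ W)) (τ hW).hom c.1 c.2
    Γ(G.U, Dc hW c) Γ(G.R, G.R.basicOpen ((σ W).hom c.1))).toAlgebra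
  have hloc := isLocalization_E (A := Γ(G.U, W)) (B := Γ(G.R, G.s ⁻¹ᵁ W)) (τ hW).hom c.1 c.2
    Γ(G.U, Dc hW c) Γ(G.R, G.R.basicOpen ((σ W).hom c.1))
  have hoi := IsOpenImmersion.of_isLocalization
    (R := RingHom.eqLocus (algebraMap Γ(G.U, W) Γ(G.R, G.s ⁻¹ᵁ W)) (τ hW).hom)
    (S := RingHom.eqLocus
        (sL (A := Γ(G.U, W)) (B := Γ(G.R, G.s ⁻¹ᵁ W)) c.1 Γ(G.U, Dc hW c)
          Γ(G.R, G.R.basicOpen ((σ W).hom c.1)))
        (tL (A := Γ(G.U, W)) (B := Γ(G.R, G.s ⁻¹ᵁ W)) (τ hW).hom c.1 c.2 Γ(G.U, Dc hW c)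
          Γ(G.R, G.R.basicOpen ((σ W).hom c.1)))) ⟨c.1, c.2⟩
  have hrange := PrimeSpectrum.localization_away_comap_range
    (R := RingHom.eqLocus (algebraMap Γ(G.U, W) Γ(G.R, G.s ⁻¹ᵁ W)) (τ hW).hom)
    (RingHom.eqLocus
        (sL (A := Γ(G.U, W)) (B := Γ(G.R, G.s ⁻¹ᵁ W)) c.1 Γ(G.U, Dc hW c)
          Γ(G.R, G.R.basicOpen ((σ W).hom c.1)))
        (tL (A := Γ(G.U, W)) (B := Γ(G.R, G.s ⁻¹ᵁ W)) (τ hW).hom c.1 c.2 Γ(G.U, Dc hW c)
          Γ(G.R, G.R.basicOpen ((σ W).hom c.1)))) ⟨c.1, c.2⟩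
  let e := RingEquiv.subringCongr hEq
  have hfac : resC hW (isInv_Dc hW c) (Dc_le hW c) =
      e.toRingHom.comp (algCE (A := Γ(G.U, W)) (B := Γ(G.R, G.s ⁻¹ᵁ W)) (τ hW).hom c.1 c.2
        Γ(G.U, Dc hW c) Γ(G.R, G.R.basicOpen ((σ W).hom c.1))) := by
    ext a
    rfl
  have hY : Ymap hW (isInv_Dc hW c) (Dc_le hW c) =
      Spec.map (CommRingCat.ofHom e.toRingHom) ≫
        Spec.map (CommRingCat.ofHom (algCE (A := Γ(G.U, W)) (B := Γ(G.R, G.s ⁻¹ᵁ W)) (τ hW).hom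
          c.1 c.2 Γ(G.U, Dc hW c) Γ(G.R, G.R.basicOpen ((σ W).hom c.1)))) := by
    unfold Ymap
    rw [hfac, ← Spec.map_comp]
    rfl
  haveI : IsIso (CommRingCat.ofHom e.toRingHom) :=
    inferInstanceAs (IsIso e.toCommRingCatIso.hom)
  haveI : IsIso (Spec.map (CommRingCat.ofHom e.toRingHom)) := inferInstance
  constructor
  · rw [hY]
    have hoi' : IsOpenImmersion (Spec.map (CommRingCat.ofHom (algCE (A := Γ(G.U, W))
        (B := Γ(G.R, G.s ⁻¹ᵁ W)) (τ hW).hom c.1 c.2 Γ(G.U, Dc hW c)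
        Γ(G.R, G.R.basicOpen ((σ W).hom c.1))))) := hoi
    exact @IsOpenImmersion.comp _ _ _ _ _ (IsOpenImmersion.of_isIso _) hoi'
  · rw [hY]
    have hsurj : Function.Surjective (Spec.map (CommRingCat.ofHom e.toRingHom)) :=
      (ConcreteCategory.bijective_of_isIso (Spec.map (CommRingCat.ofHom e.toRingHom)).base).2
    ext P
    constructor
    · rintro ⟨Q, rfl⟩
      have : (Spec.map (CommRingCat.ofHom (algCE (A := Γ(G.U, W))
        (B := Γ(G.R, G.s ⁻¹ᵁ W)) (τ hW).hom c.1 c.2 Γ(G.U, Dc hW c)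
        Γ(G.R, G.R.basicOpen ((σ W).hom c.1))))) (Spec.map (CommRingCat.ofHom e.toRingHom) Q) ∈
          Set.range (PrimeSpectrum.comap (algebraMap
            (RingHom.eqLocus (algebraMap Γ(G.U, W) Γ(G.R, G.s ⁻¹ᵁ W)) (τ hW).hom) _)) := ⟨_, rfl⟩
      rw [hrange] at this
      exact this
    · intro hP
      obtain ⟨Q, rfl⟩ := (Set.ext_iff.mp hrange P).mpr hP
      obtain ⟨Q', rfl⟩ := hsurj Q
      exact ⟨Q', rfl⟩

end Loc

end Groth.Agent.Lib.Helper61.GQ
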