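import Mathlib
import Groth.Agent.Lib.Helper61.GQ2
import Groth.Agent.S1878
import Groth.Agent.S1877
import Groth.Agent.Lib.Helper73.Grpd.RestrictAlong

set_option autoImplicit false
universe u
open CategoryTheory CategoryTheory.Limits AlgebraicGeometry Grpd

namespace Groth.Agent.Lib.Helper61.GQ
set_option backward.isDefEq.respectTransparency.types false
set_option maxHeartbeats 400000
open Groth.Agent.Lib.Helper73.GrpdRes

variable {S : Scheme.{u}} {G : Grpd.GroupoidScheme S}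

section Bridge

variable {W : G.U.Opens} (hW : IsInv G W)

/-- the restricted groupoid -/
noncomputable abbrev HW (W : G.U.Opens) : Grpd.GroupoidScheme S := restrictAlong G W.ι

instance isOpenImmersion_qR (W : G.U.Opens) : IsOpenImmersion (qR G W.ι) := by
  have h1 : IsOpenImmersion (pullback.fst (hh G W.ι) W.ι) := inferInstance
  have h2 : IsOpenImmersion (pullback.snd W.ι G.t) := inferInstance
  have h3 : IsOpenImmersion (pullback.fst (hh G W.ι) W.ι ≫ pullback.snd W.ι G.t) :=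
    inferInstance
  have e : qR G W.ι = pullback.fst (hh G W.ι) W.ι ≫ pullback.snd W.ι G.t := by
    unfold qR pα
    exact Category.id_comp _
  rw [e]
  exact h3

theorem qR_t_apply (W : G.U.Opens) (r' : (HW (G := G) W).R) :
    G.t (qR G W.ι r') = ((HW (G := G) W).t r' : W).1 := by
  rw [← Scheme.Hom.comp_apply, qR_t]
  rfl

theorem qR_s_apply (W : G.U.Opens) (r' : (HW (G := G) W).R) :
    G.s (qR G W.ι r') = ((HW (G := G) W).s r' : W).1 := by
  rw [← Scheme.Hom.comp_apply, qR_s]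
  rfl

theorem exists_qR (W : G.U.Opens) (r : G.R) (ht : G.t r ∈ W) (hs : G.s r ∈ W) :
    ∃ r' : (HW (G := G) W).R, qR G W.ι r' = r := by
  obtain ⟨z₁, h1, h2⟩ := Scheme.Pullback.exists_preimage_pullback (f := W.ι) (g := G.t)
    (⟨G.t r, ht⟩ : W) r rfl
  have h3 : (hh G W.ι) z₁ = W.ι (⟨G.s r, hs⟩ : W) := by
    show (pullback.snd W.ι G.t ≫ G.s) z₁ = G.s r
    rw [Scheme.Hom.comp_apply, h2]
  obtain ⟨z₂, h4, h5⟩ := Scheme.Pullback.exists_preimage_pullback (f := hh G W.ι) (g := W.ι)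
    z₁ (⟨G.s r, hs⟩ : W) h3
  refine ⟨z₂, ?_⟩
  show (pα (𝟙 (R' G W.ι))) z₂ = r
  unfold pα
  rw [Category.id_comp, Scheme.Hom.comp_apply, h4, h2]


include hW in
theorem range_t_subset {T : Scheme.{u}} (α : T ⟶ G.R) (b : T ⟶ (W : Scheme.{u}))
    (h : α ≫ G.s = b ≫ W.ι) : Set.range (α ≫ G.t) ⊆ Set.range W.ι := by
  rintro _ ⟨z, rfl⟩
  rw [Scheme.Opens.range_ι]
  show (α ≫ G.t) z ∈ W
  rw [Scheme.Hom.comp_apply]
  refine (hW.mem_iff (α z)).mp ?_
  rw [← Scheme.Hom.comp_apply, h, Scheme.Hom.comp_apply]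
  exact (b z).2

include hW in
theorem range_s_subset {T : Scheme.{u}} (α : T ⟶ G.R) (a : T ⟶ (W : Scheme.{u}))
    (h : α ≫ G.t = a ≫ W.ι) : Set.range (α ≫ G.s) ⊆ Set.range W.ι := by
  rintro _ ⟨z, rfl⟩
  rw [Scheme.Opens.range_ι]
  show (α ≫ G.s) z ∈ W
  rw [Scheme.Hom.comp_apply]
  refine (hW.mem_iff (α z)).mpr ?_
  rw [← Scheme.Hom.comp_apply, h, Scheme.Hom.comp_apply]
  exact (a z).2

/-- source map of the restricted groupoid, typed with codomain `W` -/
noncomputable def sW (W : G.U.Opens) : (HW (G := G) W).R ⟶ (W : Scheme.{u}) := (HW (G := G) W).s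

/-- target map of the restricted groupoid, typed with codomain `W` -/
noncomputable def tW (W : G.U.Opens) : (HW (G := G) W).R ⟶ (W : Scheme.{u}) := (HW (G := G) W).t

theorem qR_sW (W : G.U.Opens) : qR G W.ι ≫ G.s = sW W ≫ W.ι := qR_s G W.ι

theorem qR_tW (W : G.U.Opens) : qR G W.ι ≫ G.t = tW W ≫ W.ι := qR_t G W.ι

/-- lift of the target through `W` -/
noncomputable def liftT {T : Scheme.{u}} (α : T ⟶ G.R) (b : T ⟶ (W : Scheme.{u}))
    (h : α ≫ G.s = b ≫ W.ι) : T ⟶ (W : Scheme.{u}) :=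
  IsOpenImmersion.lift W.ι (α ≫ G.t) (range_t_subset hW α b h)

theorem liftT_fac {T : Scheme.{u}} (α : T ⟶ G.R) (b : T ⟶ (W : Scheme.{u}))
    (h : α ≫ G.s = b ≫ W.ι) : liftT hW α b h ≫ W.ι = α ≫ G.t :=
  IsOpenImmersion.lift_fac _ _ _

/-- lift of the source through `W` -/
noncomputable def liftS {T : Scheme.{u}} (α : T ⟶ G.R) (a : T ⟶ (W : Scheme.{u}))
    (h : α ≫ G.t = a ≫ W.ι) : T ⟶ (W : Scheme.{u}) :=
  IsOpenImmersion.lift W.ι (α ≫ G.s) (range_s_subset hW α a h)

theorem liftS_fac {T : Scheme.{u}} (α : T ⟶ G.R) (a : T ⟶ (W : Scheme.{u}))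
    (h : α ≫ G.t = a ≫ W.ι) : liftS hW α a h ≫ W.ι = α ≫ G.s :=
  IsOpenImmersion.lift_fac _ _ _

include hW in
theorem isPullback_s : IsPullback (qR G W.ι) (sW W) G.s W.ι := by
  refine ⟨⟨qR_sW W⟩, ⟨PullbackCone.IsLimit.mk _
    (fun c => mkR (g := W.ι) (liftT hW c.fst c.snd c.condition)
      c.fst c.snd (liftT_fac hW _ _ _) c.condition) ?_ ?_ ?_⟩⟩
  · intro c
    exact mkR_qR _ _ _ _ _
  · intro c
    exact mkR_s _ _ _ _ _
  · intro c m h1 h2
    apply R_hom_ext
    · rw [mkR_t]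
      show m ≫ tW W = _
      rw [← cancel_mono W.ι, liftT_fac, Category.assoc, ← qR_tW, ← Category.assoc, h1]
    · rw [mkR_qR, h1]
    · rw [mkR_s]
      exact h2

include hW in
theorem isPullback_t : IsPullback (qR G W.ι) (tW W) G.t W.ι := by
  refine ⟨⟨qR_tW W⟩, ⟨PullbackCone.IsLimit.mk _
    (fun c => mkR (g := W.ι) c.snd c.fst (liftS hW c.fst c.snd c.condition)
      c.condition.symm (liftS_fac hW _ _ _).symm) ?_ ?_ ?_⟩⟩
  · intro c
    exact mkR_qR _ _ _ _ _
  · intro c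
    exact mkR_t _ _ _ _ _
  · intro c m h1 h2
    apply R_hom_ext
    · rw [mkR_t]
      exact h2
    · rw [mkR_qR, h1]
    · rw [mkR_s]
      show m ≫ sW W = _
      rw [← cancel_mono W.ι, liftS_fac, Category.assoc, ← qR_sW, ← Category.assoc, h1]

end Bridge


theorem appLE_congr_hom {X Y : Scheme.{u}} {f f' : X ⟶ Y} (h : f = f') (U : Y.Opens)
    (V : X.Opens) (e : V ≤ f ⁻¹ᵁ U) : f.appLE U V e = f'.appLE U V (h ▸ e) := by
  subst h
  rfl

section BT

variable {W : G.U.Opens} (hW : IsInv G W)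

theorem top_le_qR_preimage (W : G.U.Opens) : (⊤ : (HW (G := G) W).R.Opens) ≤ qR G W.ι ⁻¹ᵁ (G.s ⁻¹ᵁ W) := by
  intro r' _
  show G.s (qR G W.ι r') ∈ W
  rw [qR_s_apply]
  exact ((HW (G := G) W).s r' : W).2

/-- sections of `R` over `s⁻¹W` to global sections of the restricted groupoid -/
noncomputable def βW (W : G.U.Opens) : Γ(G.R, G.s ⁻¹ᵁ W) ⟶ Γ((HW (G := G) W).R, ⊤) :=
  (qR G W.ι).appLE (G.s ⁻¹ᵁ W) ⊤ (top_le_qR_preimage W)

theorem topIso_inv_eq (W : G.U.Opens) :
    W.topIso.inv = W.ι.appLE W ⊤ W.ι_preimage_self.ge := by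
  rw [Scheme.Opens.ι_appLE, Scheme.Opens.topIso_inv]
  rfl

theorem σ_β (W : G.U.Opens) : σ W ≫ βW W = W.topIso.inv ≫ (sW (G := G) W).appTop := by
  have e1 : σ W ≫ βW W = (qR G W.ι ≫ G.s).appLE W ⊤ (by
      rw [Scheme.Hom.comp_preimage]; exact top_le_qR_preimage W) :=
    Scheme.Hom.appLE_comp_appLE _ _ _ _ _ _ _
  have e2 : W.topIso.inv ≫ (sW (G := G) W).appTop = (sW (G := G) W ≫ W.ι).appLE W ⊤ (by
      rw [Scheme.Hom.comp_preimage, Scheme.Opens.ι_preimage_self]; exact le_rfl) := by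
    rw [topIso_inv_eq, Scheme.Hom.appTop, Scheme.Hom.app_eq_appLE]
    exact Scheme.Hom.appLE_comp_appLE _ _ _ _ _ _ _
  rw [e1, e2]
  exact appLE_congr_hom (qR_sW W) _ _ _

include hW in
theorem τ_β : τ hW ≫ βW W = W.topIso.inv ≫ (tW (G := G) W).appTop := by
  have e1 : τ hW ≫ βW W = (qR G W.ι ≫ G.t).appLE W ⊤ (by
      rw [Scheme.Hom.comp_preimage, ← hW]; exact top_le_qR_preimage W) :=
    Scheme.Hom.appLE_comp_appLE _ _ _ _ _ _ _
  have e2 : W.topIso.inv ≫ (tW (G := G) W).appTop = (tW (G := G) W ≫ W.ι).appLE W ⊤ (by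
      rw [Scheme.Hom.comp_preimage, Scheme.Opens.ι_preimage_self]; exact le_rfl) := by
    rw [topIso_inv_eq, Scheme.Hom.appTop, Scheme.Hom.app_eq_appLE]
    exact Scheme.Hom.appLE_comp_appLE _ _ _ _ _ _ _
  rw [e1, e2]
  exact appLE_congr_hom (qR_tW W) _ _ _

include hW in
theorem image_qR_top : (qR G W.ι) ''ᵁ ⊤ = G.s ⁻¹ᵁ W := by
  ext r
  constructor
  · rintro ⟨r', -, rfl⟩
    show G.s (qR G W.ι r') ∈ W
    rw [qR_s_apply]
    exact ((HW (G := G) W).s r' : W).2
  · intro hr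
    have hs : G.s r ∈ W := hr
    obtain ⟨r', rfl⟩ := exists_qR W r ((hW.mem_iff r).mp hs) hs
    exact ⟨r', trivial, rfl⟩

include hW in
theorem βW_bijective : Function.Bijective (βW (G := G) W).hom := by
  have e : βW (G := G) W = G.R.presheaf.map (eqToHom (image_qR_top hW)).op ≫
      ((qR G W.ι).appIso ⊤).hom := by
    rw [Scheme.Hom.appIso_hom']
    unfold βW
    rw [Scheme.Hom.map_appLE]
  have : IsIso (βW (G := G) W) := by
    rw [e]
    infer_instance
  exact (ConcreteCategory.isIso_iff_bijective _).mp this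

end BT


section BT2

variable {W : G.U.Opens} (hW : IsInv G W)

include hW in
theorem mem_invariants_iff (a : Γ(G.U, W)) :
    W.topIso.inv.hom a ∈ (HW (G := G) W).invariants ↔ a ∈ Cinv hW := by
  show (sW (G := G) W).appTop.hom (W.topIso.inv.hom a) =
    (tW (G := G) W).appTop.hom (W.topIso.inv.hom a) ↔ _
  have h1 := congrArg (fun φ => φ.hom a) (σ_β (G := G) W)
  have h2 := congrArg (fun φ => φ.hom a) (τ_β hW)
  simp only [CommRingCat.hom_comp, RingHom.comp_apply] at h1 h2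
  rw [mem_Cinv, ← h1, ← h2]
  exact (βW_bijective hW).1.eq_iff

/-- the comparison of invariant rings -/
noncomputable def κ : Cinv hW →+* (HW (G := G) W).invariants :=
  RingHom.codRestrict (W.topIso.inv.hom.comp (Cinv hW).subtype) _
    (fun a => (mem_invariants_iff hW a.1).mpr a.2)

theorem κ_bijective : Function.Bijective (κ hW) := by
  have hb : Function.Bijective W.topIso.inv.hom :=
    (ConcreteCategory.isIso_iff_bijective _).mp (inferInstance : IsIso W.topIso.inv)
  constructor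
  · intro a b h
    apply Subtype.ext
    apply hb.1
    exact congrArg Subtype.val h
  · intro b
    obtain ⟨a, ha⟩ := hb.2 b.1
    refine ⟨⟨a, (mem_invariants_iff hW a).mp (ha ▸ b.2)⟩, ?_⟩
    apply Subtype.ext
    exact ha

/-- the quotient map of the restricted groupoid with domain typed as `W` -/
noncomputable def tqW (W : G.U.Opens) :
    (W : Scheme.{u}) ⟶ Spec (CommRingCat.of (HW (G := G) W).invariants) :=
  (HW (G := G) W).toQuot

theorem toQuot_κ : tqW W ≫ Spec.map (CommRingCat.ofHom (κ hW)) = qN hW := by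
  have e1 : tqW (G := G) W = (W : Scheme.{u}).toSpecΓ ≫
      Spec.map (CommRingCat.ofHom (HW (G := G) W).invariants.subtype) := rfl
  rw [e1]
  unfold qN Scheme.Opens.toSpecΓ
  rw [Category.assoc, Category.assoc, ← Spec.map_comp, ← Spec.map_comp]
  rfl

instance isIso_specMap_κ : IsIso (Spec.map (CommRingCat.ofHom (κ hW))) := by
  haveI : IsIso (CommRingCat.ofHom (κ hW)) :=
    (ConcreteCategory.isIso_iff_bijective _).mpr (κ_bijective hW)
  infer_instance

end BT2


section BT3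

variable {W : G.U.Opens} (hW : IsInv G W) (hWa : IsAffineOpen W)
  [IsFinite G.s] [Flat G.s] [LocallyOfFinitePresentation G.s]

include hW in
theorem isFinite_HWs : IsFinite (HW (G := G) W).s :=
  MorphismProperty.of_isPullback (P := @IsFinite) (isPullback_s hW) (inferInstance : IsFinite G.s)

include hW in
theorem flat_HWs : Flat (HW (G := G) W).s :=
  MorphismProperty.of_isPullback (P := @Flat) (isPullback_s hW) (inferInstance : Flat G.s)

include hW in
theorem lfp_HWs : LocallyOfFinitePresentation (HW (G := G) W).s :=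
  MorphismProperty.of_isPullback (P := @LocallyOfFinitePresentation) (isPullback_s hW)
    (inferInstance : LocallyOfFinitePresentation G.s)

include hW in
theorem isFinite_HWt : IsFinite (HW (G := G) W).t :=
  MorphismProperty.of_isPullback (P := @IsFinite) (isPullback_t hW) (isFinite_t G)

include hW in
theorem flat_HWt : Flat (HW (G := G) W).t :=
  MorphismProperty.of_isPullback (P := @Flat) (isPullback_t hW) (flat_t G)

include hW in
theorem lfp_HWt : LocallyOfFinitePresentation (HW (G := G) W).t :=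
  MorphismProperty.of_isPullback (P := @LocallyOfFinitePresentation) (isPullback_t hW) (lfp_t G)

include hWa in
theorem isAffine_HWU : IsAffine (HW (G := G) W).U := hWa

include hW hWa in
theorem isAffine_HWR : IsAffine (HW (G := G) W).R := by
  haveI := isAffine_HWU (G := G) hWa
  haveI := isFinite_HWs hW
  exact isAffine_of_isAffineHom (HW (G := G) W).s

include hW hWa in
theorem qN_surjective : Function.Surjective (qN hW) := by
  haveI := isAffine_HWU (G := G) hWa
  haveI := isAffine_HWR hW hWa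
  haveI := isFinite_HWs hW
  haveI := flat_HWs hW
  haveI := lfp_HWs hW
  rw [← toQuot_κ hW]
  intro y
  obtain ⟨y', rfl⟩ := (ConcreteCategory.bijective_of_isIso
    (Spec.map (CommRingCat.ofHom (κ hW))).base).2 y
  obtain ⟨x, rfl⟩ := Groth.Agent.S1878.surj (HW (G := G) W) y'
  exact ⟨x, rfl⟩


include hW hWa in
theorem qN_eq_iff (x x' : W) :
    qN hW x = qN hW x' ↔ ∃ r : G.R, G.t r = x.1 ∧ G.s r = x'.1 := by
  haveI := isAffine_HWU (G := G) hWa
  haveI := isAffine_HWR hW hWa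
  haveI := isFinite_HWs hW
  haveI := flat_HWs hW
  haveI := lfp_HWs hW
  have hinj := (ConcreteCategory.bijective_of_isIso
    (Spec.map (CommRingCat.ofHom (κ hW))).base).1
  have h1 : qN hW x = qN hW x' ↔ (HW (G := G) W).toQuot x = (HW (G := G) W).toQuot x' := by
    rw [← toQuot_κ hW]
    exact hinj.eq_iff (a := tqW W x) (b := tqW W x')
  rw [h1, Groth.Agent.S1878.fibres (HW (G := G) W)]
  constructor
  · rintro ⟨r', h1, h2⟩
    refine ⟨qR G W.ι r', ?_, ?_⟩
    · rw [qR_t_apply, h1]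
    · rw [qR_s_apply, h2]
  · rintro ⟨r, h1, h2⟩
    obtain ⟨r', rfl⟩ := exists_qR W r (h1 ▸ x.2) (h2 ▸ x'.2)
    refine ⟨r', ?_, ?_⟩
    · apply Subtype.ext
      rw [← qR_t_apply, h1]
    · apply Subtype.ext
      rw [← qR_s_apply, h2]


include hW hWa in
theorem isIntegralHom_qN : IsIntegralHom (qN hW) := by
  haveI := isAffine_HWU (G := G) hWa
  haveI := isAffine_HWR hW hWa
  haveI := isFinite_HWs hW
  haveI := flat_HWs hW
  haveI := lfp_HWs hW
  rw [← toQuot_κ hW]
  haveI : IsIntegralHom (tqW (G := G) W) := by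
    show IsIntegralHom (HW (G := G) W).toQuot
    unfold Grpd.GroupoidScheme.toQuot
    haveI : IsIntegralHom (Spec.map (CommRingCat.ofHom (HW (G := G) W).invariants.subtype)) :=
      IsIntegralHom.SpecMap_iff.mpr (Groth.Agent.S1878.toRG (HW (G := G) W)).subtype_isIntegral
    haveI : IsIso (HW (G := G) W).U.toSpecΓ := IsAffine.affine
    infer_instance
  infer_instance

include hW hWa in
theorem qN_kpoints (k : Type u) [Field k] [IsAlgClosed k]
    (x₀ x₁ : Spec (CommRingCat.of k) ⟶ (W : Scheme.{u})) (h : x₀ ≫ qN hW = x₁ ≫ qN hW) :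
    ∃ r : Spec (CommRingCat.of k) ⟶ G.R, r ≫ G.t = x₀ ≫ W.ι ∧ r ≫ G.s = x₁ ≫ W.ι := by
  haveI := isAffine_HWU (G := G) hWa
  haveI := isAffine_HWR hW hWa
  haveI := isFinite_HWs hW
  haveI := flat_HWs hW
  haveI := lfp_HWs hW
  rw [← toQuot_κ hW, ← Category.assoc, ← Category.assoc, cancel_mono] at h
  obtain ⟨r', h1, h2⟩ := (Groth.Agent.S1878.kpoints_iff (HW (G := G) W) k x₀ x₁).mp h
  have h1' : r' ≫ tW W = x₀ := h1
  have h2' : r' ≫ sW W = x₁ := h2
  refine ⟨r' ≫ qR G W.ι, ?_, ?_⟩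
  · rw [Category.assoc, qR_tW, ← Category.assoc, h1']
  · rw [Category.assoc, qR_sW, ← Category.assoc, h2']

end BT3

end Groth.Agent.Lib.Helper61.GQ
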