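import Mathlib
import Groth.Agent.Lib.Helper61.GQ3

set_option autoImplicit false
universe u
open CategoryTheory CategoryTheory.Limits AlgebraicGeometry Grpd

namespace Groth.Agent.Lib.Helper61.GQ
set_option backward.isDefEq.respectTransparency.types false
set_option maxHeartbeats 400000

variable {S : Scheme.{u}} {G : Grpd.GroupoidScheme S}

section PB

variable {W : G.U.Opens} (hW : IsInv G W)

theorem qN_mem_basicOpen (c : Cinv hW) (x : W) :
    qN hW x ∈ (PrimeSpectrum.basicOpen c : Set (PrimeSpectrum (Cinv hW))) ↔ x.1 ∈ Dc hW c := by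
  have h1 : qN hW x ∈ (PrimeSpectrum.basicOpen c : Set (PrimeSpectrum (Cinv hW))) ↔
      x ∈ W.toSpecΓ ⁻¹ᵁ PrimeSpectrum.basicOpen (c.1 : Γ(G.U, W)) := Iff.rfl
  rw [h1, Scheme.Opens.toSpecΓ_preimage_basicOpen]
  rfl

variable (hWa : IsAffineOpen W) [IsFinite G.s] [Flat G.s] [LocallyOfFinitePresentation G.s]

include hWa in
theorem exists_Dc_le {N : G.U.Opens} (hN : IsInv G N) (u : G.U) (huW : u ∈ W) (huN : u ∈ N) :
    ∃ c : Cinv hW, u ∈ Dc hW c ∧ Dc hW c ≤ N := by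
  haveI := isIntegralHom_qN hW hWa
  set Z : Set W := {x | x.1 ∉ N} with hZ
  have hZc : IsClosed Z := by
    have : Z = (W.ι ⁻¹' (N : Set G.U))ᶜ := rfl
    rw [this]
    exact (N.isOpen.preimage W.ι.continuous).isClosed_compl
  have hqZ : IsClosed (qN hW '' Z) := (qN hW).isClosedMap _ hZc
  have hy : qN hW ⟨u, huW⟩ ∈ (qN hW '' Z)ᶜ := by
    rintro ⟨z, hz, hzu⟩
    obtain ⟨r, h1, h2⟩ := (qN_eq_iff hW hWa z ⟨u, huW⟩).mp hzu
    apply hz
    rw [← h1]
    exact (hN.mem_iff r).mp (h2 ▸ huN)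
  obtain ⟨_, ⟨_, ⟨c, rfl⟩, rfl⟩, hyc, hcZ⟩ :=
    PrimeSpectrum.isBasis_basic_opens.exists_subset_of_mem_open hy hqZ.isOpen_compl
  refine ⟨c, (qN_mem_basicOpen hW c ⟨u, huW⟩).mp hyc, fun x hx => ?_⟩
  have hxW : x ∈ W := Dc_le hW c hx
  by_contra hxN
  exact hcZ ((qN_mem_basicOpen hW c ⟨x, hxW⟩).mpr hx) ⟨⟨x, hxW⟩, hxN, rfl⟩

end PB


variable (G) in
/-- invariant affine opens -/
structure J where
  W : G.U.Opens
  inv : IsInv G W
  aff : IsAffineOpen W

namespace J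

/-- `a` is a principal invariant basic open of `b` -/
def Step (a b : J G) : Prop := ∃ c : Cinv b.inv, a.W = Dc b.inv c

instance : Preorder (J G) where
  le a b := Relation.ReflTransGen Step a b
  le_refl _ := Relation.ReflTransGen.refl
  le_trans _ _ _ h1 h2 := h1.trans h2

theorem le_def (a b : J G) : a ≤ b ↔ Relation.ReflTransGen Step a b := Iff.rfl

theorem le_of_step {a b : J G} (h : Step a b) : a ≤ b := Relation.ReflTransGen.single h

theorem le_W {a b : J G} (h : a ≤ b) : a.W ≤ b.W := by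
  induction h with
  | refl => exact le_rfl
  | tail _ hbc ih =>
    obtain ⟨c, hc⟩ := hbc
    exact ih.trans (hc ▸ Dc_le _ c)

/-- the principal open as an element of `J` -/
noncomputable def ofDc [IsAffineHom G.s] (b : J G) (c : Cinv b.inv) : J G :=
  ⟨Dc b.inv c, isInv_Dc b.inv c, b.aff.basicOpen _⟩

theorem ofDc_le [IsAffineHom G.s] (b : J G) (c : Cinv b.inv) : ofDc b c ≤ b :=
  le_of_step ⟨c, rfl⟩

end J

section Functor

variable [IsFinite G.s]

theorem isOpenImmersion_Ymap_of_le {a b : J G} (h : a ≤ b) :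
    IsOpenImmersion (Ymap b.inv a.inv (J.le_W h)) := by
  induction h with
  | refl =>
    rw [Ymap_id]
    infer_instance
  | @tail b' c' hab hbc ih =>
    have hle : a ≤ b' := hab
    have hstep : J.Step b' c' := hbc
    obtain ⟨cc, hcc⟩ := hstep
    obtain ⟨Wb, invb, affb⟩ := b'
    simp only at hcc
    subst hcc
    have h1 := (Ymap_Dc_aux c'.inv cc c'.aff).1
    have h2 : IsOpenImmersion (Ymap invb a.inv (J.le_W hle)) := ih
    have h3 := Ymap_comp c'.inv invb a.inv (Dc_le c'.inv cc) (J.le_W hle)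
    rw [← h3]
    exact @IsOpenImmersion.comp _ _ _ _ _ h2 h1

/-- the diagram of local quotients -/
noncomputable def F : J G ⥤ Scheme.{u} where
  obj a := Yq a.inv
  map {a b} f := Ymap b.inv a.inv (J.le_W (leOfHom f))
  map_id a := Ymap_id a.inv
  map_comp {a b c} f g := (Ymap_comp c.inv b.inv a.inv _ _).symm

instance F_isOpenImmersion {a b : J G} (f : a ⟶ b) : IsOpenImmersion ((F (G := G)).map f) :=
  isOpenImmersion_Ymap_of_le (leOfHom f)

end Functor


section Directed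

variable [IsFinite G.s] [Flat G.s] [LocallyOfFinitePresentation G.s]

theorem exists_le_of_mem (a : J G) {N : G.U.Opens} (hN : IsInv G N) (u : G.U) (hua : u ∈ a.W)
    (huN : u ∈ N) : ∃ l : J G, l ≤ a ∧ l.W ≤ N ∧ u ∈ l.W := by
  obtain ⟨c, h1, h2⟩ := exists_Dc_le a.inv a.aff hN u hua huN
  exact ⟨J.ofDc a c, J.ofDc_le a c, h2, h1⟩

theorem exists_common (a b : J G) (u : G.U) (hua : u ∈ a.W) (hub : u ∈ b.W) :
    ∃ l : J G, l ≤ a ∧ l ≤ b ∧ u ∈ l.W := by
  obtain ⟨c₁, h1, h2⟩ := exists_Dc_le a.inv a.aff b.inv u hua hub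
  obtain ⟨c₂, h3, h4⟩ := exists_Dc_le b.inv b.aff (isInv_Dc a.inv c₁) u hub h1
  refine ⟨J.ofDc b c₂, ?_, J.ofDc_le b c₂, h3⟩
  refine (J.le_of_step ?_ : J.ofDc b c₂ ≤ J.ofDc a c₁).trans (J.ofDc_le a c₁)
  refine ⟨resC b.inv (isInv_Dc a.inv c₁) h2 c₂, ?_⟩
  show Dc b.inv c₂ = G.U.basicOpen ((G.U.presheaf.map (homOfLE h2).op).hom c₂.1)
  rw [Scheme.basicOpen_res]
  exact (inf_eq_right.mpr h4).symm

end Directed


theorem Ymap_qN_apply {N N' : G.U.Opens} (hN : IsInv G N) (hN' : IsInv G N') (h : N' ≤ N)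
    (x : N') : Ymap hN hN' h (qN hN' x) = qN hN ⟨x.1, h x.2⟩ := by
  have h1 : (G.U.homOfLE h ≫ qN hN) x = (qN hN' ≫ Ymap hN hN' h) x := by
    rw [qN_natural]
  rw [Scheme.Hom.comp_apply, Scheme.Hom.comp_apply] at h1
  rw [← h1]
  congr 1
  apply Subtype.ext
  exact Scheme.homOfLE_apply _ _

section LD

variable [IsFinite G.s] [Flat G.s] [LocallyOfFinitePresentation G.s]

instance F_isLocallyDirected : ((F (G := G)) ⋙ Scheme.forget).IsLocallyDirected where
  cond {i j k} fi fj xi xj hx := by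
    obtain ⟨ui, rfl⟩ := qN_surjective i.inv i.aff xi
    obtain ⟨uj, rfl⟩ := qN_surjective j.inv j.aff xj
    have hik : i.W ≤ k.W := J.le_W (leOfHom fi)
    have hjk : j.W ≤ k.W := J.le_W (leOfHom fj)
    have h1 : qN k.inv ⟨ui.1, hik ui.2⟩ = qN k.inv ⟨uj.1, hjk uj.2⟩ := by
      rw [← Ymap_qN_apply k.inv i.inv hik ui, ← Ymap_qN_apply k.inv j.inv hjk uj]
      exact hx
    obtain ⟨r, hr1, hr2⟩ := (qN_eq_iff k.inv k.aff _ _).mp h1
    have huij : ui.1 ∈ j.W := by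
      have : G.t r ∈ j.W := (j.inv.mem_iff r).mp (by rw [hr2]; exact uj.2)
      rwa [hr1] at this
    obtain ⟨l, hli, hlj, hul⟩ := exists_common i j ui.1 ui.2 huij
    refine ⟨l, homOfLE hli, homOfLE hlj, qN l.inv ⟨ui.1, hul⟩, ?_, ?_⟩
    · exact Ymap_qN_apply i.inv l.inv (J.le_W hli) ⟨ui.1, hul⟩
    · refine (Ymap_qN_apply j.inv l.inv (J.le_W hlj) ⟨ui.1, hul⟩).trans ?_
      exact (qN_eq_iff j.inv j.aff _ _).mpr ⟨r, hr1, hr2⟩

end LD

end Groth.Agent.Lib.Helper61.GQ
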