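import Mathlib
import Groth.Agent.Lib.Helper61.GQ4

set_option autoImplicit false
universe u
open CategoryTheory CategoryTheory.Limits AlgebraicGeometry Grpd

namespace Groth.Agent.Lib.Helper61.GQ
set_option backward.isDefEq.respectTransparency.types false
set_option maxHeartbeats 400000

variable {S : Scheme.{u}} {G : Grpd.GroupoidScheme S}
  [IsFinite G.s] [Flat G.s] [LocallyOfFinitePresentation G.s]

variable (G) in
/-- the global quotient -/
noncomputable abbrev Y : Scheme.{u} := colimit (F (G := G))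

/-- the inclusion of a local quotient -/
noncomputable abbrev ιY (a : J G) : (F (G := G)).obj a ⟶ Y G := colimit.ι (F (G := G)) a

theorem ιY_w {a b : J G} (h : a ≤ b) : (F (G := G)).map (homOfLE h) ≫ ιY b = ιY a :=
  colimit.w (F (G := G)) (homOfLE h)

theorem F_map_apply {a b : J G} (h : a ≤ b) (x : a.W) :
    (F (G := G)).map (homOfLE h) (qN a.inv x) = qN b.inv ⟨x.1, J.le_W h x.2⟩ :=
  Ymap_qN_apply b.inv a.inv (J.le_W h) x

theorem ιY_jointly_surjective (y : Y G) : ∃ (a : J G) (x : (F (G := G)).obj a), ιY a x = y :=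
  Scheme.IsLocallyDirected.ι_jointly_surjective (F (G := G)) y

theorem ιY_eq_iff {a b : J G} (xa : (F (G := G)).obj a) (xb : (F (G := G)).obj b) :
    ιY a xa = ιY b xb ↔ ∃ (l : J G) (hla : l ≤ a) (hlb : l ≤ b) (x : (F (G := G)).obj l),
      (F (G := G)).map (homOfLE hla) x = xa ∧ (F (G := G)).map (homOfLE hlb) x = xb := by
  rw [Scheme.IsLocallyDirected.ι_eq_ι_iff]
  constructor
  · rintro ⟨k, fi, fj, x, h1, h2⟩
    exact ⟨k, leOfHom fi, leOfHom fj, x, h1, h2⟩
  · rintro ⟨l, hla, hlb, x, h1, h2⟩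
    exact ⟨l, homOfLE hla, homOfLE hlb, x, h1, h2⟩

/-- the local quotient map with codomain typed for the diagram -/
noncomputable def qJ (a : J G) : (a.W : Scheme.{u}) ⟶ (F (G := G)).obj a := qN a.inv

theorem qJ_natural {a b : J G} (h : a ≤ b) :
    G.U.homOfLE (J.le_W h) ≫ qJ b = qJ a ≫ (F (G := G)).map (homOfLE h) :=
  qN_natural b.inv a.inv (J.le_W h)


section Q

variable (hcov : ∀ x : G.U, ∃ a : J G, x ∈ a.W)

/-- the cover of `U` by invariant affine opens -/
noncomputable def cover : G.U.OpenCover :=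
  G.U.openCoverOfIsOpenCover (fun a : J G => a.W)
    (eq_top_iff.mpr (fun x _ => TopologicalSpace.Opens.mem_iSup.mpr (hcov x)))

instance : Preorder (cover hcov).I₀ := inferInstanceAs (Preorder (J G))

noncomputable instance cover_locallyDirected : (cover hcov).LocallyDirected where
  trans {i j} hij := G.U.homOfLE (J.le_W (G := G) (a := i) (b := j) (leOfHom hij))
  trans_id i := by
    simp only [Scheme.homOfLE_rfl]
    rfl
  trans_comp hij hjk := (Scheme.homOfLE_homOfLE _ _ _).symm
  w hij := Scheme.homOfLE_ι _ _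
  property_trans {i j} hij := by
    show IsOpenImmersion (G.U.homOfLE (J.le_W (G := G) (a := i) (b := j) (leOfHom hij)))
    infer_instance
  directed {i j} x := by
    have hx1 : ((pullback.fst ((cover hcov).f i) ((cover hcov).f j) ≫ (cover hcov).f i) x) ∈
        (i : J G).W := ((pullback.fst ((cover hcov).f i) ((cover hcov).f j)) x).2
    have hx2 : ((pullback.fst ((cover hcov).f i) ((cover hcov).f j) ≫ (cover hcov).f i) x) ∈
        (j : J G).W := by
      rw [pullback.condition]
      exact ((pullback.snd ((cover hcov).f i) ((cover hcov).f j)) x).2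
    obtain ⟨l, hli, hlj, hul⟩ := exists_common (i : J G) j _ hx1 hx2
    refine ⟨l, homOfLE hli, homOfLE hlj, ⟨_, hul⟩, ?_⟩
    apply (pullback.fst ((cover hcov).f i) ((cover hcov).f j) ≫
      (cover hcov).f i).isOpenEmbedding.injective
    rw [← Scheme.Hom.comp_apply, pullback.lift_fst_assoc]
    have : G.U.homOfLE (J.le_W hli) ≫ (i : J G).W.ι = l.W.ι := Scheme.homOfLE_ι _ _
    exact congrArg (fun φ : (l.W : Scheme.{u}) ⟶ G.U => φ ⟨_, hul⟩) this


theorem q_compat {i j : (cover hcov).I₀} (hij : i ⟶ j) :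
    (cover hcov).trans hij ≫ qJ (G := G) j ≫ ιY j = qJ (G := G) i ≫ ιY i := by
  show G.U.homOfLE (J.le_W (G := G) (a := i) (b := j) (leOfHom hij)) ≫ qJ (G := G) j ≫ ιY j =
    qJ (G := G) i ≫ ιY i
  rw [← Category.assoc, qJ_natural (leOfHom hij), Category.assoc, ιY_w]

/-- the global quotient map -/
noncomputable def q : G.U ⟶ Y G :=
  (cover hcov).glueMorphismsOfLocallyDirected (fun a => qJ (G := G) a ≫ ιY a)
    (fun hij => q_compat hcov hij)

theorem ι_q (a : J G) : a.W.ι ≫ q hcov = qJ a ≫ ιY a :=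
  (cover hcov).map_glueMorphismsOfLocallyDirected (fun a => qJ (G := G) a ≫ ιY a)
    (fun hij => q_compat hcov hij) a

theorem q_apply (a : J G) (x : a.W) : q hcov x.1 = ιY a (qJ a x) := by
  have := congrArg (fun φ : (a.W : Scheme.{u}) ⟶ Y G => φ x) (ι_q hcov a)
  simpa [Scheme.Hom.comp_apply] using this

end Q

end Groth.Agent.Lib.Helper61.GQ
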