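import Mathlib
import Groth.Agent.Lib.Helper61.GQ5

set_option autoImplicit false
universe u
open CategoryTheory CategoryTheory.Limits AlgebraicGeometry Grpd

namespace Groth.Agent.Lib.Helper61.GQ
set_option backward.isDefEq.respectTransparency.types false
set_option maxHeartbeats 400000
open Groth.Agent.Lib.Helper73.GrpdRes

variable {S : Scheme.{u}} {G : Grpd.GroupoidScheme S}
  [IsFinite G.s] [Flat G.s] [LocallyOfFinitePresentation G.s]

theorem tW_qN {W : G.U.Opens} (hW : IsInv G W) (hWa : IsAffineOpen W) :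
    tW W ≫ qN hW = sW W ≫ qN hW := by
  haveI := isAffine_HWU (G := G) hWa
  haveI := isAffine_HWR hW hWa
  have h : tW W ≫ tqW W = sW W ≫ tqW W := Groth.Agent.S1878.t_toQuot (HW (G := G) W)
  rw [← toQuot_κ hW, ← Category.assoc, h, Category.assoc]

section Q

variable (hcov : ∀ x : G.U, ∃ a : J G, x ∈ a.W)

include hcov in
theorem coverR_covers (r : G.R) : ∃ (a : J G) (r' : (HW (G := G) a.W).R), qR G a.W.ι r' = r := by
  obtain ⟨a, ha⟩ := hcov (G.s r)
  exact ⟨a, exists_qR a.W r ((a.inv.mem_iff r).mp ha) ha⟩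

/-- the cover of `R` by the restricted groupoids -/
noncomputable def coverR : G.R.OpenCover :=
  Scheme.Cover.mkOfCovers (J G) (fun a => (HW (G := G) a.W).R) (fun a => qR G a.W.ι)
    (coverR_covers hcov) (fun a => isOpenImmersion_qR a.W)

theorem s_q : G.s ≫ q hcov = G.t ≫ q hcov := by
  refine (coverR hcov).hom_ext _ _ (fun (a : J G) => ?_)
  show qR G a.W.ι ≫ G.s ≫ q hcov = qR G a.W.ι ≫ G.t ≫ q hcov
  rw [← Category.assoc, qR_sW, Category.assoc, ι_q, ← Category.assoc (qR G _), qR_tW,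
    Category.assoc, ι_q]
  have h' : tW a.W ≫ qJ a = sW a.W ≫ qJ a := tW_qN a.inv a.aff
  rw [← Category.assoc, ← Category.assoc, h']

include hcov in
theorem q_surjective : Function.Surjective (q hcov) := by
  intro y
  obtain ⟨a, x', rfl⟩ := ιY_jointly_surjective (G := G) y
  obtain ⟨x, rfl⟩ := qN_surjective a.inv a.aff x'
  exact ⟨x.1, q_apply hcov a x⟩

theorem q_eq_iff (x x' : G.U) :
    q hcov x = q hcov x' ↔ ∃ r : G.R, G.t r = x ∧ G.s r = x' := by
  constructor
  · intro h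
    obtain ⟨a, ha⟩ := hcov x
    obtain ⟨b, hb⟩ := hcov x'
    rw [q_apply hcov a ⟨x, ha⟩, q_apply hcov b ⟨x', hb⟩, ιY_eq_iff] at h
    obtain ⟨l, hla, hlb, z, h1, h2⟩ := h
    obtain ⟨u, rfl⟩ := qN_surjective l.inv l.aff z
    rw [F_map_apply] at h1 h2
    obtain ⟨r₁, h3, h4⟩ := (qN_eq_iff a.inv a.aff _ _).mp h1
    obtain ⟨r₂, h5, h6⟩ := (qN_eq_iff b.inv b.aff _ _).mp h2
    simp only at h3 h4 h5 h6
    obtain ⟨h7, h8⟩ := Groth.Agent.S1881.pt_i (G := G) r₁
    obtain ⟨r, h9, h10⟩ := Groth.Agent.S1881.pt_comp (G := G) (G.i r₁) r₂ (by rw [h7, h3, h5])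
    exact ⟨r, by rw [h10, h8, h4], by rw [h9, h6]⟩
  · rintro ⟨r, rfl, rfl⟩
    obtain ⟨a, ha⟩ := hcov (G.s r)
    have ha' : G.t r ∈ a.W := (a.inv.mem_iff r).mp ha
    rw [q_apply hcov a ⟨_, ha⟩, q_apply hcov a ⟨_, ha'⟩]
    congr 1
    exact (qN_eq_iff a.inv a.aff _ _).mpr ⟨r, rfl, rfl⟩

theorem q_preimage_range (a : J G) : q hcov ⁻¹ᵁ (ιY a).opensRange = a.W := by
  ext x
  constructor
  · rintro ⟨z, hz⟩
    obtain ⟨u, rfl⟩ := qN_surjective a.inv a.aff z
    have h1 : q hcov u.1 = q hcov x := (q_apply hcov a u).trans hz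
    obtain ⟨r, h2, h3⟩ := (q_eq_iff hcov _ _).mp h1
    have : G.s r ∈ a.W := (a.inv.mem_iff r).mpr (h2 ▸ u.2)
    rwa [h3] at this
  · intro hx
    exact ⟨qJ a ⟨x, hx⟩, (q_apply hcov a ⟨x, hx⟩).symm⟩

theorem isPullback_q (a : J G) : IsPullback a.W.ι (qJ a) (q hcov) (ιY a) := by
  refine (IsOpenImmersion.isPullback (qJ a) a.W.ι (ιY a) (q hcov) (ι_q hcov a) ?_).flip
  rw [q_preimage_range, Scheme.Opens.opensRange_ι]

/-- the cover of `Y` by the local quotients -/
noncomputable def coverY : (Y G).OpenCover :=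
  Scheme.Cover.mkOfCovers (J G) (fun a => (F (G := G)).obj a) (fun a => ιY a)
    (fun y => ιY_jointly_surjective y) (fun a => inferInstance)

theorem prop_q (P : MorphismProperty Scheme.{u}) [IsZariskiLocalAtTarget P]
    (hP : ∀ a : J G, P (qJ a)) : P (q hcov) := by
  refine IsZariskiLocalAtTarget.of_openCover (coverY (G := G)) (fun (a : J G) => ?_)
  have h := isPullback_q hcov a
  have e : pullback.snd (q hcov) (ιY a) = h.isoPullback.inv ≫ qJ a := by
    rw [Iso.eq_inv_comp]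
    exact h.isoPullback_hom_snd
  show P (pullback.snd (q hcov) (ιY a))
  rw [e]
  exact (P.cancel_left_of_respectsIso _ _).mpr (hP a)

theorem isIntegralHom_q : IsIntegralHom (q hcov) :=
  prop_q hcov @IsIntegralHom (fun a => isIntegralHom_qN a.inv a.aff)

end Q

end Groth.Agent.Lib.Helper61.GQ
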