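import Mathlib
import Groth.Agent.Lib.Helper61.GQ6

set_option autoImplicit false
universe u
open CategoryTheory CategoryTheory.Limits AlgebraicGeometry Grpd

namespace Groth.Agent.Lib.Helper61.GQ
set_option backward.isDefEq.respectTransparency.types false
set_option maxHeartbeats 400000
open Groth.Agent.Lib.Helper73.GrpdRes

variable {S : Scheme.{u}} {G : Grpd.GroupoidScheme S}

/-- the local quotient map is an epimorphism against maps landing in an affine open -/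
theorem qN_epi_aux {N : G.U.Opens} (hN : IsInv G N) (hNa : IsAffineOpen N) {Z : Scheme.{u}}
    (Z₁ : Z.Opens) (hZ₁ : IsAffineOpen Z₁) (g g' : Yq hN ⟶ Z)
    (hg : Set.range g ⊆ Z₁) (hg' : Set.range g' ⊆ Z₁)
    (h : qN hN ≫ g = qN hN ≫ g') : g = g' := by
  haveI : IsAffine (Z₁ : Scheme.{u}) := hZ₁
  have hr : Set.range Z₁.ι = Z₁ := Scheme.Opens.range_ι Z₁
  set g₁ := IsOpenImmersion.lift Z₁.ι g (by rw [hr]; exact hg) with hg₁
  set g₁' := IsOpenImmersion.lift Z₁.ι g' (by rw [hr]; exact hg') with hg₁'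
  have e1 : g₁ ≫ Z₁.ι = g := IsOpenImmersion.lift_fac _ _ _
  have e1' : g₁' ≫ Z₁.ι = g' := IsOpenImmersion.lift_fac _ _ _
  rw [← e1, ← e1'] at h ⊢
  congr 1
  rw [← Category.assoc, ← Category.assoc, cancel_mono] at h
  rw [← cancel_mono (Z₁ : Scheme.{u}).isoSpec.hom]
  obtain ⟨ψ, hψ⟩ := Spec.map_surjective (g₁ ≫ (Z₁ : Scheme.{u}).isoSpec.hom)
  obtain ⟨ψ', hψ'⟩ := Spec.map_surjective (g₁' ≫ (Z₁ : Scheme.{u}).isoSpec.hom)
  rw [← hψ, ← hψ']
  congr 1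
  have h2 : qN hN ≫ Spec.map ψ = qN hN ≫ Spec.map ψ' := by
    rw [hψ, hψ', ← Category.assoc, h, Category.assoc]
  unfold qN at h2
  haveI : IsIso N.toSpecΓ := by
    rw [← hNa.isoSpec_hom]; infer_instance
  rw [Category.assoc, Category.assoc, cancel_epi, ← Spec.map_comp, ← Spec.map_comp] at h2
  have h3 := Spec.map_injective h2
  ext z
  have h4 := congrArg (fun φ => φ.hom z) h3
  exact h4

section E

variable [IsFinite G.s] [Flat G.s] [LocallyOfFinitePresentation G.s]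

/-- the local quotient map is an epimorphism of schemes -/
theorem qN_epi {W : G.U.Opens} (hW : IsInv G W) (hWa : IsAffineOpen W) {Z : Scheme.{u}}
    (g g' : Yq hW ⟶ Z) (h : qN hW ≫ g = qN hW ≫ g') : g = g' := by
  have hpt : ∀ y : Yq hW, g y = g' y := by
    intro y
    obtain ⟨x, rfl⟩ := qN_surjective hW hWa y
    rw [← Scheme.Hom.comp_apply, h, Scheme.Hom.comp_apply]
  have key : ∀ y : Yq hW, ∃ c : Cinv hW, y ∈ (PrimeSpectrum.basicOpen c : Set (PrimeSpectrum (Cinv hW))) ∧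
      Ymap hW (isInv_Dc hW c) (Dc_le hW c) ≫ g = Ymap hW (isInv_Dc hW c) (Dc_le hW c) ≫ g' := by
    intro y
    obtain ⟨Z₁, hZ₁, hyZ⟩ : ∃ Z₁ : Z.Opens, IsAffineOpen Z₁ ∧ g y ∈ Z₁ := by
      obtain ⟨_, ⟨Z₁, hZ₁, rfl⟩, hy, -⟩ :=
        Z.isBasis_affineOpens.exists_subset_of_mem_open (Set.mem_univ (g y)) isOpen_univ
      exact ⟨Z₁, hZ₁, hy⟩
    have hyO : y ∈ ((g ⁻¹ᵁ Z₁) ⊓ (g' ⁻¹ᵁ Z₁) : (Yq hW).Opens) :=
      ⟨hyZ, by show g' y ∈ Z₁; rw [← hpt]; exact hyZ⟩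
    obtain ⟨_, ⟨_, ⟨c, rfl⟩, rfl⟩, hyc, hcZ⟩ :=
      PrimeSpectrum.isBasis_basic_opens.exists_subset_of_mem_open hyO
        ((g ⁻¹ᵁ Z₁) ⊓ (g' ⁻¹ᵁ Z₁) : (Yq hW).Opens).isOpen
    refine ⟨c, hyc, ?_⟩
    have hrange := (Ymap_Dc_aux hW c hWa).2
    refine qN_epi_aux (isInv_Dc hW c) (hWa.basicOpen _) Z₁ hZ₁ _ _ ?_ ?_ ?_
    · rintro _ ⟨z, rfl⟩
      rw [Scheme.Hom.comp_apply]
      exact (hcZ (hrange ▸ Set.mem_range_self z)).1
    · rintro _ ⟨z, rfl⟩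
      rw [Scheme.Hom.comp_apply]
      exact (hcZ (hrange ▸ Set.mem_range_self z)).2
    · rw [← Category.assoc, ← qN_natural, Category.assoc, h, ← Category.assoc, qN_natural,
        Category.assoc]
  choose c hc1 hc2 using key
  let 𝒰 : (Yq hW).OpenCover :=
    Scheme.Cover.mkOfCovers (Yq hW) (fun y => Yq (isInv_Dc hW (c y)))
      (fun y => Ymap hW (isInv_Dc hW (c y)) (Dc_le hW (c y)))
      (fun y => by
        have hrange := (Ymap_Dc_aux hW (c y) hWa).2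
        have : y ∈ Set.range (Ymap hW (isInv_Dc hW (c y)) (Dc_le hW (c y))) := by
          rw [hrange]; exact hc1 y
        obtain ⟨z, hz⟩ := this
        exact ⟨y, z, hz⟩)
      (fun y => (Ymap_Dc_aux hW (c y) hWa).1)
  exact 𝒰.hom_ext _ _ (fun y => hc2 y)

end E

end Groth.Agent.Lib.Helper61.GQ
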