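import Mathlib
import Groth.Agent.Lib.Helper61.GQ7

set_option autoImplicit false
universe u
open CategoryTheory CategoryTheory.Limits AlgebraicGeometry Grpd

namespace Groth.Agent.Lib.Helper61.GQ
set_option backward.isDefEq.respectTransparency.types false
set_option maxHeartbeats 400000
open Groth.Agent.Lib.Helper73.GrpdRes

variable {S : Scheme.{u}} {G : Grpd.GroupoidScheme S}

section Loc

variable {Z : Scheme.{u}} (f : G.U ⟶ Z) (hf : G.s ≫ f = G.t ≫ f)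

include hf in
theorem isInv_preimage (Z₁ : Z.Opens) : IsInv G (f ⁻¹ᵁ Z₁) := by
  show (G.s ≫ f) ⁻¹ᵁ Z₁ = (G.t ≫ f) ⁻¹ᵁ Z₁
  rw [hf]

include hf in
theorem appLE_mem_Cinv {W : G.U.Opens} (hW : IsInv G W) (Z₁ : Z.Opens) (h : W ≤ f ⁻¹ᵁ Z₁)
    (z : Γ(Z, Z₁)) : (f.appLE Z₁ W h).hom z ∈ Cinv hW := by
  rw [mem_Cinv]
  show ((f.appLE Z₁ W h) ≫ σ W).hom z = ((f.appLE Z₁ W h) ≫ τ hW).hom z
  unfold σ τ
  rw [Scheme.Hom.appLE_comp_appLE, Scheme.Hom.appLE_comp_appLE, appLE_congr_hom hf]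

/-- the ring map defining the local descent -/
noncomputable def φZ {W : G.U.Opens} (hW : IsInv G W) (Z₁ : Z.Opens) (h : W ≤ f ⁻¹ᵁ Z₁) :
    Γ(Z, Z₁) →+* Cinv hW :=
  RingHom.codRestrict (f.appLE Z₁ W h).hom (Cinv hW) (appLE_mem_Cinv f hf hW Z₁ h)

/-- the local descent of `f` -/
noncomputable def gZ {W : G.U.Opens} (hW : IsInv G W) (Z₁ : Z.Opens) (hZ₁ : IsAffineOpen Z₁)
    (h : W ≤ f ⁻¹ᵁ Z₁) : Yq hW ⟶ Z :=
  Spec.map (CommRingCat.ofHom (φZ f hf hW Z₁ h)) ≫ hZ₁.fromSpec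

theorem qN_gZ {W : G.U.Opens} (hW : IsInv G W) (hWa : IsAffineOpen W) (Z₁ : Z.Opens)
    (hZ₁ : IsAffineOpen Z₁) (h : W ≤ f ⁻¹ᵁ Z₁) : qN hW ≫ gZ f hf hW Z₁ hZ₁ h = W.ι ≫ f := by
  unfold qN gZ
  rw [Category.assoc, ← Category.assoc (Spec.map _), ← Spec.map_comp]
  have e : CommRingCat.ofHom (φZ f hf hW Z₁ h) ≫ CommRingCat.ofHom (Cinv hW).subtype =
      f.appLE Z₁ W h := by
    ext z
    rfl
  rw [e, IsAffineOpen.SpecMap_appLE_fromSpec f hZ₁ hWa h, ← Category.assoc,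
    IsAffineOpen.toSpecΓ_fromSpec]

end Loc

section Glue

variable [IsFinite G.s] [Flat G.s] [LocallyOfFinitePresentation G.s]
variable (hcov : ∀ x : G.U, ∃ a : J G, x ∈ a.W)
variable {Z : Scheme.{u}} (f : G.U ⟶ Z) (hf : G.s ≫ f = G.t ≫ f)

/-- invariant affine opens mapping into an affine open of `Z` -/
def IZ : Type u := {a : J G // ∃ Z₁ : Z.Opens, IsAffineOpen Z₁ ∧ a.W ≤ f ⁻¹ᵁ Z₁}

instance : Preorder (IZ f) := inferInstanceAs (Preorder {a : J G // ∃ Z₁ : Z.Opens, IsAffineOpen Z₁ ∧ a.W ≤ f ⁻¹ᵁ Z₁})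

/-- the chosen affine open -/
noncomputable def IZ.Z₁ (a : IZ f) : Z.Opens := a.2.choose

theorem IZ.aff (a : IZ f) : IsAffineOpen a.Z₁ := a.2.choose_spec.1

theorem IZ.le (a : IZ f) : a.1.W ≤ f ⁻¹ᵁ a.Z₁ := a.2.choose_spec.2

include hcov hf in
theorem exists_IZ (x : G.U) : ∃ a : IZ f, x ∈ a.1.W := by
  obtain ⟨b, hb⟩ := hcov x
  obtain ⟨_, ⟨Z₁, hZ₁, rfl⟩, hy, -⟩ :=
    Z.isBasis_affineOpens.exists_subset_of_mem_open (Set.mem_univ (f x)) isOpen_univ
  obtain ⟨l, -, h2, h3⟩ := exists_le_of_mem b (isInv_preimage f hf Z₁) x hb hy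
  exact ⟨⟨l, Z₁, hZ₁, h2⟩, h3⟩

/-- the local descents -/
noncomputable def gI (a : IZ f) : (F (G := G)).obj a.1 ⟶ Z :=
  gZ f hf a.1.inv a.Z₁ a.aff a.le

theorem qJ_gI (a : IZ f) : qJ a.1 ≫ gI f hf a = a.1.W.ι ≫ f :=
  qN_gZ f hf a.1.inv a.1.aff a.Z₁ a.aff a.le

include hcov hf in
theorem coverI_covers (y : Y G) : ∃ (a : IZ f) (z : (F (G := G)).obj a.1), ιY a.1 z = y := by
  obtain ⟨x, rfl⟩ := q_surjective hcov y
  obtain ⟨a, ha⟩ := exists_IZ hcov f hf x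
  exact ⟨a, qJ a.1 ⟨x, ha⟩, (q_apply hcov a.1 ⟨x, ha⟩).symm⟩

/-- the cover of `Y` by the local quotients mapping to affine opens of `Z` -/
noncomputable def coverI : (Y G).OpenCover :=
  Scheme.Cover.mkOfCovers (IZ f) (fun a => (F (G := G)).obj a.1) (fun a => ιY a.1)
    (coverI_covers hcov f hf) (fun a => inferInstance)

instance : Preorder (coverI hcov f hf).I₀ := inferInstanceAs (Preorder (IZ f))

theorem IZ.le_of_hom {i j : (coverI hcov f hf).I₀} (hij : i ⟶ j) :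
    (i : IZ f).1 ≤ (j : IZ f).1 := leOfHom hij

noncomputable instance coverI_locallyDirected : (coverI hcov f hf).LocallyDirected where
  trans {i j} hij := (F (G := G)).map (homOfLE (IZ.le_of_hom hcov f hf hij))
  trans_id i := (F (G := G)).map_id _
  trans_comp {i j k} hij hjk := by
    have := (F (G := G)).map_comp (homOfLE (IZ.le_of_hom hcov f hf hij))
      (homOfLE (IZ.le_of_hom hcov f hf hjk))
    exact this
  w {i j} hij := ιY_w (IZ.le_of_hom hcov f hf hij)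
  property_trans {i j} hij := by
    show IsOpenImmersion ((F (G := G)).map (homOfLE (IZ.le_of_hom hcov f hf hij)))
    infer_instance
  directed {i j} x := by
    have hx : ιY (i : IZ f).1 (pullback.fst ((coverI hcov f hf).f i) ((coverI hcov f hf).f j) x) =
        ιY (j : IZ f).1 (pullback.snd ((coverI hcov f hf).f i) ((coverI hcov f hf).f j) x) := by
      have : (pullback.fst ((coverI hcov f hf).f i) ((coverI hcov f hf).f j) ≫
          (coverI hcov f hf).f i) x = (pullback.snd ((coverI hcov f hf).f i)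
          ((coverI hcov f hf).f j) ≫ (coverI hcov f hf).f j) x := by
        rw [pullback.condition]
      exact this
    obtain ⟨l, hli, hlj, z, h1, h2⟩ := (ιY_eq_iff _ _).mp hx
    let l' : IZ f := ⟨l, (i : IZ f).Z₁, (i : IZ f).aff, (J.le_W hli).trans (i : IZ f).le⟩
    have hli' : l' ≤ (i : IZ f) := hli
    have hlj' : l' ≤ (j : IZ f) := hlj
    refine ⟨l', homOfLE hli', homOfLE hlj', z, ?_⟩
    apply (pullback.fst ((coverI hcov f hf).f i) ((coverI hcov f hf).f j) ≫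
      (coverI hcov f hf).f i).isOpenEmbedding.injective
    rw [← Scheme.Hom.comp_apply, pullback.lift_fst_assoc, Scheme.Hom.comp_apply,
      Scheme.Hom.comp_apply]
    congr 1

end Glue

end Groth.Agent.Lib.Helper61.GQ
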