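import Mathlib
import Groth.Agent.Lib.Helper61.GQ8

set_option autoImplicit false
universe u
open CategoryTheory CategoryTheory.Limits AlgebraicGeometry Grpd

namespace Groth.Agent.Lib.Helper61.GQ
set_option backward.isDefEq.respectTransparency.types false
set_option maxHeartbeats 400000
open Groth.Agent.Lib.Helper73.GrpdRes

variable {S : Scheme.{u}} {G : Grpd.GroupoidScheme S}

section Desc

variable [IsFinite G.s] [Flat G.s] [LocallyOfFinitePresentation G.s]
variable (hcov : ∀ x : G.U, ∃ a : J G, x ∈ a.W)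
variable {Z : Scheme.{u}} (f : G.U ⟶ Z) (hf : G.s ≫ f = G.t ≫ f)

theorem gI_compat {i j : (coverI hcov f hf).I₀} (hij : i ⟶ j) :
    (coverI hcov f hf).trans hij ≫ gI f hf j = gI f hf i := by
  apply qN_epi (i : IZ f).1.inv (i : IZ f).1.aff
  show qJ (i : IZ f).1 ≫ (F (G := G)).map (homOfLE (IZ.le_of_hom hcov f hf hij)) ≫ gI f hf j =
    qJ (i : IZ f).1 ≫ gI f hf i
  rw [← Category.assoc, ← qJ_natural, Category.assoc, qJ_gI, qJ_gI, ← Category.assoc,
    Scheme.homOfLE_ι]

/-- the descended morphism -/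
noncomputable def desc : Y G ⟶ Z :=
  (coverI hcov f hf).glueMorphismsOfLocallyDirected (gI f hf) (fun hij => gI_compat hcov f hf hij)

theorem ι_desc (a : IZ f) : ιY a.1 ≫ desc hcov f hf = gI f hf a :=
  (coverI hcov f hf).map_glueMorphismsOfLocallyDirected (gI f hf)
    (fun hij => gI_compat hcov f hf hij) a

theorem q_desc : q hcov ≫ desc hcov f hf = f := by
  apply Scheme.hom_ext_of_forall
  intro x
  obtain ⟨a, ha⟩ := exists_IZ hcov f hf x
  refine ⟨a.1.W, ha, ?_⟩
  rw [← Category.assoc, ι_q, Category.assoc, ι_desc, qJ_gI]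

end Desc

section Epi

variable [IsFinite G.s] [Flat G.s] [LocallyOfFinitePresentation G.s]
variable (hcov : ∀ x : G.U, ∃ a : J G, x ∈ a.W)

theorem q_epi {Z : Scheme.{u}} (m m' : Y G ⟶ Z) (h : q hcov ≫ m = q hcov ≫ m') : m = m' := by
  apply colimit.hom_ext
  intro a
  apply qN_epi a.inv a.aff
  show qJ a ≫ ιY a ≫ m = qJ a ≫ ιY a ≫ m'
  rw [← Category.assoc, ← ι_q hcov, Category.assoc, h, ← Category.assoc, ι_q, Category.assoc]

/-- `q` is a coequalizer of `(s, t)` -/
noncomputable def isColimit_st : IsColimit (Cofork.ofπ (q hcov) (s_q hcov)) :=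
  Cofork.IsColimit.mk' _ (fun c => ⟨desc hcov c.π c.condition, q_desc hcov c.π c.condition,
    fun {m} hm => q_epi hcov _ _ (hm.trans (q_desc hcov c.π c.condition).symm)⟩)

/-- `q` is a coequalizer of `(t, s)` -/
noncomputable def isColimit_ts : IsColimit (Cofork.ofπ (q hcov) (s_q hcov).symm) :=
  Cofork.IsColimit.mk' _ (fun c => ⟨desc hcov c.π c.condition.symm,
    q_desc hcov c.π c.condition.symm,
    fun {m} hm => q_epi hcov _ _ (hm.trans (q_desc hcov c.π c.condition.symm).symm)⟩)

end Epi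

end Groth.Agent.Lib.Helper61.GQ
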