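import Mathlib
import Groth.Agent.Lib.Helper61.GQ9

set_option autoImplicit false
universe u
open CategoryTheory CategoryTheory.Limits AlgebraicGeometry Grpd

namespace Groth.Agent.Lib.Helper61.GQ
set_option backward.isDefEq.respectTransparency.types false
set_option maxHeartbeats 400000
open Groth.Agent.Lib.Helper73.GrpdRes

variable {S : Scheme.{u}} {G : Grpd.GroupoidScheme S}
  [IsFinite G.s] [Flat G.s] [LocallyOfFinitePresentation G.s]

theorem hcov_of_haff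
    (haff : ∀ x : G.U, ∃ V : G.U.Opens, IsAffineOpen V ∧
      G.t.base '' (G.s.base ⁻¹' {x}) ⊆ (V : Set G.U)) :
    ∀ x : G.U, ∃ a : J G, x ∈ a.W := by
  intro x
  obtain ⟨V, hV, hsub⟩ := haff x
  haveI := isFinite_t G
  haveI := flat_t G
  haveI := lfp_t G
  obtain ⟨W, hWa, hxW, hWinv⟩ := Groth.Agent.S1881.main S G x V hV
    (fun r hr => hsub ⟨r, hr, rfl⟩)
  exact ⟨⟨W, hWinv, hWa⟩, hxW⟩

section Q

variable (hcov : ∀ x : G.U, ∃ a : J G, x ∈ a.W)

theorem isOpenMap_q : IsOpenMap (q hcov) := by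
  haveI := isIntegralHom_q hcov
  have hquot : Topology.IsQuotientMap (q hcov) :=
    (q hcov).isClosedMap.isQuotientMap (q hcov).continuous (q_surjective hcov)
  intro N hN
  rw [← hquot.isOpen_preimage]
  have : (q hcov) ⁻¹' ((q hcov) '' N) = G.s '' (G.t ⁻¹' N) := by
    ext x
    constructor
    · rintro ⟨u, hu, h⟩
      obtain ⟨r, h1, h2⟩ := (q_eq_iff hcov u x).mp h
      exact ⟨r, by show G.t r ∈ N; rw [h1]; exact hu, h2⟩
    · rintro ⟨r, hr, rfl⟩
      exact ⟨G.t r, hr, (q_eq_iff hcov _ _).mpr ⟨r, rfl, rfl⟩⟩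
  rw [this]
  exact G.s.isOpenMap _ (hN.preimage G.t.continuous)

theorem lift_surjective (w : G.t ≫ q hcov = G.s ≫ q hcov) :
    Function.Surjective (pullback.lift G.t G.s w) := by
  intro z
  let k := AlgebraicClosure ((pullback (q hcov) (q hcov)).residueField z)
  obtain ⟨z', hz'def⟩ : ∃ z' : Spec (CommRingCat.of k) ⟶ pullback (q hcov) (q hcov), z' =
    Spec.map (CommRingCat.ofHom (algebraMap ((pullback (q hcov) (q hcov)).residueField z) k)) ≫
      (pullback (q hcov) (q hcov)).fromSpecResidueField z := ⟨_, rfl⟩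
  have hz' : ∀ pt : Spec (CommRingCat.of k), z' pt = z := by
    intro pt
    rw [hz'def, Scheme.Hom.comp_apply, Scheme.fromSpecResidueField_apply]
  obtain ⟨a, ha⟩ := hcov (pullback.fst (q hcov) (q hcov) z)
  have ha' : pullback.snd (q hcov) (q hcov) z ∈ a.W := by
    rw [← q_preimage_range hcov a]
    show q hcov (pullback.snd (q hcov) (q hcov) z) ∈ (ιY a).opensRange
    rw [← Scheme.Hom.comp_apply, ← pullback.condition, Scheme.Hom.comp_apply]
    exact ⟨qJ a ⟨_, ha⟩, (q_apply hcov a ⟨_, ha⟩).symm⟩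
  obtain ⟨x₀, hx₀⟩ : ∃ x₀, x₀ = z' ≫ pullback.fst (q hcov) (q hcov) := ⟨_, rfl⟩
  obtain ⟨x₁, hx₁⟩ : ∃ x₁, x₁ = z' ≫ pullback.snd (q hcov) (q hcov) := ⟨_, rfl⟩
  have hq : x₀ ≫ q hcov = x₁ ≫ q hcov := by
    rw [hx₀, hx₁, Category.assoc, Category.assoc, pullback.condition]
  have hr0 : Set.range x₀ ⊆ Set.range a.W.ι := by
    rintro _ ⟨pt, rfl⟩
    rw [Scheme.Opens.range_ι, hx₀, Scheme.Hom.comp_apply, hz']
    exact ha
  have hr1 : Set.range x₁ ⊆ Set.range a.W.ι := by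
    rintro _ ⟨pt, rfl⟩
    rw [Scheme.Opens.range_ι, hx₁, Scheme.Hom.comp_apply, hz']
    exact ha'
  obtain ⟨x₀', e0⟩ : ∃ x₀' : Spec (CommRingCat.of k) ⟶ (a.W : Scheme.{u}), x₀' ≫ a.W.ι = x₀ :=
    ⟨IsOpenImmersion.lift a.W.ι x₀ hr0, IsOpenImmersion.lift_fac _ _ _⟩
  obtain ⟨x₁', e1⟩ : ∃ x₁' : Spec (CommRingCat.of k) ⟶ (a.W : Scheme.{u}), x₁' ≫ a.W.ι = x₁ :=
    ⟨IsOpenImmersion.lift a.W.ι x₁ hr1, IsOpenImmersion.lift_fac _ _ _⟩
  have h1 : x₀' ≫ qN a.inv = x₁' ≫ qN a.inv := by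
    have : x₀' ≫ qJ a = x₁' ≫ qJ a := by
      rw [← cancel_mono (ιY a), Category.assoc, Category.assoc, ← ι_q hcov, ← Category.assoc,
        ← Category.assoc, e0, e1, hq]
    exact this
  obtain ⟨r, hr1, hr2⟩ := qN_kpoints a.inv a.aff k x₀' x₁' h1
  rw [e0] at hr1
  rw [e1] at hr2
  have h2 : r ≫ pullback.lift G.t G.s w = z' := by
    apply pullback.hom_ext
    · rw [Category.assoc, pullback.lift_fst, hr1, hx₀]
    · rw [Category.assoc, pullback.lift_snd, hr2, hx₁]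
  obtain ⟨pt⟩ : Nonempty (Spec (CommRingCat.of k)) := inferInstance
  refine ⟨r pt, ?_⟩
  rw [← Scheme.Hom.comp_apply, h2, hz']

theorem isInv_top : IsInv G (⊤ : G.U.Opens) := rfl

include hcov in
theorem isAffine_Y [IsAffine G.U] : IsAffine (Y G) := by
  let a₀ : J G := ⟨⊤, isInv_top, isAffineOpen_top G.U⟩
  have hsurj : Function.Surjective (ιY a₀) := by
    intro y
    obtain ⟨x, rfl⟩ := q_surjective hcov y
    exact ⟨qJ a₀ ⟨x, trivial⟩, (q_apply hcov a₀ ⟨x, trivial⟩).symm⟩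
  haveI : Epi (ιY a₀).base := (TopCat.epi_iff_surjective _).mpr hsurj
  haveI : IsIso (ιY a₀) := IsOpenImmersion.isIso (ιY a₀)
  haveI : IsAffine ((F (G := G)).obj a₀) := inferInstanceAs (IsAffine (Spec _))
  exact IsAffine.of_isIso (inv (ιY a₀))

end Q

end Groth.Agent.Lib.Helper61.GQ
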