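import Mathlib
import Groth.Agent.Lib.Helper61.GQ10

set_option autoImplicit false
universe u
open CategoryTheory CategoryTheory.Limits AlgebraicGeometry Grpd

namespace Groth.Agent.Lib.Helper61.GQ
set_option backward.isDefEq.respectTransparency.types false
set_option maxHeartbeats 400000
open Groth.Agent.Lib.Helper73.GrpdRes

variable {S : Scheme.{u}} {G : Grpd.GroupoidScheme S}

theorem isPullback_comp_mono {C : Type*} [Category C] {P X Y Z Z' : C} {fst : P ⟶ X} {snd : P ⟶ Y}
    {f : X ⟶ Z} {g : Y ⟶ Z} (h : IsPullback fst snd f g) (k : Z ⟶ Z') [Mono k] :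
    IsPullback fst snd (f ≫ k) (g ≫ k) := by
  refine ⟨⟨by rw [← Category.assoc, h.w, Category.assoc]⟩, ⟨PullbackCone.IsLimit.mk _
    (fun c => h.lift c.fst c.snd (by
      rw [← cancel_mono k, Category.assoc, Category.assoc]; exact c.condition))
    (fun c => h.lift_fst _ _ _) (fun c => h.lift_snd _ _ _) ?_⟩⟩
  intro c m h1 h2
  apply h.hom_ext
  · rw [h1, h.lift_fst]
  · rw [h2, h.lift_snd]

theorem mono_HWj (W : G.U.Opens) [Mono G.j] : Mono (HW (G := G) W).j := by
  constructor
  intro T x y h
  have ht : x ≫ (HW (G := G) W).t = y ≫ (HW (G := G) W).t := by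
    have := congrArg (fun φ => φ ≫ pullback.fst _ _) h
    simp only [Grpd.GroupoidScheme.j, Category.assoc, pullback.lift_fst] at this
    exact this
  have hs : x ≫ (HW (G := G) W).s = y ≫ (HW (G := G) W).s := by
    have := congrArg (fun φ => φ ≫ pullback.snd _ _) h
    simp only [Grpd.GroupoidScheme.j, Category.assoc, pullback.lift_snd] at this
    exact this
  refine R_hom_ext ht ?_ hs
  rw [← cancel_mono G.j]
  unfold Grpd.GroupoidScheme.j
  apply pullback.hom_ext
  · rw [Category.assoc, Category.assoc, pullback.lift_fst, Category.assoc, Category.assoc,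
      pullback.lift_fst, qR_t, ← Category.assoc, ht, Category.assoc]
  · rw [Category.assoc, Category.assoc, pullback.lift_snd, Category.assoc, Category.assoc,
      pullback.lift_snd, qR_s, ← Category.assoc, hs, Category.assoc]

section M

variable [IsFinite G.s] [Flat G.s] [LocallyOfFinitePresentation G.s] [Mono G.j]
variable {W : G.U.Opens} (hW : IsInv G W) (hWa : IsAffineOpen W)

include hWa in
theorem qN_props : IsFinite (qN hW) ∧ Flat (qN hW) ∧ LocallyOfFinitePresentation (qN hW) := by
  haveI := isAffine_HWU (G := G) hWa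
  haveI := isAffine_HWR hW hWa
  haveI := isFinite_HWs hW
  haveI := flat_HWs hW
  haveI := lfp_HWs hW
  haveI := isFinite_HWt hW
  haveI := flat_HWt hW
  haveI := lfp_HWt hW
  haveI := mono_HWj (G := G) W
  obtain ⟨⟨h1, h2, h3⟩, -⟩ := Groth.Agent.S1877.result S (HW (G := G) W)
  haveI : IsFinite (tqW (G := G) W) := h1
  haveI : Flat (tqW (G := G) W) := h2
  haveI : LocallyOfFinitePresentation (tqW (G := G) W) := h3
  rw [← toQuot_κ hW]
  exact ⟨inferInstance, inferInstance, inferInstance⟩

include hWa in
theorem isPullback_tW_sW : IsPullback (tW W) (sW W) (qN hW) (qN hW) := by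
  haveI := isAffine_HWU (G := G) hWa
  haveI := isAffine_HWR hW hWa
  haveI := isFinite_HWs hW
  haveI := flat_HWs hW
  haveI := lfp_HWs hW
  haveI := isFinite_HWt hW
  haveI := flat_HWt hW
  haveI := lfp_HWt hW
  haveI := mono_HWj (G := G) W
  obtain ⟨-, φ, h1, h2⟩ := Groth.Agent.S1877.result S (HW (G := G) W)
  have hp : IsPullback (HW (G := G) W).t (HW (G := G) W).s (HW (G := G) W).toQuot
      (HW (G := G) W).toQuot :=
    IsPullback.of_iso_pullback ⟨Groth.Agent.S1878.t_toQuot (HW (G := G) W)⟩ φ h1 h2
  have hp' : IsPullback (tW W) (sW W) (tqW (G := G) W) (tqW (G := G) W) := hp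
  have := isPullback_comp_mono hp' (Spec.map (CommRingCat.ofHom (κ hW)))
  rwa [toQuot_κ] at this

end M

end Groth.Agent.Lib.Helper61.GQ
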