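import Mathlib
import Groth.Agent.Lib.Helper61.GQ11

set_option autoImplicit false
universe u
open CategoryTheory CategoryTheory.Limits AlgebraicGeometry Grpd

namespace Groth.Agent.Lib.Helper61.GQ
set_option backward.isDefEq.respectTransparency.types false
set_option maxHeartbeats 400000
open Groth.Agent.Lib.Helper73.GrpdRes

variable {S : Scheme.{u}} {G : Grpd.GroupoidScheme S}
  [IsFinite G.s] [Flat G.s] [LocallyOfFinitePresentation G.s]

section Q

variable (hcov : ∀ x : G.U, ∃ a : J G, x ∈ a.W)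

section Props

variable [Mono G.j]

theorem isFinite_q : IsFinite (q hcov) :=
  prop_q hcov @IsFinite (fun a => (qN_props a.inv a.aff).1)

theorem flat_q : Flat (q hcov) :=
  prop_q hcov @Flat (fun a => (qN_props a.inv a.aff).2.1)

theorem lfp_q : LocallyOfFinitePresentation (q hcov) :=
  prop_q hcov @LocallyOfFinitePresentation (fun a => (qN_props a.inv a.aff).2.2)

end Props

/-- the local comparison map -/
noncomputable def ψa (a : J G) : (HW (G := G) a.W).R ⟶ pullback (qJ a) (qJ a) :=
  pullback.lift (tW a.W) (sW a.W) (tW_qN a.inv a.aff)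

theorem isIso_ψa [Mono G.j] (a : J G) : IsIso (ψa a) := by
  have hp : IsPullback (tW a.W) (sW a.W) (qJ a) (qJ a) := isPullback_tW_sW a.inv a.aff
  have e : ψa a = hp.isoPullback.hom := by
    apply pullback.hom_ext
    · rw [hp.isoPullback_hom_fst]
      exact pullback.lift_fst _ _ _
    · rw [hp.isoPullback_hom_snd]
      exact pullback.lift_snd _ _ _
  rw [e]
  infer_instance

/-- the inclusion of the local fibre product -/
noncomputable def ia (a : J G) : pullback (qJ a) (qJ a) ⟶ pullback (q hcov) (q hcov) :=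
  pullback.map (qJ a) (qJ a) (q hcov) (q hcov) a.W.ι a.W.ι (ιY a) (ι_q hcov a).symm
    (ι_q hcov a).symm

instance isOpenImmersion_ia (a : J G) : IsOpenImmersion (ia hcov a) := by
  unfold ia
  infer_instance

theorem ia_fst (a : J G) :
    ia hcov a ≫ pullback.fst (q hcov) (q hcov) = pullback.fst (qJ a) (qJ a) ≫ a.W.ι :=
  pullback.lift_fst _ _ _

theorem ia_snd (a : J G) :
    ia hcov a ≫ pullback.snd (q hcov) (q hcov) = pullback.snd (qJ a) (qJ a) ≫ a.W.ι :=
  pullback.lift_snd _ _ _

theorem range_ia (a : J G) : Set.range (ia hcov a) =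
    pullback.fst (q hcov) (q hcov) ⁻¹' (a.W : Set G.U) ∩
      pullback.snd (q hcov) (q hcov) ⁻¹' (a.W : Set G.U) := by
  unfold ia
  rw [Scheme.Pullback.range_map, Scheme.Opens.range_ι]

variable (w : G.t ≫ q hcov = G.s ≫ q hcov)

theorem qR_ψ (a : J G) :
    qR G a.W.ι ≫ pullback.lift G.t G.s w = ψa a ≫ ia hcov a := by
  apply pullback.hom_ext
  · rw [Category.assoc, pullback.lift_fst, Category.assoc, ia_fst, qR_tW]
    unfold ψa
    rw [← Category.assoc, pullback.lift_fst]
  · rw [Category.assoc, pullback.lift_snd, Category.assoc, ia_snd, qR_sW]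
    unfold ψa
    rw [← Category.assoc, pullback.lift_snd]

theorem ψ_preimage (a : J G) :
    (pullback.lift G.t G.s w) ⁻¹ᵁ (ia hcov a).opensRange = (qR G a.W.ι).opensRange := by
  ext r
  have h1 : r ∈ (pullback.lift G.t G.s w) ⁻¹ᵁ (ia hcov a).opensRange ↔
      (pullback.lift G.t G.s w) r ∈ Set.range (ia hcov a) := Iff.rfl
  have h2 : r ∈ (qR G a.W.ι).opensRange ↔ r ∈ Set.range (qR G a.W.ι) := Iff.rfl
  have e1 : pullback.fst (q hcov) (q hcov) (pullback.lift G.t G.s w r) = G.t r := by
    rw [← Scheme.Hom.comp_apply, pullback.lift_fst]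
  have e2 : pullback.snd (q hcov) (q hcov) (pullback.lift G.t G.s w r) = G.s r := by
    rw [← Scheme.Hom.comp_apply, pullback.lift_snd]
  show r ∈ (pullback.lift G.t G.s w) ⁻¹ᵁ (ia hcov a).opensRange ↔ r ∈ (qR G a.W.ι).opensRange
  rw [h1, h2, range_ia]
  constructor
  · rintro ⟨h3, h4⟩
    have h3' : G.t r ∈ a.W := by rw [← e1]; exact h3
    have h4' : G.s r ∈ a.W := by rw [← e2]; exact h4
    exact exists_qR a.W r h3' h4'
  · rintro ⟨r', rfl⟩
    refine ⟨?_, ?_⟩
    · show pullback.fst (q hcov) (q hcov) _ ∈ a.W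
      rw [e1, qR_t_apply]
      exact Subtype.property _
    · show pullback.snd (q hcov) (q hcov) _ ∈ a.W
      rw [e2, qR_s_apply]
      exact Subtype.property _

theorem isPullback_ψ (a : J G) :
    IsPullback (ψa a) (qR G a.W.ι) (ia hcov a) (pullback.lift G.t G.s w) :=
  IsOpenImmersion.isPullback _ _ _ _ (qR_ψ hcov w a) (ψ_preimage hcov w a)

include hcov in
theorem coverP_covers (z : (pullback (q hcov) (q hcov) : Scheme.{u})) :
    ∃ (a : J G) (z' : (pullback (qJ a) (qJ a) : Scheme.{u})), ia hcov a z' = z := by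
  obtain ⟨a, ha⟩ := hcov (pullback.fst (q hcov) (q hcov) z)
  have ha' : pullback.snd (q hcov) (q hcov) z ∈ a.W := by
    rw [← q_preimage_range hcov a]
    show q hcov (pullback.snd (q hcov) (q hcov) z) ∈ (ιY a).opensRange
    rw [← Scheme.Hom.comp_apply, ← pullback.condition, Scheme.Hom.comp_apply]
    exact ⟨qJ a ⟨_, ha⟩, (q_apply hcov a ⟨_, ha⟩).symm⟩
  have : z ∈ Set.range (ia hcov a) := by
    rw [range_ia]
    exact ⟨ha, ha'⟩
  obtain ⟨z', hz'⟩ := this
  exact ⟨a, z', hz'⟩

/-- the cover of `U ×_Y U` by the local fibre products -/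
noncomputable def coverP : (pullback (q hcov) (q hcov)).OpenCover :=
  Scheme.Cover.mkOfCovers (J G) (fun a => pullback (qJ a) (qJ a)) (fun a => ia hcov a)
    (coverP_covers hcov) (fun a => isOpenImmersion_ia hcov a)

theorem isIso_ψ [Mono G.j] : IsIso (pullback.lift G.t G.s w) := by
  have : MorphismProperty.isomorphisms Scheme.{u} (pullback.lift G.t G.s w) := by
    refine IsZariskiLocalAtTarget.of_openCover (coverP hcov) (fun (a : J G) => ?_)
    have h := (isPullback_ψ hcov w a).flip
    have e : pullback.snd (pullback.lift G.t G.s w) (ia hcov a) = h.isoPullback.inv ≫ ψa a := by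
      rw [Iso.eq_inv_comp]
      exact h.isoPullback_hom_snd
    show IsIso (pullback.snd (pullback.lift G.t G.s w) (ia hcov a))
    rw [e]
    haveI := isIso_ψa a
    infer_instance
  exact this

end Q

end Groth.Agent.Lib.Helper61.GQ
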