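import Mathlib
import Groth.Agent.Lib.Helper61.GQ12
import Groth.Agent.Lib.Helper19.FlatStalkDescent

set_option autoImplicit false
universe u
open CategoryTheory CategoryTheory.Limits AlgebraicGeometry Grpd

namespace Groth.Agent.Lib.Helper61.GQ
set_option backward.isDefEq.respectTransparency.types false
set_option maxHeartbeats 400000
open Groth.Agent.Lib.Helper73.GrpdRes

variable {S : Scheme.{u}} {G : Grpd.GroupoidScheme S}

theorem mono_restrict {U' : Scheme.{u}} (g : U' ⟶ G.U) [Mono G.j] :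
    Mono (restrictAlong G g).j := by
  constructor
  intro T x y h
  have ht : x ≫ (restrictAlong G g).t = y ≫ (restrictAlong G g).t := by
    have := congrArg (fun φ => φ ≫ pullback.fst _ _) h
    simp only [Grpd.GroupoidScheme.j, Category.assoc, pullback.lift_fst] at this
    exact this
  have hs : x ≫ (restrictAlong G g).s = y ≫ (restrictAlong G g).s := by
    have := congrArg (fun φ => φ ≫ pullback.snd _ _) h
    simp only [Grpd.GroupoidScheme.j, Category.assoc, pullback.lift_snd] at this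
    exact this
  refine R_hom_ext ht ?_ hs
  rw [← cancel_mono G.j]
  unfold Grpd.GroupoidScheme.j
  apply pullback.hom_ext
  · rw [Category.assoc, Category.assoc, pullback.lift_fst, Category.assoc, Category.assoc,
      pullback.lift_fst, qR_t, ← Category.assoc, ht, Category.assoc]
  · rw [Category.assoc, Category.assoc, pullback.lift_snd, Category.assoc, Category.assoc,
      pullback.lift_snd, qR_s, ← Category.assoc, hs, Category.assoc]

/-- two `T`-points of `R` with the same target and source agree when `j` is a monomorphism -/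
theorem eq_of_t_s [Mono G.j] {T : Scheme.{u}} (x y : T ⟶ G.R) (ht : x ≫ G.t = y ≫ G.t)
    (hs : x ≫ G.s = y ≫ G.s) : x = y := by
  rw [← cancel_mono G.j]
  unfold Grpd.GroupoidScheme.j
  apply pullback.hom_ext
  · rw [Category.assoc, Category.assoc, pullback.lift_fst, ht]
  · rw [Category.assoc, Category.assoc, pullback.lift_snd, hs]

section K

variable [IsFinite G.s] [Flat G.s] [LocallyOfFinitePresentation G.s]
variable (hcov : ∀ x : G.U, ∃ a : J G, x ∈ a.W)

theorem q_kpoints (k : Type u) [Field k] [IsAlgClosed k]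
    (x₀ x₁ : Spec (CommRingCat.of k) ⟶ G.U) (hq : x₀ ≫ q hcov = x₁ ≫ q hcov) :
    ∃ r : Spec (CommRingCat.of k) ⟶ G.R, r ≫ G.t = x₀ ∧ r ≫ G.s = x₁ := by
  obtain ⟨pt⟩ : Nonempty (Spec (CommRingCat.of k)) := inferInstance
  haveI : Subsingleton (Spec (CommRingCat.of k)) :=
    inferInstanceAs (Subsingleton (PrimeSpectrum k))
  obtain ⟨a, ha⟩ := hcov (x₀ pt)
  have ha' : x₁ pt ∈ a.W := by
    rw [← q_preimage_range hcov a]
    show q hcov (x₁ pt) ∈ (ιY a).opensRange
    rw [← Scheme.Hom.comp_apply, ← hq, Scheme.Hom.comp_apply]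
    exact ⟨qJ a ⟨_, ha⟩, (q_apply hcov a ⟨_, ha⟩).symm⟩
  have hr0 : Set.range x₀ ⊆ Set.range a.W.ι := by
    rintro _ ⟨pt', rfl⟩
    rw [Scheme.Opens.range_ι, Subsingleton.elim pt' pt]
    exact ha
  have hr1 : Set.range x₁ ⊆ Set.range a.W.ι := by
    rintro _ ⟨pt', rfl⟩
    rw [Scheme.Opens.range_ι, Subsingleton.elim pt' pt]
    exact ha'
  obtain ⟨x₀', e0⟩ : ∃ x₀' : Spec (CommRingCat.of k) ⟶ (a.W : Scheme.{u}), x₀' ≫ a.W.ι = x₀ :=
    ⟨IsOpenImmersion.lift a.W.ι x₀ hr0, IsOpenImmersion.lift_fac _ _ _⟩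
  obtain ⟨x₁', e1⟩ : ∃ x₁' : Spec (CommRingCat.of k) ⟶ (a.W : Scheme.{u}), x₁' ≫ a.W.ι = x₁ :=
    ⟨IsOpenImmersion.lift a.W.ι x₁ hr1, IsOpenImmersion.lift_fac _ _ _⟩
  have h1 : x₀' ≫ qN a.inv = x₁' ≫ qN a.inv := by
    have : x₀' ≫ qJ a = x₁' ≫ qJ a := by
      rw [← cancel_mono (ιY a), Category.assoc, Category.assoc, ← ι_q hcov, ← Category.assoc,
        ← Category.assoc, e0, e1, hq]
    exact this
  obtain ⟨r, hr1, hr2⟩ := qN_kpoints a.inv a.aff k x₀' x₁' h1
  rw [e0] at hr1
  rw [e1] at hr2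
  exact ⟨r, hr1, hr2⟩

end K

/-- `k`-points lift along finite surjective morphisms, `k` algebraically closed -/
theorem lift_kpoint_of_finite {X Y : Scheme.{u}} (v : X ⟶ Y) [IsFinite v] [Surjective v]
    (k : Type u) [Field k] [IsAlgClosed k] (a : Spec (CommRingCat.of k) ⟶ Y) :
    ∃ g : Spec (CommRingCat.of k) ⟶ X, g ≫ v = a := by
  haveI : IsFinite (pullback.fst a v) := inferInstance
  haveI : Surjective (pullback.fst a v) := inferInstance
  haveI : IsAffine (pullback a v) := isAffine_of_isAffineHom (pullback.fst a v)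
  suffices h : ∃ σ : Spec (CommRingCat.of k) ⟶ pullback a v, σ ≫ pullback.fst a v = 𝟙 _ by
    obtain ⟨σ, hσ⟩ := h
    exact ⟨σ ≫ pullback.snd a v, by
      rw [Category.assoc, ← pullback.condition, ← Category.assoc, hσ, Category.id_comp]⟩
  set A := Γ(pullback a v, ⊤) with hA
  have hfin : (pullback.fst a v).appTop.hom.Finite :=
    ((HasAffineProperty.iff_of_isAffine (P := @IsFinite)).mp inferInstance).2
  set φ : CommRingCat.of k ⟶ A := (Scheme.ΓSpecIso (CommRingCat.of k)).inv ≫
    (pullback.fst a v).appTop with hφ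
  have hφfin : φ.hom.Finite := by
    rw [hφ, CommRingCat.hom_comp]
    refine RingHom.Finite.comp hfin ?_
    exact RingHom.Finite.of_surjective _
      ((ConcreteCategory.bijective_of_isIso (Scheme.ΓSpecIso (CommRingCat.of k)).inv).2)
  obtain ⟨z⟩ : Nonempty (pullback a v : Scheme.{u}) := by
    obtain ⟨pt⟩ : Nonempty (Spec (CommRingCat.of k)) := inferInstance
    obtain ⟨z, -⟩ := (pullback.fst a v).surjective pt
    exact ⟨z⟩
  haveI : Nontrivial A := by
    by_contra hne
    rw [not_nontrivial_iff_subsingleton] at hne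
    have : IsEmpty (Spec A) := inferInstanceAs (IsEmpty (PrimeSpectrum A))
    exact this.false ((pullback a v).isoSpec.hom z)
  algebraize [φ.hom]
  haveI : Module.Finite k A := hφfin
  obtain ⟨m, hm⟩ := Ideal.exists_maximal A
  letI : Field (A ⧸ m) := Ideal.Quotient.field m
  haveI : Algebra.IsIntegral k (A ⧸ m) := Algebra.IsIntegral.of_finite k (A ⧸ m)
  have hbij : Function.Bijective (algebraMap k (A ⧸ m)) :=
    IsAlgClosed.algebraMap_bijective_of_isIntegral
  let e : k ≃+* A ⧸ m := RingEquiv.ofBijective (algebraMap k (A ⧸ m)) hbij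
  let ψ : A →+* k := (e.symm : A ⧸ m →+* k).comp (Ideal.Quotient.mk m)
  have hψ : ψ.comp φ.hom = RingHom.id k := by
    ext c
    show e.symm (Ideal.Quotient.mk m (algebraMap k A c)) = c
    have : Ideal.Quotient.mk m (algebraMap k A c) = e c := rfl
    rw [this, RingEquiv.symm_apply_apply]
  refine ⟨Spec.map (CommRingCat.ofHom ψ) ≫ (pullback a v).isoSpec.inv, ?_⟩
  rw [Category.assoc, ← Scheme.isoSpec_inv_naturality, ← Category.assoc, ← Spec.map_comp,
    Scheme.isoSpec_Spec_inv, ← Spec.map_comp]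
  have : (Scheme.ΓSpecIso (CommRingCat.of k)).inv ≫ (pullback.fst a v).appTop ≫
      CommRingCat.ofHom ψ = 𝟙 _ := by
    rw [← Category.assoc]
    ext c
    exact RingHom.congr_fun hψ c
  rw [this, Spec.map_id]

/-- flatness descends along a flat surjective morphism on the source -/
theorem flat_of_comp_surjective {X Y Z : Scheme.{u}} (v : X ⟶ Y) (p : Y ⟶ Z) [Flat v]
    (hv : Function.Surjective v) [Flat (v ≫ p)] : Flat p := by
  refine Flat.of_stalkMap _ (fun y => ?_)
  obtain ⟨x, rfl⟩ := hv y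
  have h1 : ((v ≫ p).stalkMap x).hom.Flat := Flat.stalkMap (v ≫ p) x
  have h2 : (v.stalkMap x).hom.Flat := Flat.stalkMap v x
  have h1' : ((v.stalkMap x).hom.comp (p.stalkMap (v x)).hom).Flat := by
    have h := h1
    rw [Scheme.Hom.stalkMap_comp] at h
    exact h
  have hff : (v.stalkMap x).hom.FaithfullyFlat := by
    letI : Algebra (Y.presheaf.stalk (v x)) (X.presheaf.stalk x) := (v.stalkMap x).hom.toAlgebra
    haveI : IsLocalHom (algebraMap (Y.presheaf.stalk (v x)) (X.presheaf.stalk x)) :=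
      inferInstanceAs (IsLocalHom (v.stalkMap x).hom)
    haveI : Module.Flat (Y.presheaf.stalk (v x)) (X.presheaf.stalk x) := h2
    exact Module.FaithfullyFlat.of_flat_of_isLocalHom
  exact Groth.Agent.Lib.Helper19.RingHom.Flat.of_comp_of_faithfullyFlat _ _ hff h1'

end Groth.Agent.Lib.Helper61.GQ
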