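import Mathlib
import Groth.Agent.Lib.Helper61.GQ13

set_option autoImplicit false
universe u
open CategoryTheory CategoryTheory.Limits AlgebraicGeometry Grpd

namespace Groth.Agent.Lib.Helper61.GQ
set_option backward.isDefEq.respectTransparency.types false
set_option maxHeartbeats 400000
open Groth.Agent.Lib.Helper73.GrpdRes Groth.Agent.Lib.Helper72.GrpdPts

variable {S : Scheme.{u}} (G : Grpd.GroupoidScheme S) {U' : Scheme.{u}} (u : U' ⟶ G.U)

/-- the restricted groupoid -/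
noncomputable abbrev GR : Grpd.GroupoidScheme S := restrictAlong G u

/-- typed source of the restricted groupoid -/
noncomputable def sR : (GR G u).R ⟶ U' := (GR G u).s

/-- typed target of the restricted groupoid -/
noncomputable def tR : (GR G u).R ⟶ U' := (GR G u).t

theorem qR_tR : qR G u ≫ G.t = tR G u ≫ u := qR_t G u

theorem qR_sR : qR G u ≫ G.s = sR G u ≫ u := qR_s G u

variable {G u} in
/-- typed constructor of points of the restricted groupoid -/
noncomputable def mkR' {T : Scheme.{u}} (a : T ⟶ U') (α : T ⟶ G.R) (b : T ⟶ U')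
    (h1 : a ≫ u = α ≫ G.t) (h2 : α ≫ G.s = b ≫ u) : T ⟶ (GR G u).R := mkR a α b h1 h2

variable {G u} in
theorem mkR'_t {T : Scheme.{u}} (a : T ⟶ U') (α : T ⟶ G.R) (b : T ⟶ U')
    (h1 : a ≫ u = α ≫ G.t) (h2 : α ≫ G.s = b ≫ u) : mkR' a α b h1 h2 ≫ tR G u = a :=
  mkR_t a α b h1 h2

variable {G u} in
theorem mkR'_s {T : Scheme.{u}} (a : T ⟶ U') (α : T ⟶ G.R) (b : T ⟶ U')
    (h1 : a ≫ u = α ≫ G.t) (h2 : α ≫ G.s = b ≫ u) : mkR' a α b h1 h2 ≫ sR G u = b :=
  mkR_s a α b h1 h2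

variable {G u} in
theorem mkR'_qR {T : Scheme.{u}} (a : T ⟶ U') (α : T ⟶ G.R) (b : T ⟶ U')
    (h1 : a ≫ u = α ≫ G.t) (h2 : α ≫ G.s = b ≫ u) : mkR' a α b h1 h2 ≫ qR G u = α :=
  mkR_qR a α b h1 h2

/-- arrows with target in `U'` -/
noncomputable abbrev Vq : Scheme.{u} := pullback G.t u

/-- the arrow component -/
noncomputable def fV : Vq G u ⟶ G.R := pullback.fst G.t u

/-- the target component -/
noncomputable def sV : Vq G u ⟶ U' := pullback.snd G.t u

/-- the source map `V ⟶ U` -/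
noncomputable def vV : Vq G u ⟶ G.U := pullback.fst G.t u ≫ G.s

theorem fV_t : fV G u ≫ G.t = sV G u ≫ u := pullback.condition

theorem fV_s : fV G u ≫ G.s = vV G u := rfl

variable {G u} in
/-- constructor of points of `V` -/
noncomputable def mkV {T : Scheme.{u}} (α : T ⟶ G.R) (x : T ⟶ U') (h : α ≫ G.t = x ≫ u) :
    T ⟶ Vq G u := pullback.lift α x h

variable {G u} in
theorem mkV_fV {T : Scheme.{u}} (α : T ⟶ G.R) (x : T ⟶ U') (h : α ≫ G.t = x ≫ u) :
    mkV α x h ≫ fV G u = α := pullback.lift_fst _ _ _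

variable {G u} in
theorem mkV_sV {T : Scheme.{u}} (α : T ⟶ G.R) (x : T ⟶ U') (h : α ≫ G.t = x ≫ u) :
    mkV α x h ≫ sV G u = x := pullback.lift_snd _ _ _

variable {G u} in
theorem mkV_vV {T : Scheme.{u}} (α : T ⟶ G.R) (x : T ⟶ U') (h : α ≫ G.t = x ≫ u) :
    mkV α x h ≫ vV G u = α ≫ G.s := by
  unfold vV
  rw [← Category.assoc]
  congr 1
  exact pullback.lift_fst _ _ _

theorem hh_eq : hh G u = (pullbackSymmetry u G.t).hom ≫ vV G u := by
  unfold vV
  rw [← Category.assoc, pullbackSymmetry_hom_comp_fst]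

theorem finLocFree_sR [IsFinite (vV G u)] [Flat (vV G u)]
    [LocallyOfFinitePresentation (vV G u)] :
    IsFinite (GR G u).s ∧ Flat (GR G u).s ∧ LocallyOfFinitePresentation (GR G u).s := by
  haveI : IsFinite (hh G u) := by rw [hh_eq]; infer_instance
  haveI : Flat (hh G u) := by rw [hh_eq]; infer_instance
  haveI : LocallyOfFinitePresentation (hh G u) := by rw [hh_eq]; infer_instance
  refine ⟨?_, ?_, ?_⟩
  · show IsFinite (pullback.snd (hh G u) u)
    infer_instance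
  · show Flat (pullback.snd (hh G u) u)
    infer_instance
  · show LocallyOfFinitePresentation (pullback.snd (hh G u) u)
    infer_instance

theorem haff_restrict
    (h2 : ∀ E : Set U', (∀ x ∈ E, ∀ y ∈ E, ∃ r : G.R, G.t.base r = u.base x ∧
      G.s.base r = u.base y) → ∃ W : U'.Opens, IsAffineOpen W ∧ E ⊆ (W : Set U')) :
    ∀ x : (GR G u).U, ∃ V : (GR G u).U.Opens, IsAffineOpen V ∧
      (GR G u).t.base '' ((GR G u).s.base ⁻¹' {x}) ⊆ (V : Set (GR G u).U) := by
  intro x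
  apply h2
  rintro _ ⟨r₁', hr₁, rfl⟩ _ ⟨r₂', hr₂, rfl⟩
  have e1t : G.t (qR G u r₁') = u (tR G u r₁') := by
    rw [← Scheme.Hom.comp_apply, qR_tR, Scheme.Hom.comp_apply]
  have e1s : G.s (qR G u r₁') = u (sR G u r₁') := by
    rw [← Scheme.Hom.comp_apply, qR_sR, Scheme.Hom.comp_apply]
  have e2t : G.t (qR G u r₂') = u (tR G u r₂') := by
    rw [← Scheme.Hom.comp_apply, qR_tR, Scheme.Hom.comp_apply]
  have e2s : G.s (qR G u r₂') = u (sR G u r₂') := by
    rw [← Scheme.Hom.comp_apply, qR_sR, Scheme.Hom.comp_apply]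
  have hr₁' : sR G u r₁' = x := hr₁
  have hr₂' : sR G u r₂' = x := hr₂
  obtain ⟨h7, h8⟩ := Groth.Agent.S1881.pt_i (G := G) (qR G u r₂')
  obtain ⟨r, h9, h10⟩ := Groth.Agent.S1881.pt_comp (G := G) (qR G u r₁') (G.i (qR G u r₂'))
    (by rw [h8, e1s, e2s, hr₁', hr₂'])
  refine ⟨r, ?_, ?_⟩
  · exact h10.trans e1t
  · exact h9.trans (h7.trans e2t)

end Groth.Agent.Lib.Helper61.GQ
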