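import Mathlib
import Groth.Agent.Lib.Helper61.GQ14

set_option autoImplicit false
universe u
open CategoryTheory CategoryTheory.Limits AlgebraicGeometry Grpd

namespace Groth.Agent.Lib.Helper61.GQ
set_option backward.isDefEq.respectTransparency.types false
set_option maxHeartbeats 400000
open Groth.Agent.Lib.Helper73.GrpdRes Groth.Agent.Lib.Helper72.GrpdPts

variable {S : Scheme.{u}} (G : Grpd.GroupoidScheme S) {U' : Scheme.{u}} (u : U' ⟶ G.U)
  [IsFinite (GR G u).s] [Flat (GR G u).s] [LocallyOfFinitePresentation (GR G u).s]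
  (hcov : ∀ x : (GR G u).U, ∃ a : J (GR G u), x ∈ a.W)

/-- the quotient of the restricted groupoid -/
noncomputable abbrev YR : Scheme.{u} := Y (GR G u)

/-- the quotient map of the restricted groupoid, typed -/
noncomputable def qQ : U' ⟶ YR G u := q hcov

theorem sR_qQ : sR G u ≫ qQ G u hcov = tR G u ≫ qQ G u hcov := s_q hcov

/-- composition `α ∘ β⁻¹` of two arrows with the same source -/
noncomputable def mulInv {T : Scheme.{u}} (α β : T ⟶ G.R) (h : α ≫ G.s = β ≫ G.s) : T ⟶ G.R :=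
  mul G α (β ≫ G.i) (by rw [Category.assoc, G.i_t]; exact h)

theorem mulInv_t {T : Scheme.{u}} (α β : T ⟶ G.R) (h : α ≫ G.s = β ≫ G.s) :
    mulInv G α β h ≫ G.t = α ≫ G.t := by
  unfold mulInv; rw [mul_t]

theorem mulInv_s {T : Scheme.{u}} (α β : T ⟶ G.R) (h : α ≫ G.s = β ≫ G.s) :
    mulInv G α β h ≫ G.s = β ≫ G.t := by
  unfold mulInv; rw [mul_s, Category.assoc, G.i_s]

/-- two points of `V` over the same point of `U` have equivalent targets -/
theorem compat_qQ {Z : Scheme.{u}} (g₁ g₂ : Z ⟶ Vq G u) (h : g₁ ≫ vV G u = g₂ ≫ vV G u) :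
    g₁ ≫ sV G u ≫ qQ G u hcov = g₂ ≫ sV G u ≫ qQ G u hcov := by
  have hs : (g₁ ≫ fV G u) ≫ G.s = (g₂ ≫ fV G u) ≫ G.s := by
    rw [Category.assoc, Category.assoc, fV_s]; exact h
  have ht1 : (g₁ ≫ fV G u) ≫ G.t = (g₁ ≫ sV G u) ≫ u := by
    rw [Category.assoc, Category.assoc, fV_t]
  have ht2 : (g₂ ≫ fV G u) ≫ G.t = (g₂ ≫ sV G u) ≫ u := by
    rw [Category.assoc, Category.assoc, fV_t]
  have hρt : mulInv G _ _ hs ≫ G.t = (g₁ ≫ sV G u) ≫ u := by rw [mulInv_t, ht1]
  have hρs : mulInv G _ _ hs ≫ G.s = (g₂ ≫ sV G u) ≫ u := by rw [mulInv_s, ht2]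
  have := congrArg (fun φ => mkR' (g₁ ≫ sV G u) (mulInv G _ _ hs) (g₂ ≫ sV G u) hρt.symm hρs ≫ φ)
    (sR_qQ G u hcov)
  simp only [← Category.assoc, mkR'_t, mkR'_s] at this
  rw [← Category.assoc, ← Category.assoc]
  exact this.symm

section P

variable [IsFinite (vV G u)] [Flat (vV G u)] [Surjective (vV G u)]

/-- the quotient map of `G` -/
noncomputable def pQ : G.U ⟶ YR G u :=
  EffectiveEpi.desc (vV G u) (sV G u ≫ qQ G u hcov) (fun g₁ g₂ h => compat_qQ G u hcov g₁ g₂ h)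

theorem vV_pQ : vV G u ≫ pQ G u hcov = sV G u ≫ qQ G u hcov :=
  EffectiveEpi.fac (vV G u) _ _

theorem epi_vV : Epi (vV G u) := Flat.epi_of_flat_of_surjective _

/-- the identity section `U' ⟶ V` -/
noncomputable def σV : U' ⟶ Vq G u :=
  mkV (u ≫ G.e) (𝟙 U') (by rw [Category.assoc, G.e_t, Category.comp_id, Category.id_comp])

theorem σV_vV : σV G u ≫ vV G u = u := by
  unfold σV
  rw [mkV_vV, Category.assoc, G.e_s, Category.comp_id]

theorem σV_sV : σV G u ≫ sV G u = 𝟙 U' := by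
  unfold σV
  rw [mkV_sV]

theorem u_pQ : u ≫ pQ G u hcov = qQ G u hcov := by
  calc u ≫ pQ G u hcov = (σV G u ≫ vV G u) ≫ pQ G u hcov := by rw [σV_vV]
    _ = σV G u ≫ sV G u ≫ qQ G u hcov := by rw [Category.assoc, vV_pQ]
    _ = qQ G u hcov := by rw [← Category.assoc, σV_sV, Category.id_comp]

theorem t_pQ : G.t ≫ pQ G u hcov = G.s ≫ pQ G u hcov := by
  haveI : Flat (pullback.fst G.s (vV G u)) := inferInstance
  haveI : Surjective (pullback.fst G.s (vV G u)) := inferInstance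
  haveI : Epi (pullback.fst G.s (vV G u)) := Flat.epi_of_flat_of_surjective _
  rw [← cancel_epi (pullback.fst G.s (vV G u))]
  set r := pullback.fst G.s (vV G u) with hr
  set g := pullback.snd G.s (vV G u) with hg
  have hrg : r ≫ G.s = g ≫ vV G u := pullback.condition
  -- right side
  have h1 : r ≫ G.s ≫ pQ G u hcov = (g ≫ sV G u) ≫ qQ G u hcov := by
    rw [← Category.assoc, hrg, Category.assoc, vV_pQ, Category.assoc]
  -- left side
  have hs : (g ≫ fV G u) ≫ G.s = r ≫ G.s := by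
    rw [Category.assoc, fV_s, hrg]
  have ht : mulInv G _ _ hs ≫ G.t = (g ≫ sV G u) ≫ u := by
    rw [mulInv_t, Category.assoc, Category.assoc, fV_t]
  have h2 : r ≫ G.t ≫ pQ G u hcov = (g ≫ sV G u) ≫ qQ G u hcov := by
    have e : mkV (mulInv G _ _ hs) (g ≫ sV G u) ht ≫ vV G u = r ≫ G.t := by
      rw [mkV_vV, mulInv_s]
    rw [← Category.assoc, ← e, Category.assoc, vV_pQ, ← Category.assoc, mkV_sV]
  rw [h1, h2]

theorem pQ_surjective : Function.Surjective (pQ G u hcov) := by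
  intro y
  obtain ⟨x, rfl⟩ := q_surjective hcov y
  refine ⟨u x, ?_⟩
  rw [← Scheme.Hom.comp_apply, u_pQ]
  rfl

section UP

variable {Z : Scheme.{u}} (f : G.U ⟶ Z) (hf : G.t ≫ f = G.s ≫ f)

include hf in
theorem restrict_cond : (GR G u).s ≫ (u ≫ f) = (GR G u).t ≫ (u ≫ f) := by
  show sR G u ≫ u ≫ f = tR G u ≫ u ≫ f
  rw [← Category.assoc, ← qR_sR, ← Category.assoc (tR G u), ← qR_tR, Category.assoc,
    Category.assoc, hf]

/-- the descended morphism -/
noncomputable def descQ : YR G u ⟶ Z := desc hcov (u ≫ f) (restrict_cond G u f hf)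

theorem qQ_descQ : qQ G u hcov ≫ descQ G u hcov f hf = u ≫ f :=
  q_desc hcov (u ≫ f) (restrict_cond G u f hf)

theorem pQ_descQ : pQ G u hcov ≫ descQ G u hcov f hf = f := by
  haveI := epi_vV G u
  rw [← cancel_epi (vV G u), ← Category.assoc, vV_pQ, Category.assoc, qQ_descQ,
    ← Category.assoc, ← fV_t, Category.assoc, hf, ← Category.assoc, fV_s]

end UP

theorem pQ_epi {Z : Scheme.{u}} (m m' : YR G u ⟶ Z)
    (h : pQ G u hcov ≫ m = pQ G u hcov ≫ m') : m = m' := by
  apply q_epi hcov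
  show qQ G u hcov ≫ m = qQ G u hcov ≫ m'
  rw [← u_pQ, Category.assoc, h, Category.assoc]

/-- `pQ` is a coequalizer of `(t, s)` -/
noncomputable def isColimit_pQ : IsColimit (Cofork.ofπ (pQ G u hcov) (t_pQ G u hcov)) :=
  Cofork.IsColimit.mk' _ (fun c => ⟨descQ G u hcov c.π c.condition,
    pQ_descQ G u hcov c.π c.condition,
    fun {m} hm => pQ_epi G u hcov _ _ (hm.trans (pQ_descQ G u hcov c.π c.condition).symm)⟩)

end P

end Groth.Agent.Lib.Helper61.GQ
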