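import Mathlib
import Groth.Agent.Lib.Helper61.GQ15

set_option autoImplicit false
universe u
open CategoryTheory CategoryTheory.Limits AlgebraicGeometry Grpd

namespace Groth.Agent.Lib.Helper61.GQ
set_option backward.isDefEq.respectTransparency.types false
set_option maxHeartbeats 400000
open Groth.Agent.Lib.Helper73.GrpdRes Groth.Agent.Lib.Helper72.GrpdPts

variable {S : Scheme.{u}} (G : Grpd.GroupoidScheme S) {U' : Scheme.{u}} (u : U' ⟶ G.U)

/-- `ra⁻¹ ∘ ρ ∘ rb` -/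
noncomputable def conj {T : Scheme.{u}} (ra ρ rb : T ⟶ G.R) (h1 : ra ≫ G.t = ρ ≫ G.t)
    (h2 : ρ ≫ G.s = rb ≫ G.t) : T ⟶ G.R :=
  mul G (mul G (ra ≫ G.i) ρ (by rw [Category.assoc, G.i_s]; exact h1)) rb
    (by rw [mul_s]; exact h2)

theorem conj_t {T : Scheme.{u}} (ra ρ rb : T ⟶ G.R) (h1 : ra ≫ G.t = ρ ≫ G.t)
    (h2 : ρ ≫ G.s = rb ≫ G.t) : conj G ra ρ rb h1 h2 ≫ G.t = ra ≫ G.s := by
  unfold conj
  rw [mul_t, mul_t, Category.assoc, G.i_t]

theorem conj_s {T : Scheme.{u}} (ra ρ rb : T ⟶ G.R) (h1 : ra ≫ G.t = ρ ≫ G.t)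
    (h2 : ρ ≫ G.s = rb ≫ G.t) : conj G ra ρ rb h1 h2 ≫ G.s = rb ≫ G.s := by
  unfold conj
  rw [mul_s]

theorem isOpenMap_sV [IsImmersion u] (ht : IsOpenMap G.t) : IsOpenMap (sV G u) := by
  intro O hO
  haveI : IsImmersion (fV G u) := by unfold fV; infer_instance
  obtain ⟨O', hO', rfl⟩ := (fV G u).isEmbedding.isInducing.isOpen_iff.mp hO
  have : sV G u '' (fV G u ⁻¹' O') = u ⁻¹' (G.t '' O') := by
    ext x'
    constructor
    · rintro ⟨z, hz, rfl⟩
      exact ⟨fV G u z, hz, by rw [← Scheme.Hom.comp_apply, fV_t, Scheme.Hom.comp_apply]⟩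
    · rintro ⟨r, hr, hrx⟩
      obtain ⟨z, hz1, hz2⟩ := Scheme.Pullback.exists_preimage_pullback (f := G.t) (g := u) r x' hrx
      refine ⟨z, ?_, hz2⟩
      show fV G u z ∈ O'
      unfold fV
      rw [hz1]
      exact hr
  rw [this]
  exact (ht _ hO').preimage u.continuous

section Q

variable [IsFinite (GR G u).s] [Flat (GR G u).s] [LocallyOfFinitePresentation (GR G u).s]
  (hcov : ∀ x : (GR G u).U, ∃ a : J (GR G u), x ∈ a.W)
  [IsFinite (vV G u)] [Flat (vV G u)] [Surjective (vV G u)]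

theorem isOpenMap_pQ [IsImmersion u] (ht : IsOpenMap G.t) : IsOpenMap (pQ G u hcov) := by
  intro N hN
  have h0 : (qQ G u hcov ∘ sV G u : Vq G u → YR G u) = (pQ G u hcov ∘ vV G u) := by
    funext z
    show qQ G u hcov (sV G u z) = pQ G u hcov (vV G u z)
    rw [← Scheme.Hom.comp_apply, ← Scheme.Hom.comp_apply, vV_pQ]
  have h1 : pQ G u hcov '' N = qQ G u hcov '' (sV G u '' (vV G u ⁻¹' N)) := by
    rw [← Set.image_comp, h0, Set.image_comp, Set.image_preimage_eq _ (vV G u).surjective]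
  rw [h1]
  exact isOpenMap_q hcov _ (isOpenMap_sV G u ht _ (hN.preimage (vV G u).continuous))

theorem universallyClosed_pQ [UniversallyClosed G.t] : UniversallyClosed (pQ G u hcov) := by
  haveI : UniversallyClosed (sV G u) := by unfold sV; infer_instance
  haveI := isIntegralHom_q hcov
  haveI : UniversallyClosed (q hcov) := inferInstance
  haveI : UniversallyClosed (qQ G u hcov) := ‹UniversallyClosed (q hcov)›
  haveI : UniversallyClosed (vV G u ≫ pQ G u hcov) := by rw [vV_pQ]; infer_instance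
  exact UniversallyClosed.of_comp_surjective (vV G u) (pQ G u hcov)

theorem lift_surjective_pQ (w : G.t ≫ pQ G u hcov = G.s ≫ pQ G u hcov) :
    Function.Surjective (pullback.lift G.t G.s w) := by
  intro z
  let k := AlgebraicClosure ((pullback (pQ G u hcov) (pQ G u hcov)).residueField z)
  obtain ⟨z', hz'def⟩ : ∃ z' : Spec (CommRingCat.of k) ⟶ pullback (pQ G u hcov) (pQ G u hcov),
    z' = Spec.map (CommRingCat.ofHom (algebraMap
      ((pullback (pQ G u hcov) (pQ G u hcov)).residueField z) k)) ≫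
      (pullback (pQ G u hcov) (pQ G u hcov)).fromSpecResidueField z := ⟨_, rfl⟩
  have hz' : ∀ pt : Spec (CommRingCat.of k), z' pt = z := by
    intro pt
    rw [hz'def, Scheme.Hom.comp_apply, Scheme.fromSpecResidueField_apply]
  obtain ⟨a, ha⟩ : ∃ a, a = z' ≫ pullback.fst (pQ G u hcov) (pQ G u hcov) := ⟨_, rfl⟩
  obtain ⟨b, hb⟩ : ∃ b, b = z' ≫ pullback.snd (pQ G u hcov) (pQ G u hcov) := ⟨_, rfl⟩
  have hab : a ≫ pQ G u hcov = b ≫ pQ G u hcov := by
    rw [ha, hb, Category.assoc, Category.assoc, pullback.condition]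
  obtain ⟨ga, hga⟩ := lift_kpoint_of_finite (vV G u) k a
  obtain ⟨gb, hgb⟩ := lift_kpoint_of_finite (vV G u) k b
  have hq : (ga ≫ sV G u) ≫ qQ G u hcov = (gb ≫ sV G u) ≫ qQ G u hcov := by
    rw [Category.assoc, Category.assoc, ← vV_pQ, ← Category.assoc, ← Category.assoc, hga, hgb, hab]
  obtain ⟨ρ', h1, h2⟩ := q_kpoints hcov k (ga ≫ sV G u) (gb ≫ sV G u) hq
  have h1' : ρ' ≫ tR G u = ga ≫ sV G u := h1
  have h2' : ρ' ≫ sR G u = gb ≫ sV G u := h2
  have hρt : (ga ≫ fV G u) ≫ G.t = (ρ' ≫ qR G u) ≫ G.t := by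
    rw [Category.assoc, fV_t, Category.assoc, qR_tR, ← Category.assoc, ← Category.assoc, h1']
  have hρs : (ρ' ≫ qR G u) ≫ G.s = (gb ≫ fV G u) ≫ G.t := by
    rw [Category.assoc, Category.assoc, fV_t, qR_sR, ← Category.assoc, ← Category.assoc, h2']
  have hrt : conj G _ _ _ hρt hρs ≫ G.t = a := by
    rw [conj_t, Category.assoc, fV_s, hga]
  have hrs : conj G _ _ _ hρt hρs ≫ G.s = b := by
    rw [conj_s, Category.assoc, fV_s, hgb]
  have h3 : conj G _ _ _ hρt hρs ≫ pullback.lift G.t G.s w = z' := by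
    apply pullback.hom_ext
    · rw [Category.assoc, pullback.lift_fst, hrt, ha]
    · rw [Category.assoc, pullback.lift_snd, hrs, hb]
  obtain ⟨pt⟩ : Nonempty (Spec (CommRingCat.of k)) := inferInstance
  refine ⟨conj G _ _ _ hρt hρs pt, ?_⟩
  rw [← Scheme.Hom.comp_apply, h3, hz']

end Q

end Groth.Agent.Lib.Helper61.GQ
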