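import Mathlib
import Groth.Agent.Lib.Helper61.GQ16

set_option autoImplicit false
universe u
open CategoryTheory CategoryTheory.Limits AlgebraicGeometry Grpd

namespace Groth.Agent.Lib.Helper61.GQ
set_option backward.isDefEq.respectTransparency.types false
set_option maxHeartbeats 400000
open Groth.Agent.Lib.Helper73.GrpdRes Groth.Agent.Lib.Helper72.GrpdPts

variable {S : Scheme.{u}} (G : Grpd.GroupoidScheme S) {U' : Scheme.{u}} (u : U' ⟶ G.U)
  [IsFinite (GR G u).s] [Flat (GR G u).s] [LocallyOfFinitePresentation (GR G u).s]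
  (hcov : ∀ x : (GR G u).U, ∃ a : J (GR G u), x ∈ a.W)
  [IsFinite (vV G u)] [Flat (vV G u)] [Surjective (vV G u)] [Mono G.j]

theorem isPullback_GR : IsPullback (tR G u) (sR G u) (qQ G u hcov) (qQ G u hcov) := by
  haveI := mono_restrict (G := G) u
  haveI := isIso_ψ hcov (s_q hcov).symm
  have hp : IsPullback (GR G u).t (GR G u).s (q hcov) (q hcov) :=
    IsPullback.of_iso_pullback ⟨(s_q hcov).symm⟩
      (asIso (pullback.lift (GR G u).t (GR G u).s (s_q hcov).symm))
      (pullback.lift_fst _ _ _) (pullback.lift_snd _ _ _)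
  exact hp

theorem flat_pQ [Flat G.t] : Flat (pQ G u hcov) := by
  haveI := mono_restrict (G := G) u
  haveI : Flat (sV G u) := by unfold sV; infer_instance
  haveI : Flat (q hcov) := flat_q hcov
  haveI : Flat (qQ G u hcov) := ‹Flat (q hcov)›
  haveI : Flat (vV G u ≫ pQ G u hcov) := by rw [vV_pQ]; infer_instance
  exact flat_of_comp_surjective (vV G u) (pQ G u hcov) (vV G u).surjective

/-- the fppf cover `V ×_Y V ⟶ U ×_Y U` -/
noncomputable def cW : pullback (vV G u ≫ pQ G u hcov) (vV G u ≫ pQ G u hcov) ⟶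
    pullback (pQ G u hcov) (pQ G u hcov) :=
  pullback.map (vV G u ≫ pQ G u hcov) (vV G u ≫ pQ G u hcov) (pQ G u hcov) (pQ G u hcov)
    (vV G u) (vV G u) (𝟙 _) (Category.comp_id _) (Category.comp_id _)

theorem cW_fst : cW G u hcov ≫ pullback.fst _ _ = pullback.fst _ _ ≫ vV G u :=
  pullback.lift_fst _ _ _

theorem cW_snd : cW G u hcov ≫ pullback.snd _ _ = pullback.snd _ _ ≫ vV G u :=
  pullback.lift_snd _ _ _

theorem cW_prop : (@Surjective ⊓ @Flat ⊓ @QuasiCompact :
    MorphismProperty Scheme.{u}) (cW G u hcov) := by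
  refine ⟨⟨?_, ?_⟩, ?_⟩
  · exact MorphismProperty.pullbackMap (P := @Surjective) (f := vV G u ≫ pQ G u hcov)
      (g := vV G u ≫ pQ G u hcov) (f' := pQ G u hcov) (g' := pQ G u hcov)
      (inferInstance : Surjective (vV G u)) (inferInstance : Surjective (vV G u)) rfl rfl
  · exact MorphismProperty.pullbackMap (P := @Flat) (f := vV G u ≫ pQ G u hcov)
      (g := vV G u ≫ pQ G u hcov) (f' := pQ G u hcov) (g' := pQ G u hcov)
      (inferInstance : Flat (vV G u)) (inferInstance : Flat (vV G u)) rfl rfl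
  · exact MorphismProperty.pullbackMap (P := @QuasiCompact) (f := vV G u ≫ pQ G u hcov)
      (g := vV G u ≫ pQ G u hcov) (f' := pQ G u hcov) (g' := pQ G u hcov)
      (inferInstance : QuasiCompact (vV G u)) (inferInstance : QuasiCompact (vV G u)) rfl rfl

/-- the universal arrow over `V ×_Y V` -/
noncomputable def ρW : pullback (vV G u ≫ pQ G u hcov) (vV G u ≫ pQ G u hcov) ⟶ (GR G u).R :=
  (isPullback_GR G u hcov).lift (pullback.fst _ _ ≫ sV G u) (pullback.snd _ _ ≫ sV G u) (by
    rw [Category.assoc, Category.assoc, ← vV_pQ, pullback.condition])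

theorem ρW_t : ρW G u hcov ≫ tR G u = pullback.fst _ _ ≫ sV G u :=
  (isPullback_GR G u hcov).lift_fst _ _ _

theorem ρW_s : ρW G u hcov ≫ sR G u = pullback.snd _ _ ≫ sV G u :=
  (isPullback_GR G u hcov).lift_snd _ _ _

theorem rW_aux1 : (pullback.fst (vV G u ≫ pQ G u hcov) (vV G u ≫ pQ G u hcov) ≫ fV G u) ≫ G.t =
    (ρW G u hcov ≫ qR G u) ≫ G.t := by
  rw [Category.assoc, fV_t, Category.assoc, qR_tR, ← Category.assoc, ← Category.assoc, ρW_t]

theorem rW_aux2 : (ρW G u hcov ≫ qR G u) ≫ G.s =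
    (pullback.snd (vV G u ≫ pQ G u hcov) (vV G u ≫ pQ G u hcov) ≫ fV G u) ≫ G.t := by
  rw [Category.assoc, Category.assoc, fV_t, qR_sR, ← Category.assoc, ← Category.assoc, ρW_s]

/-- the arrow of `R` over `V ×_Y V` -/
noncomputable def rW : pullback (vV G u ≫ pQ G u hcov) (vV G u ≫ pQ G u hcov) ⟶ G.R :=
  conj G _ _ _ (rW_aux1 G u hcov) (rW_aux2 G u hcov)

theorem rW_t : rW G u hcov ≫ G.t = pullback.fst _ _ ≫ vV G u := by
  unfold rW
  rw [conj_t, Category.assoc, fV_s]

theorem rW_s : rW G u hcov ≫ G.s = pullback.snd _ _ ≫ vV G u := by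
  unfold rW
  rw [conj_s, Category.assoc, fV_s]

variable (w : G.t ≫ pQ G u hcov = G.s ≫ pQ G u hcov)

theorem isIso_fst_cW : IsIso (pullback.fst (cW G u hcov) (pullback.lift G.t G.s w)) := by
  have hcomm : 𝟙 _ ≫ cW G u hcov = rW G u hcov ≫ pullback.lift G.t G.s w := by
    apply pullback.hom_ext
    · rw [Category.id_comp, cW_fst, Category.assoc, pullback.lift_fst, rW_t]
    · rw [Category.id_comp, cW_snd, Category.assoc, pullback.lift_snd, rW_s]
  refine ⟨⟨pullback.lift (𝟙 _) (rW G u hcov) hcomm, ?_, pullback.lift_fst _ _ _⟩⟩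
  apply pullback.hom_ext
  · rw [Category.assoc, pullback.lift_fst, Category.comp_id, Category.id_comp]
  · rw [Category.assoc, pullback.lift_snd, Category.id_comp]
    apply eq_of_t_s
    · rw [Category.assoc, rW_t, ← cW_fst, ← Category.assoc, pullback.condition,
        Category.assoc, pullback.lift_fst]
    · rw [Category.assoc, rW_s, ← cW_snd, ← Category.assoc, pullback.condition,
        Category.assoc, pullback.lift_snd]

theorem isIso_lift_pQ : IsIso (pullback.lift G.t G.s w) := by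
  have h : MorphismProperty.isomorphisms Scheme.{u}
      (pullback.fst (cW G u hcov) (pullback.lift G.t G.s w)) := isIso_fst_cW G u hcov w
  exact MorphismProperty.of_pullback_fst_of_descendsAlong (P := MorphismProperty.isomorphisms Scheme.{u})
    (Q := @Surjective ⊓ @Flat ⊓ @QuasiCompact) (cW_prop G u hcov) h

theorem isPullback_pQ : IsPullback G.t G.s (pQ G u hcov) (pQ G u hcov) := by
  haveI := isIso_lift_pQ G u hcov (t_pQ G u hcov)
  exact IsPullback.of_iso_pullback ⟨t_pQ G u hcov⟩
    (asIso (pullback.lift G.t G.s (t_pQ G u hcov)))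
    (pullback.lift_fst _ _ _) (pullback.lift_snd _ _ _)

end Groth.Agent.Lib.Helper61.GQ
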