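import Groth.Agent.Lib.Helper61.FSAdic
import Mathlib.Algebra.TrivSqZeroExt.Basic
import Mathlib.RingTheory.Kaehler.Basic
import Mathlib.Algebra.Module.Projective
import Mathlib.RingTheory.TensorProduct.Basic

/-!
If `B` is adically formally smooth over `A` and `𝔄` is an open ideal of `B`, then
`(B ⧸ 𝔄) ⊗[B] Ω[B⁄A]` is a projective `B ⧸ 𝔄`-module.
-/

set_option autoImplicit false
universe u

namespace Groth.Agent.Lib.Helper61.FSAdic

open TensorProduct

section tsze

variable {B R N : Type u} [CommRing B] [CommRing R] [AddCommGroup N] [Module R N]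
  [Module Rᵐᵒᵖ N] [IsCentralScalar R N]

/-- The ring homomorphism into a trivial square-zero extension attached to a derivation-like
additive map. -/
def tszeHom (π : B →+* R) (δ : B →+ N) (h1 : δ 1 = 0)
    (hmul : ∀ b b', δ (b * b') = π b • δ b' + π b' • δ b) : B →+* TrivSqZeroExt R N where
  toFun b := TrivSqZeroExt.inl (π b) + TrivSqZeroExt.inr (δ b)
  map_one' := by
    rw [h1, map_one]
    simp
  map_mul' b b' := by
    apply TrivSqZeroExt.ext
    · simp
    · simp [hmul]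
  map_zero' := by simp
  map_add' b b' := by
    apply TrivSqZeroExt.ext
    · simp
    · simp

@[simp] theorem fst_tszeHom (π : B →+* R) (δ : B →+ N) (h1 : δ 1 = 0)
    (hmul : ∀ b b', δ (b * b') = π b • δ b' + π b' • δ b) (b : B) :
    (tszeHom π δ h1 hmul b).fst = π b := by
  simp [tszeHom]

@[simp] theorem snd_tszeHom (π : B →+* R) (δ : B →+ N) (h1 : δ 1 = 0)
    (hmul : ∀ b b', δ (b * b') = π b • δ b' + π b' • δ b) (b : B) :
    (tszeHom π δ h1 hmul b).snd = δ b := by
  simp [tszeHom]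

end tsze

theorem projective_kaehler_quotient {A B : Type u} [CommRing A] [CommRing B] [Algebra A B]
    (𝔞 : Ideal A) (𝔟 : Ideal B) (hAB : ∃ k : ℕ, (𝔞 ^ k).map (algebraMap A B) ≤ 𝔟)
    (h : Lifts 𝔞 (algebraMap A B) 𝔟) (𝔄 : Ideal B) (h𝔄 : ∃ n : ℕ, 𝔟 ^ n ≤ 𝔄) :
    Module.Projective (B ⧸ 𝔄) ((B ⧸ 𝔄) ⊗[B] Ω[B⁄A]) := by
  apply Module.Projective.of_lifting_property
  intro M N _ _ _ _ f g hf
  letI : Module (B ⧸ 𝔄)ᵐᵒᵖ M :=
    Module.compHom M ((RingHom.id (B ⧸ 𝔄)).fromOpposite (fun _ _ => mul_comm _ _))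
  haveI : IsCentralScalar (B ⧸ 𝔄) M := ⟨fun r m => rfl⟩
  letI : Module (B ⧸ 𝔄)ᵐᵒᵖ N :=
    Module.compHom N ((RingHom.id (B ⧸ 𝔄)).fromOpposite (fun _ _ => mul_comm _ _))
  haveI : IsCentralScalar (B ⧸ 𝔄) N := ⟨fun r m => rfl⟩
  let π : B →+* B ⧸ 𝔄 := Ideal.Quotient.mk 𝔄
  -- the derivation-like map `B → N`
  let δ : B →+ N :=
    { toFun := fun b => g ((1 : B ⧸ 𝔄) ⊗ₜ[B] KaehlerDifferential.D A B b)
      map_zero' := by simp
      map_add' := fun b b' => by simp [TensorProduct.tmul_add] }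
  have hδ1 : δ 1 = 0 := by
    change g ((1 : B ⧸ 𝔄) ⊗ₜ[B] KaehlerDifferential.D A B 1) = 0
    rw [Derivation.map_one_eq_zero, TensorProduct.tmul_zero, map_zero]
  have hsm : ∀ (b : B) (ω : Ω[B⁄A]),
      ((1 : B ⧸ 𝔄) ⊗ₜ[B] (b • ω)) = π b • ((1 : B ⧸ 𝔄) ⊗ₜ[B] ω) := by
    intro b ω
    rw [TensorProduct.tmul_smul, TensorProduct.smul_tmul', TensorProduct.smul_tmul']
    congr 1
  have hδmul : ∀ b b', δ (b * b') = π b • δ b' + π b' • δ b := by
    intro b b'
    change g ((1 : B ⧸ 𝔄) ⊗ₜ[B] KaehlerDifferential.D A B (b * b')) =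
      π b • g ((1 : B ⧸ 𝔄) ⊗ₜ[B] KaehlerDifferential.D A B b') +
        π b' • g ((1 : B ⧸ 𝔄) ⊗ₜ[B] KaehlerDifferential.D A B b)
    rw [Derivation.leibniz, TensorProduct.tmul_add, map_add, hsm, hsm, map_smul, map_smul]
  let F : TrivSqZeroExt (B ⧸ 𝔄) M →+* TrivSqZeroExt (B ⧸ 𝔄) N := (TrivSqZeroExt.map f).toRingHom
  have hFsurj : Function.Surjective F := by
    intro y
    obtain ⟨m, hm⟩ := hf y.snd
    refine ⟨TrivSqZeroExt.inl y.fst + TrivSqZeroExt.inr m, ?_⟩
    apply TrivSqZeroExt.ext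
    · simp [F]
    · simp [F, hm]
  let J : Ideal (TrivSqZeroExt (B ⧸ 𝔄) M) := RingHom.ker F
  have hJfst : ∀ x ∈ J, x.fst = 0 := by
    intro x hx
    have : F x = 0 := hx
    have h2 := congrArg TrivSqZeroExt.fst this
    simpa [F] using h2
  have hJ2 : J ^ 2 = ⊥ := by
    rw [eq_bot_iff, pow_two, Ideal.mul_le]
    intro x hx y hy
    rw [Ideal.mem_bot]
    apply TrivSqZeroExt.ext
    · simp [hJfst x hx]
    · simp [hJfst x hx, hJfst y hy]
  let e := RingHom.quotientKerEquivOfSurjective hFsurj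
  let uD : B →+* TrivSqZeroExt (B ⧸ 𝔄) N := tszeHom π δ hδ1 hδmul
  let u : B →+* TrivSqZeroExt (B ⧸ 𝔄) M ⧸ J := (e.symm : _ →+* _).comp uD
  let φ : A →+* TrivSqZeroExt (B ⧸ 𝔄) M :=
    (TrivSqZeroExt.inlHom (B ⧸ 𝔄) M).comp (π.comp (algebraMap A B))
  obtain ⟨n, hn⟩ := h𝔄
  obtain ⟨k, hk⟩ := hAB
  have hφ : ∃ l : ℕ, (𝔞 ^ l).map φ = ⊥ := by
    refine ⟨k * n, ?_⟩
    have h1 : (𝔞 ^ (k * n)).map (algebraMap A B) ≤ 𝔄 := by
      rw [pow_mul, Ideal.map_pow]
      exact (Ideal.pow_right_mono hk n).trans hn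
    rw [eq_bot_iff, Ideal.map_le_iff_le_comap]
    intro a ha
    rw [Ideal.mem_comap, Ideal.mem_bot]
    have : π (algebraMap A B a) = 0 :=
      Ideal.Quotient.eq_zero_iff_mem.mpr (h1 (Ideal.mem_map_of_mem _ ha))
    simp [φ, this]
  have heu : ∀ b, e (u b) = uD b := fun b => e.apply_symm_apply (uD b)
  have hemk : ∀ x, e (Ideal.Quotient.mk J x) = F x := fun x =>
    RingHom.quotientKerEquivOfSurjective_apply_mk hFsurj x
  have hcompat : u.comp (algebraMap A B) = (Ideal.Quotient.mk J).comp φ := by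
    ext a
    apply e.injective
    simp only [RingHom.comp_apply]
    rw [heu, hemk]
    apply TrivSqZeroExt.ext
    · simp [uD, F, φ]
    · simp only [uD, snd_tszeHom]
      change g ((1 : B ⧸ 𝔄) ⊗ₜ[B] KaehlerDifferential.D A B (algebraMap A B a)) = _
      rw [Derivation.map_algebraMap, TensorProduct.tmul_zero, map_zero]
      simp [F, φ]
  have hcont : ∃ l : ℕ, ∀ x ∈ 𝔟 ^ l, u x = 0 := by
    refine ⟨n * 2, fun x hx => ?_⟩
    have h1 : 𝔟 ^ (n * 2) ≤ 𝔄 * 𝔄 := by
      rw [pow_mul, pow_two]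
      exact Ideal.mul_mono hn hn
    have h2 : 𝔄 * 𝔄 ≤ RingHom.ker uD := by
      rw [Ideal.mul_le]
      intro r hr s hs
      rw [RingHom.mem_ker]
      have hr' : π r = 0 := Ideal.Quotient.eq_zero_iff_mem.mpr hr
      have hs' : π s = 0 := Ideal.Quotient.eq_zero_iff_mem.mpr hs
      apply TrivSqZeroExt.ext
      · simp [uD, hr']
      · simp [uD, hr', hs']
    have : uD x = 0 := h2 (h1 hx)
    apply e.injective
    rw [heu, this, map_zero]
  obtain ⟨v, hv1, hv2⟩ := h _ J ⟨2, hJ2⟩ φ hφ u hcompat hcont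
  have hFv : ∀ b, F (v b) = uD b := by
    intro b
    rw [← hemk, ← heu]
    congr 1
    exact DFunLike.congr_fun hv2 b
  have hfst : ∀ b, (v b).fst = π b := by
    intro b
    have := congrArg TrivSqZeroExt.fst (hFv b)
    simpa [F, uD] using this
  have hsnd : ∀ b, f (v b).snd = δ b := by
    intro b
    have := congrArg TrivSqZeroExt.snd (hFv b)
    simpa [F, uD] using this
  -- module structures over `B` and `A` on `M`
  letI : Module B M := Module.compHom M π
  letI : Module A M := Module.compHom M (π.comp (algebraMap A B))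
  haveI : IsScalarTower A B M := ⟨fun a b m => by
    change π (a • b) • m = π (algebraMap A B a) • (π b • m)
    rw [Algebra.smul_def, map_mul, mul_smul]⟩
  haveI : IsScalarTower B (B ⧸ 𝔄) M := ⟨fun b r m => by
    change (b • r) • m = π b • (r • m)
    rw [Algebra.smul_def, mul_smul]
    rfl⟩
  have hvalg : ∀ a, v (algebraMap A B a) = TrivSqZeroExt.inl (π (algebraMap A B a)) :=
    fun a => DFunLike.congr_fun hv1 a
  let D' : Derivation A B M :=
    { toFun := fun b => (v b).snd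
      map_add' := fun b b' => by simp
      map_smul' := fun a b => by
        change (v (a • b)).snd = π (algebraMap A B a) • (v b).snd
        rw [Algebra.smul_def, map_mul, hvalg]
        simp
      map_one_eq_zero' := by
        change (v 1).snd = 0
        simp
      leibniz' := fun b b' => by
        change (v (b * b')).snd = π b • (v b').snd + π b' • (v b).snd
        rw [map_mul, TrivSqZeroExt.snd_mul, hfst, hfst, op_smul_eq_smul] }
  have hD' : ∀ b, D' b = (v b).snd := fun b => rfl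
  let h₀ : Ω[B⁄A] →ₗ[B] M := D'.liftKaehlerDifferential
  refine ⟨h₀.liftBaseChange (B ⧸ 𝔄), ?_⟩
  have key : ∀ ω : Ω[B⁄A], f (h₀ ω) = g ((1 : B ⧸ 𝔄) ⊗ₜ[B] ω) := by
    intro ω
    have hω : ω ∈ Submodule.span B (Set.range (KaehlerDifferential.D A B)) := by
      rw [KaehlerDifferential.span_range_derivation]; trivial
    induction hω using Submodule.span_induction with
    | mem x hx =>
      obtain ⟨b, rfl⟩ := hx
      rw [Derivation.liftKaehlerDifferential_comp_D, hD', hsnd]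
      rfl
    | zero => simp
    | add x y _ _ hx hy => rw [map_add, map_add, hx, hy, TensorProduct.tmul_add, map_add]
    | smul b x _ hx =>
      rw [hsm, map_smul g, ← hx, map_smul h₀]
      change f (π b • h₀ x) = _
      rw [map_smul]
  apply LinearMap.ext
  intro x
  induction x using TensorProduct.induction_on with
  | zero => simp
  | tmul r ω =>
    rw [LinearMap.comp_apply, LinearMap.liftBaseChange_tmul, map_smul, key]
    rw [← map_smul, TensorProduct.smul_tmul', smul_eq_mul, mul_one]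
  | add x y hx hy => rw [map_add, map_add, hx, hy]

end Groth.Agent.Lib.Helper61.FSAdic
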