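import Mathlib

/-! Kernels commute with colimits of a given shape as soon as the `colim` functor preserves
equalizers: formal lemmas for arbitrary colimit cocones. -/

set_option autoImplicit false
universe w v v' u u'

open CategoryTheory Limits

noncomputable section

namespace Groth.Agent.Lib.Helper61.KerColim

variable {𝒞 : Type u} [Category.{v} 𝒞] [HasZeroMorphisms 𝒞]

/-- `k` is a kernel of `f` -/
def IsKer {X Y Z : 𝒞} (k : Z ⟶ X) (f : X ⟶ Y) : Prop :=
  k ≫ f = 0 ∧ ∀ ⦃T : 𝒞⦄ (t : T ⟶ X), t ≫ f = 0 → ∃! u : T ⟶ Z, u ≫ k = t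

namespace IsKer

variable {X Y Z : 𝒞} {k : Z ⟶ X} {f : X ⟶ Y}

lemma of_isLimit (w : k ≫ f = 0) (hc : IsLimit (KernelFork.ofι k w)) : IsKer k f := by
  refine ⟨w, fun T t ht => ?_⟩
  have h1 : hc.lift (KernelFork.ofι t ht) ≫ k = t :=
    hc.fac (KernelFork.ofι t ht) WalkingParallelPair.zero
  refine ⟨hc.lift (KernelFork.ofι t ht), h1, fun m hm => ?_⟩
  apply Fork.IsLimit.hom_ext hc
  show m ≫ k = hc.lift (KernelFork.ofι t ht) ≫ k
  rw [hm, h1]

lemma mono (H : IsKer k f) : Mono k := by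
  constructor
  intro T u u' huu
  have h0 : (u ≫ k) ≫ f = 0 := by rw [Category.assoc, H.1, comp_zero]
  obtain ⟨m, _, hm⟩ := H.2 (u ≫ k) h0
  rw [hm u rfl, hm u' huu.symm]

lemma nonempty_isLimit (H : IsKer k f) : Nonempty (IsLimit (KernelFork.ofι k H.1)) := by
  choose d hd hd' using fun (T : 𝒞) (t : { t : T ⟶ X // t ≫ f = 0 }) => H.2 t.1 t.2
  exact ⟨KernelFork.IsLimit.ofι k H.1 (fun {T} t ht => d T ⟨t, ht⟩)
    (fun {T} t ht => hd T ⟨t, ht⟩) (fun {T} t ht m hm => hd' T ⟨t, ht⟩ m hm)⟩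

lemma kernel (f : X ⟶ Y) [HasKernel f] : IsKer (kernel.ι f) f :=
  of_isLimit (kernel.condition f) (kernelIsKernel f)

/-- transport along isomorphisms -/
lemma of_iso (H : IsKer k f) {X' Y' Z' : 𝒞} (eX : X ≅ X') (eY : Y ≅ Y') (eZ : Z ≅ Z')
    (k' : Z' ⟶ X') (f' : X' ⟶ Y') (hk : k ≫ eX.hom = eZ.hom ≫ k') (hf : f ≫ eY.hom = eX.hom ≫ f') :
    IsKer k' f' := by
  have hk' : k' = eZ.inv ≫ k ≫ eX.hom := by rw [hk, Iso.inv_hom_id_assoc]
  have hf' : f' = eX.inv ≫ f ≫ eY.hom := by rw [hf, Iso.inv_hom_id_assoc]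
  refine ⟨?_, fun T t ht => ?_⟩
  · rw [hk', hf']
    simp only [Category.assoc, Iso.hom_inv_id_assoc]
    rw [← Category.assoc k, H.1, zero_comp, comp_zero]
  · have h0 : (t ≫ eX.inv) ≫ f = 0 := by
      have : (t ≫ eX.inv) ≫ f = (t ≫ f') ≫ eY.inv := by
        rw [hf']; simp
      rw [this, ht, zero_comp]
    obtain ⟨u, hu, hu'⟩ := H.2 (t ≫ eX.inv) h0
    refine ⟨u ≫ eZ.hom, ?_, fun m hm => ?_⟩
    · show (u ≫ eZ.hom) ≫ k' = t
      rw [Category.assoc, ← hk, ← Category.assoc, hu, Category.assoc, Iso.inv_hom_id,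
        Category.comp_id]
    · have : m ≫ eZ.inv = u := by
        apply hu'
        rw [Category.assoc, ← cancel_mono eX.hom, Category.assoc, Category.assoc, Category.assoc,
          Iso.inv_hom_id, Category.comp_id, ← hk', hm]
      rw [← this, Category.assoc, Iso.inv_hom_id, Category.comp_id]

/-- two kernels of the same map are canonically isomorphic -/
lemma exists_iso (H : IsKer k f) {Z' : 𝒞} {k' : Z' ⟶ X} (H' : IsKer k' f) :
    ∃ e : Z' ≅ Z, e.hom ≫ k = k' := by
  obtain ⟨u, hu, _⟩ := H.2 k' H'.1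
  obtain ⟨v, hv, _⟩ := H'.2 k H.1
  haveI := H.mono
  haveI := H'.mono
  refine ⟨⟨u, v, ?_, ?_⟩, hu⟩
  · rw [← cancel_mono k', Category.assoc, hv, hu, Category.id_comp]
  · rw [← cancel_mono k, Category.assoc, hu, hv, Category.id_comp]

end IsKer

section Colim

variable {J : Type w} [Category.{v'} J] [HasColimitsOfShape J 𝒞]
  [(colim : (J ⥤ 𝒞) ⥤ 𝒞).PreservesZeroMorphisms]
  [PreservesLimitsOfShape WalkingParallelPair (colim : (J ⥤ 𝒞) ⥤ 𝒞)]
  {X Y Z : J ⥤ 𝒞} (κ : Z ⟶ X) (α : X ⟶ Y)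

/-- the pointwise kernel is a kernel in the functor category, and `colim` preserves it -/
theorem isKer_colimMap (hker : ∀ j, IsKer (κ.app j) (α.app j)) :
    IsKer (colim.map κ) (colim.map α) := by
  have w : κ ≫ α = 0 := by
    ext j
    exact (hker j).1
  have hfork : IsLimit (KernelFork.ofι κ w) := by
    apply evaluationJointlyReflectsLimits
    intro j
    refine (isLimitMapConeForkEquiv' ((evaluation J 𝒞).obj j) w).symm ?_
    exact (hker j).nonempty_isLimit.some
  have h2 := isLimitMapConeForkEquiv' (colim : (J ⥤ 𝒞) ⥤ 𝒞) w (isLimitOfPreserves colim hfork)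
  exact IsKer.of_isLimit _ h2

variable {cX : Cocone X} {cY : Cocone Y} {cZ : Cocone Z}
  (a : cX.pt ⟶ cY.pt) (ha : ∀ j, cX.ι.app j ≫ a = α.app j ≫ cY.ι.app j)
  (k : cZ.pt ⟶ cX.pt) (hk : ∀ j, cZ.ι.app j ≫ k = κ.app j ≫ cX.ι.app j)

include ha hk in
/-- a colimit of kernels is a kernel of the colimits -/
theorem isKer_of_isColimit (hker : ∀ j, IsKer (κ.app j) (α.app j))
    (hX : IsColimit cX) (hY : IsColimit cY) (hZ : IsColimit cZ) : IsKer k a := by
  have H := isKer_colimMap κ α hker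
  let eX := (colimit.isColimit X).coconePointUniqueUpToIso hX
  let eY := (colimit.isColimit Y).coconePointUniqueUpToIso hY
  let eZ := (colimit.isColimit Z).coconePointUniqueUpToIso hZ
  have hιX : ∀ j, colimit.ι X j ≫ eX.hom = cX.ι.app j :=
    fun j => (colimit.isColimit X).comp_coconePointUniqueUpToIso_hom hX j
  have hιY : ∀ j, colimit.ι Y j ≫ eY.hom = cY.ι.app j :=
    fun j => (colimit.isColimit Y).comp_coconePointUniqueUpToIso_hom hY j
  have hιZ : ∀ j, colimit.ι Z j ≫ eZ.hom = cZ.ι.app j :=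
    fun j => (colimit.isColimit Z).comp_coconePointUniqueUpToIso_hom hZ j
  refine H.of_iso eX eY eZ k a ?_ ?_
  · apply colimit.hom_ext
    intro j
    show colimit.ι Z j ≫ colimMap κ ≫ eX.hom = colimit.ι Z j ≫ eZ.hom ≫ k
    rw [ι_colimMap_assoc, hιX, ← Category.assoc, hιZ, hk]
  · apply colimit.hom_ext
    intro j
    show colimit.ι X j ≫ colimMap α ≫ eY.hom = colimit.ι X j ≫ eX.hom ≫ a
    rw [ι_colimMap_assoc, hιY, ← Category.assoc, hιX, ha]

include ha hk in
/-- a kernel of the colimits is the colimit of the kernels -/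
theorem nonempty_isColimit_of_isKer (hker : ∀ j, IsKer (κ.app j) (α.app j))
    (hX : IsColimit cX) (hY : IsColimit cY) (hka : IsKer k a) : Nonempty (IsColimit cZ) := by
  -- the map from the chosen colimit
  let c' : Cocone Z := ⟨cX.pt, κ ≫ cX.ι⟩
  let k' : colimit Z ⟶ cX.pt := colimit.desc Z c'
  have hk' : ∀ j, colimit.ι Z j ≫ k' = κ.app j ≫ cX.ι.app j := fun j => colimit.ι_desc c' j
  have H' : IsKer k' a :=
    isKer_of_isColimit (cZ := colimit.cocone Z) κ α a ha k' hk' hker hX hY (colimit.isColimit Z)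
  obtain ⟨e, he⟩ := hka.exists_iso H'
  haveI := hka.mono
  refine ⟨IsColimit.ofIsoColimit (colimit.isColimit Z) (Cocone.ext e ?_)⟩
  intro j
  show colimit.ι Z j ≫ e.hom = cZ.ι.app j
  rw [← cancel_mono k, Category.assoc, he, hk', hk]

end Colim

section KerF

variable [HasKernels 𝒞] {J : Type w} [Category.{v'} J] {X Y : J ⥤ 𝒞} (α : X ⟶ Y)

/-- the pointwise kernel of a natural transformation -/
def kerF : J ⥤ 𝒞 where
  obj j := kernel (α.app j)
  map {j k} φ := kernel.map (α.app j) (α.app k) (X.map φ) (Y.map φ) (α.naturality φ).symm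
  map_id j := by
    apply equalizer.hom_ext
    simp
  map_comp φ ψ := by
    apply equalizer.hom_ext
    simp

/-- the inclusion of the pointwise kernel -/
def kerι : kerF α ⟶ X where
  app j := kernel.ι (α.app j)
  naturality j k φ := by simp [kerF]

lemma isKer_kerι (j : J) : IsKer ((kerι α).app j) (α.app j) := IsKer.kernel _

lemma kerCocone_aux {cX : Cocone X} {cY : Cocone Y} (a : cX.pt ⟶ cY.pt)
    (ha : ∀ j, cX.ι.app j ≫ a = α.app j ≫ cY.ι.app j) (j : J) :
    (kernel.ι (α.app j) ≫ cX.ι.app j) ≫ a = 0 := by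
  rw [Category.assoc, ha, ← Category.assoc, kernel.condition, zero_comp]

/-- the cocone on the pointwise kernel induced by a kernel of a map of cocone points -/
def kerCocone {cX : Cocone X} {cY : Cocone Y} (a : cX.pt ⟶ cY.pt)
    (ha : ∀ j, cX.ι.app j ≫ a = α.app j ≫ cY.ι.app j) : Cocone (kerF α) where
  pt := kernel a
  ι :=
    { app := fun j => kernel.lift a (kernel.ι (α.app j) ≫ cX.ι.app j) (kerCocone_aux α a ha j)
      naturality := by
        intro j k φ
        apply equalizer.hom_ext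
        simp [kerF] }

lemma kerCocone_fac {cX : Cocone X} {cY : Cocone Y} (a : cX.pt ⟶ cY.pt)
    (ha : ∀ j, cX.ι.app j ≫ a = α.app j ≫ cY.ι.app j) (j : J) :
    (kerCocone α a ha).ι.app j ≫ kernel.ι a = (kerι α).app j ≫ cX.ι.app j :=
  kernel.lift_ι _ _ _

end KerF

end Groth.Agent.Lib.Helper61.KerColim
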