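import Groth.Agent.Lib.Helper61.MvPS
import Mathlib.RingTheory.MvPowerSeries.Expand
import Mathlib.FieldTheory.Finite.Basic
import Mathlib.RingTheory.DiscreteValuationRing.Basic
import Mathlib.RingTheory.LocalRing.ResidueField.Basic

set_option autoImplicit false

namespace Groth.Agent.Lib.Helper61

open MvPowerSeries

section General

variable {σ τ : Type*} {R S : Type*} [CommRing R] [CommRing S] [Algebra R S]

lemma le_order_subst_of_one_le (f : MvPowerSeries σ R) {a : σ → MvPowerSeries τ S}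
    (ha : HasSubst a) (ha1 : ∀ i, 1 ≤ (a i).order) : f.order ≤ (f.subst a).order := by
  refine le_trans ?_ (le_order_subst ha f)
  have h1 : (1 : ℕ∞) ≤ ⨅ i, (a i).order := le_iInf ha1
  calc f.order = 1 * f.order := (one_mul _).symm
    _ ≤ (⨅ i, (a i).order) * f.order := mul_le_mul_left h1 _

lemma finsupp_prod_const_pow (c : R) (d : σ →₀ ℕ) : (d.prod fun _ m => c ^ m) = c ^ d.degree := by
  rw [Finsupp.prod, Finset.prod_pow_eq_pow_sum, Finsupp.degree_apply]

/-- If `a i = c X_i + O(q)` with `q ≥ 2`, then low-degree coefficients of `Δ(a)` are those of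
`Δ(cX)`. -/
lemma coeff_subst_of_linear (a : σ → MvPowerSeries σ R) (c : R) (q : ℕ)
    (ha : HasSubst a) (ha1 : ∀ i, 1 ≤ (a i).order)
    (hac : ∀ i, (q : ℕ∞) ≤ (a i - c • X i).order)
    (Δ : MvPowerSeries σ R) (s : ℕ) (hs : (s : ℕ∞) ≤ Δ.order) (d : σ →₀ ℕ)
    (hd : d.degree + 2 ≤ s + q) :
    coeff d (Δ.subst a) = c ^ d.degree * coeff d Δ := by
  have hb : HasSubst ((fun _ : σ => c) • (X : σ → MvPowerSeries σ R)) := HasSubst.smul_X _
  have hb1 : ∀ i, 1 ≤ (((fun _ : σ => c) • (X : σ → MvPowerSeries σ R)) i).order := by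
    intro i
    rw [one_le_order_iff_constCoeff_eq_zero]
    simp
  have h1 := le_order_subst_sub_subst Δ ha hb ha1 hb1 s q hs (by
    intro i
    simpa using hac i)
  have h2 : coeff d (Δ.subst a - Δ.subst ((fun _ : σ => c) • (X : σ → MvPowerSeries σ R))) = 0 :=
    coeff_of_lt_order (enat_aux _ _ _ h1 hd)
  rw [map_sub, sub_eq_zero] at h2
  rw [h2, ← rescale_eq_subst, coeff_rescale, finsupp_prod_const_pow]

end General

section LT

variable {O : Type*} [CommRing O] {σ : Type*}

/-- the tuple `(π X_i + X_i^q)_i` -/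
noncomputable def ltVec (π : O) (q : ℕ) : σ → MvPowerSeries σ O := fun i => π • X i + X i ^ q

/-- the Lubin–Tate defect `π Φ + Φ^q - Φ(π X + X^q)` -/
noncomputable def ltDefect (π : O) (q : ℕ) (Φ : MvPowerSeries σ O) : MvPowerSeries σ O :=
  π • Φ + Φ ^ q - Φ.subst (ltVec π q)

variable (π : O) (q : ℕ)

lemma constantCoeff_ltVec (hq : q ≠ 0) (i : σ) : constantCoeff (ltVec π q i) = 0 := by
  simp [ltVec, hq]

lemma hasSubst_ltVec [Finite σ] (hq : q ≠ 0) : HasSubst (ltVec (σ := σ) π q) :=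
  hasSubst_of_constantCoeff_zero (constantCoeff_ltVec π q hq)

lemma one_le_order_ltVec (hq : q ≠ 0) (i : σ) : 1 ≤ (ltVec π q i).order := by
  rw [one_le_order_iff_constCoeff_eq_zero]
  exact constantCoeff_ltVec π q hq i

lemma ltVec_sub (i : σ) : (q : ℕ∞) ≤ (ltVec π q i - π • X i).order := by
  have : ltVec π q i - π • X i = X i ^ q := by simp [ltVec]
  rw [this]
  exact le_order_pow_of_constantCoeff_eq_zero q (by simp)

lemma coeff_subst_ltVec [Finite σ] (hq : 2 ≤ q) (Δ : MvPowerSeries σ O) (s : ℕ)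
    (hs : (s : ℕ∞) ≤ Δ.order) (d : σ →₀ ℕ) (hd : d.degree ≤ s) :
    coeff d (Δ.subst (ltVec π q)) = π ^ d.degree * coeff d Δ :=
  coeff_subst_of_linear (ltVec π q) π q (hasSubst_ltVec π q (by omega))
    (one_le_order_ltVec π q (by omega)) (ltVec_sub π q) Δ s hs d (by omega)

end LT

section Unique

variable {O : Type*} [CommRing O] [IsDomain O] {σ : Type*} [Finite σ]

theorem lt_unique (π : O) (q : ℕ) (hq : 2 ≤ q) (hπ0 : π ≠ 0)
    (hπu : ∀ r : ℕ, 1 ≤ r → π ^ r ≠ 1)
    (Φ Ψ : MvPowerSeries σ O) (hΦ0 : constantCoeff Φ = 0) (hΨ0 : constantCoeff Ψ = 0)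
    (hlin : ∀ i, coeff (Finsupp.single i 1) Φ = coeff (Finsupp.single i 1) Ψ)
    (hΦ : ltDefect π q Φ = 0) (hΨ : ltDefect π q Ψ = 0) : Φ = Ψ := by
  have hsub := hasSubst_ltVec (σ := σ) π q (by omega)
  have hΦ1 : 1 ≤ Φ.order := one_le_order_iff_constCoeff_eq_zero.mpr hΦ0
  have hΨ1 : 1 ≤ Ψ.order := one_le_order_iff_constCoeff_eq_zero.mpr hΨ0
  rw [← sub_eq_zero]
  have hkey : π • (Φ - Ψ) + (Φ ^ q - Ψ ^ q) = (Φ - Ψ).subst (ltVec π q) := by
    have h1 : π • Φ + Φ ^ q = Φ.subst (ltVec π q) := sub_eq_zero.mp hΦ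
    have h2 : π • Ψ + Ψ ^ q = Ψ.subst (ltVec π q) := sub_eq_zero.mp hΨ
    rw [subst_sub hsub, ← h1, ← h2, smul_sub]; ring
  have hind : ∀ r : ℕ, ((r + 2 : ℕ) : ℕ∞) ≤ (Φ - Ψ).order := by
    intro r
    induction r with
    | zero =>
      have := two_le_order (Φ - Ψ) (by simp [hΦ0, hΨ0]) (by intro i; simp [hlin i])
      exact_mod_cast this
    | succ r ih =>
      apply nat_le_order
      intro d hd
      rcases Nat.lt_or_ge d.degree (r + 2) with h | h
      · exact coeff_of_lt_order (lt_of_lt_of_le (by exact_mod_cast h) ih)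
      · have hdeg : d.degree = r + 2 := by omega
        have h1 := congrArg (coeff d) hkey
        have h2 : coeff d (Φ ^ q - Ψ ^ q) = 0 :=
          coeff_of_lt_order (enat_aux _ d.degree (q + (r + 2))
            (order_pow_sub_pow Φ Ψ q (r + 2) hΦ1 hΨ1 ih) (by omega))
        have h3 : coeff d ((Φ - Ψ).subst (ltVec π q)) = π ^ d.degree * coeff d (Φ - Ψ) :=
          coeff_subst_ltVec π q hq (Φ - Ψ) (r + 2) ih d (by omega)
        rw [map_add, h2, h3, add_zero, map_smul, smul_eq_mul, hdeg] at h1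
        have h4 : π * (1 - π ^ (r + 1)) * coeff d (Φ - Ψ) = 0 := by
          rw [pow_succ] at h1
          linear_combination h1
        rcases mul_eq_zero.mp h4 with h5 | h5
        · rcases mul_eq_zero.mp h5 with h6 | h6
          · exact absurd h6 hπ0
          · exact absurd (sub_eq_zero.mp h6).symm (hπu (r + 1) (by omega))
        · exact h5
  exact eq_zero_of_forall_le_order _
    (fun n => le_trans (by exact_mod_cast (Nat.le_add_right n 2)) (hind n))

end Unique

section Frob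

variable {κ : Type*} [Field κ] [Finite κ] {σ : Type*}

lemma pow_card_eq_subst (ψ : MvPowerSeries σ κ) :
    ψ ^ Nat.card κ = ψ.subst (fun i => (X i : MvPowerSeries σ κ) ^ Nat.card κ) := by
  haveI := Fintype.ofFinite κ
  let p := ringChar κ
  haveI : CharP κ p := ringChar.charP κ
  obtain ⟨n, hp, hcard⟩ := FiniteField.card κ p
  haveI : Fact p.Prime := ⟨hp⟩
  have hq : Nat.card κ = p ^ (n : ℕ) := by rw [Nat.card_eq_fintype_card, hcard]
  have hp0 : p ≠ 0 := hp.ne_zero
  have h := map_iterateFrobenius_expand p hp0 ψ n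
  have hid : iterateFrobenius κ p n = RingHom.id κ := by
    ext a
    rw [iterateFrobenius_def, ← hcard, FiniteField.pow_card]; rfl
  rw [hid, map_id] at h
  rw [hq, ← h]
  simp [expand, ← coe_substAlgHom]

end Frob

section Exists

variable {O : Type*} [CommRing O] [IsDomain O] [IsDiscreteValuationRing O]
  [Finite (IsLocalRing.ResidueField O)] {σ : Type*} [Finite σ]

lemma two_le_card_residue : 2 ≤ Nat.card (IsLocalRing.ResidueField O) :=
  Finite.one_lt_card

lemma dvd_coeff_ltDefect (π : O) (hπ : Irreducible π) (Φ : MvPowerSeries σ O) (d : σ →₀ ℕ) :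
    π ∣ coeff d (ltDefect π (Nat.card (IsLocalRing.ResidueField O)) Φ) := by
  set q := Nat.card (IsLocalRing.ResidueField O) with hqdef
  have hq2 : 2 ≤ q := two_le_card_residue
  have hsub := hasSubst_ltVec (σ := σ) π q (by omega)
  have hρπ : IsLocalRing.residue O π = 0 := by
    rw [IsLocalRing.residue_eq_zero_iff, hπ.maximalIdeal_eq]
    exact Ideal.mem_span_singleton_self π
  have hmap : map (IsLocalRing.residue O) (ltDefect π q Φ) = 0 := by
    rw [ltDefect, map_sub, map_add, map_pow, smul_eq_C_mul, map_mul, map_C, hρπ, map_zero,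
      zero_mul, zero_add, map_subst hsub]
    have : (fun i => map (IsLocalRing.residue O) (ltVec π q i)) =
        fun i => (X i : MvPowerSeries σ (IsLocalRing.ResidueField O)) ^ q := by
      funext i
      rw [ltVec, map_add, map_pow, smul_eq_C_mul, map_mul, map_C, hρπ, map_zero, zero_mul,
        zero_add, map_X]
    rw [this, hqdef, pow_card_eq_subst, sub_self]
  have h1 : IsLocalRing.residue O (coeff d (ltDefect π q Φ)) = 0 := by
    rw [← coeff_map, hmap, map_zero]
  rw [IsLocalRing.residue_eq_zero_iff, hπ.maximalIdeal_eq, Ideal.mem_span_singleton] at h1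
  exact h1

lemma two_le_order_ltDefect (π : O) (q : ℕ) (hq : 2 ≤ q) (Φ : MvPowerSeries σ O)
    (hΦ0 : constantCoeff Φ = 0) : (2 : ℕ∞) ≤ (ltDefect π q Φ).order := by
  have hsub := hasSubst_ltVec (σ := σ) π q (by omega)
  have hΦ1 : ((1 : ℕ) : ℕ∞) ≤ Φ.order := by
    exact_mod_cast one_le_order_iff_constCoeff_eq_zero.mpr hΦ0
  apply two_le_order
  · rw [ltDefect, map_sub, map_add, map_pow,
      constantCoeff_subst_eq_zero hsub (constantCoeff_ltVec π q (by omega)) hΦ0, hΦ0,
      zero_pow (by omega), smul_eq_C_mul, map_mul, hΦ0]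
    simp
  · intro i
    have h1 : coeff (Finsupp.single i 1) (Φ ^ q) = 0 := by
      apply coeff_of_lt_order
      refine lt_of_lt_of_le ?_ (le_order_pow_of_constantCoeff_eq_zero q hΦ0)
      rw [Finsupp.degree_single]
      exact_mod_cast hq
    have h2 := coeff_subst_ltVec π q hq Φ 1 hΦ1 (Finsupp.single i 1)
      (by rw [Finsupp.degree_single])
    rw [ltDefect, map_sub, map_add, h1, h2, Finsupp.degree_single, map_smul, smul_eq_mul]
    ring

lemma lt_step (π : O) (hπ : Irreducible π) (Φ : MvPowerSeries σ O) (hΦ0 : constantCoeff Φ = 0)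
    (r : ℕ) (hr : 1 ≤ r)
    (hD : ((r + 1 : ℕ) : ℕ∞) ≤
      (ltDefect π (Nat.card (IsLocalRing.ResidueField O)) Φ).order) :
    ∃ E : MvPowerSeries σ O, ((r + 1 : ℕ) : ℕ∞) ≤ E.order ∧
      ((r + 2 : ℕ) : ℕ∞) ≤
        (ltDefect π (Nat.card (IsLocalRing.ResidueField O)) (Φ + E)).order := by
  set q := Nat.card (IsLocalRing.ResidueField O) with hqdef
  have hq2 : 2 ≤ q := two_le_card_residue
  have hsub := hasSubst_ltVec (σ := σ) π q (by omega)
  have hdvd : ∀ d, ∃ c, coeff d (ltDefect π q Φ) = π * c := fun d =>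
    dvd_coeff_ltDefect π hπ Φ d
  choose c hc using hdvd
  have hu : IsUnit (1 - π ^ r) := by
    apply IsLocalRing.isUnit_one_sub_self_of_mem_nonunits
    rw [mem_nonunits_iff, isUnit_pow_iff (by omega)]
    exact hπ.not_isUnit
  obtain ⟨v, hv⟩ := hu.exists_right_inv
  let E : MvPowerSeries σ O := fun d => if d.degree = r + 1 then -(c d * v) else 0
  have hEcoeff : ∀ d, coeff d E = if d.degree = r + 1 then -(c d * v) else 0 := fun d => rfl
  have hE : ((r + 1 : ℕ) : ℕ∞) ≤ E.order := by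
    apply nat_le_order
    intro d hd
    rw [hEcoeff, if_neg (by omega)]
  have hE0 : constantCoeff E = 0 := by
    rw [← one_le_order_iff_constCoeff_eq_zero]
    refine le_trans ?_ hE
    exact_mod_cast (by omega : 1 ≤ r + 1)
  have hΦ1 : 1 ≤ Φ.order := one_le_order_iff_constCoeff_eq_zero.mpr hΦ0
  have hΦE1 : 1 ≤ (Φ + E).order := by
    rw [one_le_order_iff_constCoeff_eq_zero, map_add, hΦ0, hE0, add_zero]
  refine ⟨E, hE, ?_⟩
  have hsplit : ltDefect π q (Φ + E) =
      ltDefect π q Φ + π • E + ((Φ + E) ^ q - Φ ^ q) - E.subst (ltVec π q) := by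
    simp only [ltDefect, subst_add hsub, smul_add]
    ring
  apply nat_le_order
  intro d hd
  have h2 : coeff d ((Φ + E) ^ q - Φ ^ q) = 0 :=
    coeff_of_lt_order (enat_aux _ d.degree (q + (r + 1))
      (order_pow_sub_pow (Φ + E) Φ q (r + 1) hΦE1 hΦ1 (by simpa using hE)) (by omega))
  have h3 : coeff d (E.subst (ltVec π q)) = π ^ d.degree * coeff d E :=
    coeff_subst_ltVec π q hq2 E (r + 1) hE d (by omega)
  rw [hsplit, map_sub, map_add, map_add, h2, h3, add_zero, map_smul, smul_eq_mul, hEcoeff]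
  rcases Nat.lt_or_ge d.degree (r + 1) with h | h
  · rw [if_neg (by omega), coeff_of_lt_order (lt_of_lt_of_le (by exact_mod_cast h) hD)]
    ring
  · have hdeg : d.degree = r + 1 := by omega
    rw [if_pos hdeg, hc d, hdeg, pow_succ]
    linear_combination (-(π * c d)) * hv

end Exists

section Exists2

variable {O : Type*} [CommRing O] [IsDomain O] [IsDiscreteValuationRing O]
  [Finite (IsLocalRing.ResidueField O)] {σ : Type*} [Finite σ]

/-- invariant of the `n`-th approximation -/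
def LTInv (π : O) (a : σ → O) (n : ℕ) (Φ : MvPowerSeries σ O) : Prop :=
  constantCoeff Φ = 0 ∧ (∀ i, coeff (Finsupp.single i 1) Φ = a i) ∧
    ((n + 2 : ℕ) : ℕ∞) ≤ (ltDefect π (Nat.card (IsLocalRing.ResidueField O)) Φ).order

lemma ltInv_step (π : O) (hπ : Irreducible π) (a : σ → O) (n : ℕ) (Φ : MvPowerSeries σ O)
    (h : LTInv π a n Φ) :
    ∃ Φ' : MvPowerSeries σ O, LTInv π a (n + 1) Φ' ∧ ((n + 2 : ℕ) : ℕ∞) ≤ (Φ' - Φ).order := by
  obtain ⟨h0, h1, h2⟩ := h
  obtain ⟨E, hE, hD⟩ := lt_step π hπ Φ h0 (n + 1) (by omega) h2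
  have hcoeffE : ∀ d : σ →₀ ℕ, d.degree < 2 → coeff d E = 0 := by
    intro d hd
    apply coeff_of_lt_order
    refine lt_of_lt_of_le ?_ hE
    exact_mod_cast (by omega : d.degree < n + 1 + 1)
  refine ⟨Φ + E, ⟨?_, ?_, hD⟩, ?_⟩
  · have := hcoeffE 0 (by simp)
    rw [map_add, h0, ← coeff_zero_eq_constantCoeff_apply, this, add_zero]
  · intro i
    rw [map_add, h1 i, hcoeffE _ (by rw [Finsupp.degree_single]; omega), add_zero]
  · have : Φ + E - Φ = E := by ring
    rw [this]
    exact hE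

lemma exists_ltInv_zero (π : O) (a : σ → O) : ∃ Φ : MvPowerSeries σ O, LTInv π a 0 Φ := by
  classical
  haveI := Fintype.ofFinite σ
  let Φ₀ : MvPowerSeries σ O := ∑ i, C (a i) * X i
  have h0 : constantCoeff Φ₀ = 0 := by simp [Φ₀]
  refine ⟨Φ₀, h0, ?_, ?_⟩
  · intro j
    simp only [Φ₀, map_sum, coeff_C_mul, coeff_index_single_X]
    simp
  · have := two_le_order_ltDefect π (Nat.card (IsLocalRing.ResidueField O)) two_le_card_residue
      Φ₀ h0
    simpa using this

lemma enat_aux2 (x : ℕ∞) (q n : ℕ) (h : ((q + n : ℕ) : ℕ∞) ≤ x + 1) (hq : 1 ≤ q) :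
    (n : ℕ∞) ≤ x := by
  induction x using ENat.recTopCoe with
  | top => exact le_top
  | coe x =>
    norm_cast at h ⊢
    omega

theorem lt_exists (π : O) (hπ : Irreducible π) (a : σ → O) :
    ∃ Φ : MvPowerSeries σ O, constantCoeff Φ = 0 ∧ (∀ i, coeff (Finsupp.single i 1) Φ = a i) ∧
      ltDefect π (Nat.card (IsLocalRing.ResidueField O)) Φ = 0 := by
  set q := Nat.card (IsLocalRing.ResidueField O) with hqdef
  have hq2 : 2 ≤ q := two_le_card_residue
  have hsub := hasSubst_ltVec (σ := σ) π q (by omega)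
  obtain ⟨Φ₀, hΦ₀⟩ := exists_ltInv_zero π a
  let s : (n : ℕ) → {Φ : MvPowerSeries σ O // LTInv π a n Φ} := fun n =>
    Nat.rec ⟨Φ₀, hΦ₀⟩
      (fun n Φn => ⟨Classical.choose (ltInv_step π hπ a n Φn.1 Φn.2),
        (Classical.choose_spec (ltInv_step π hπ a n Φn.1 Φn.2)).1⟩) n
  have hs : ∀ n : ℕ, ((n + 2 : ℕ) : ℕ∞) ≤ ((s (n + 1)).1 - (s n).1).order := fun n =>
    (Classical.choose_spec (ltInv_step π hπ a n (s n).1 (s n).2)).2
  obtain ⟨Φ, hΦ⟩ := exists_limit (fun n => (s n).1)
    (fun n => le_trans (by exact_mod_cast (Nat.le_add_right n 2)) (hs n))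
  have hcoeff : ∀ d : σ →₀ ℕ, d.degree < 2 → coeff d Φ = coeff d (s 2).1 := by
    intro d hd
    have := coeff_of_lt_order (f := Φ - (s 2).1) (d := d)
      (lt_of_lt_of_le (by exact_mod_cast hd) (hΦ 2))
    rw [map_sub, sub_eq_zero] at this
    exact this
  have hΦ0 : constantCoeff Φ = 0 := by
    have := hcoeff 0 (by simp)
    rw [← coeff_zero_eq_constantCoeff_apply, this, coeff_zero_eq_constantCoeff_apply]
    exact (s 2).2.1
  have hΦ1 : 1 ≤ Φ.order := one_le_order_iff_constCoeff_eq_zero.mpr hΦ0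
  refine ⟨Φ, hΦ0, ?_, ?_⟩
  · intro i
    rw [hcoeff _ (by rw [Finsupp.degree_single]; omega)]
    exact (s 2).2.2.1 i
  · apply eq_zero_of_forall_le_order
    intro n
    have hsn0 : constantCoeff (s n).1 = 0 := (s n).2.1
    have hsn1 : 1 ≤ (s n).1.order := one_le_order_iff_constCoeff_eq_zero.mpr hsn0
    have hsplit : ltDefect π q Φ = ltDefect π q (s n).1 + π • (Φ - (s n).1) +
        (Φ ^ q - (s n).1 ^ q) - (Φ - (s n).1).subst (ltVec π q) := by
      simp only [ltDefect, subst_sub hsub, smul_sub]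
      ring
    rw [hsplit]
    have h1 : (n : ℕ∞) ≤ (ltDefect π q (s n).1).order :=
      le_trans (by exact_mod_cast (Nat.le_add_right n 2)) (s n).2.2.2
    have h2 : (n : ℕ∞) ≤ (π • (Φ - (s n).1)).order := le_trans (hΦ n) le_order_smul
    have h3 : (n : ℕ∞) ≤ (Φ ^ q - (s n).1 ^ q).order :=
      enat_aux2 _ q n (order_pow_sub_pow Φ (s n).1 q n hΦ1 hsn1 (hΦ n)) (by omega)
    have h4 : (n : ℕ∞) ≤ ((Φ - (s n).1).subst (ltVec π q)).order :=
      le_trans (hΦ n) (le_order_subst_of_one_le _ hsub (one_le_order_ltVec π q (by omega)))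
    refine le_trans (le_min (le_trans (le_min (le_trans (le_min h1 h2) min_order_le_add) h3)
      min_order_le_add) h4) (order_sub_ge _ _)

end Exists2

section Bridge

variable {O : Type*} [CommRing O] {σ : Type*}

lemma subst_ltf (π : O) (q : ℕ) (Φ : MvPowerSeries σ O) (hΦ : constantCoeff Φ = 0) :
    PowerSeries.subst Φ (π • PowerSeries.X + PowerSeries.X ^ q : PowerSeries O) =
      π • Φ + Φ ^ q := by
  have h : PowerSeries.HasSubst Φ := PowerSeries.HasSubst.of_constantCoeff_zero hΦ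
  rw [PowerSeries.subst_add h, PowerSeries.subst_smul h, PowerSeries.subst_pow h,
    PowerSeries.subst_X h]

lemma ltVec_eq (π : O) (q : ℕ) :
    (fun i : σ => PowerSeries.subst (X i : MvPowerSeries σ O)
      (π • PowerSeries.X + PowerSeries.X ^ q : PowerSeries O)) = ltVec π q := by
  funext i
  rw [subst_ltf _ _ _ (by simp)]
  rfl

lemma ltDefect_eq_zero_iff (π : O) (q : ℕ) (Φ : MvPowerSeries σ O) (hΦ : constantCoeff Φ = 0) :
    ltDefect π q Φ = 0 ↔
      PowerSeries.subst Φ (π • PowerSeries.X + PowerSeries.X ^ q : PowerSeries O) =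
        MvPowerSeries.subst (fun i : σ => PowerSeries.subst (X i : MvPowerSeries σ O)
          (π • PowerSeries.X + PowerSeries.X ^ q : PowerSeries O)) Φ := by
  rw [ltVec_eq, subst_ltf _ _ _ hΦ, ltDefect, sub_eq_zero]

end Bridge

section DVR

variable {O : Type*} [CommRing O] [IsDomain O] [IsDiscreteValuationRing O]
  [Finite (IsLocalRing.ResidueField O)] {σ : Type*} [Finite σ]

/-- Lubin–Tate uniqueness in the DVR setting. -/
theorem lt_unique_dvr (π : O) (hπ : Irreducible π)
    (Φ Ψ : MvPowerSeries σ O) (hΦ0 : constantCoeff Φ = 0) (hΨ0 : constantCoeff Ψ = 0)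
    (hlin : ∀ i, coeff (Finsupp.single i 1) Φ = coeff (Finsupp.single i 1) Ψ)
    (hΦ : ltDefect π (Nat.card (IsLocalRing.ResidueField O)) Φ = 0)
    (hΨ : ltDefect π (Nat.card (IsLocalRing.ResidueField O)) Ψ = 0) : Φ = Ψ :=
  lt_unique π _ two_le_card_residue hπ.ne_zero
    (fun r hr h => hπ.not_isUnit (IsUnit.of_pow_eq_one h (by omega))) Φ Ψ hΦ0 hΨ0 hlin hΦ hΨ

end DVR

section Compose

variable {O : Type*} [CommRing O] {σ τ : Type*}

/-- linear coefficients of a composition -/
lemma coeff_single_subst [Fintype σ] (Φ : MvPowerSeries σ O) (hΦ : constantCoeff Φ = 0)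
    (a : σ → MvPowerSeries τ O) (ha : HasSubst a) (ha0 : ∀ i, constantCoeff (a i) = 0) (j : τ) :
    coeff (Finsupp.single j 1) (Φ.subst a) =
      ∑ i, coeff (Finsupp.single i 1) Φ * coeff (Finsupp.single j 1) (a i) := by
  classical
  set L : MvPowerSeries σ O := ∑ i, (coeff (Finsupp.single i 1) Φ) • X i with hL
  have hLlin : ∀ k, coeff (Finsupp.single k 1) L = coeff (Finsupp.single k 1) Φ := by
    intro k
    simp only [hL, map_sum, coeff_smul, coeff_index_single_X]
    simp
  have hL0 : constantCoeff L = 0 := by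
    simp [hL, smul_eq_C_mul]
  have h2 : (2 : ℕ∞) ≤ (Φ - L).order :=
    two_le_order _ (by rw [map_sub, hΦ, hL0, sub_zero]) (fun k => by rw [map_sub, hLlin, sub_self])
  have h3 : (2 : ℕ∞) ≤ ((Φ - L).subst a).order :=
    le_trans h2 (le_order_subst_of_one_le _ ha
      (fun i => one_le_order_iff_constCoeff_eq_zero.mpr (ha0 i)))
  have h4 : coeff (Finsupp.single j 1) ((Φ - L).subst a) = 0 := by
    apply coeff_of_lt_order
    refine lt_of_lt_of_le ?_ h3
    rw [Finsupp.degree_single]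
    exact_mod_cast (by norm_num : (1 : ℕ) < 2)
  have h5 : Φ.subst a = (Φ - L).subst a + L.subst a := by
    rw [← subst_add ha]; congr 1; ring
  have h6 : L.subst a = ∑ i, (coeff (Finsupp.single i 1) Φ) • a i := by
    rw [hL, ← coe_substAlgHom ha, map_sum]
    refine Finset.sum_congr rfl (fun i _ => ?_)
    rw [coe_substAlgHom ha, subst_smul ha, subst_X ha]
  rw [h5, map_add, h4, zero_add, h6, map_sum]
  refine Finset.sum_congr rfl (fun i _ => ?_)
  rw [coeff_smul]

variable (π : O) (q : ℕ)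

lemma ltDefect_X [Finite σ] (hq : q ≠ 0) (i : σ) : ltDefect π q (X i : MvPowerSeries σ O) = 0 := by
  rw [ltDefect, subst_X (hasSubst_ltVec π q hq), ltVec, sub_self]

/-- Lubin–Tate solutions are closed under composition. -/
lemma ltDefect_subst [Finite σ] [Finite τ] (hq : q ≠ 0) (Φ : MvPowerSeries σ O)
    (hΦ : ltDefect π q Φ = 0) (a : σ → MvPowerSeries τ O)
    (ha0 : ∀ i, constantCoeff (a i) = 0) (ha : ∀ i, ltDefect π q (a i) = 0) :
    ltDefect π q (Φ.subst a) = 0 := by
  have hsa : HasSubst a := hasSubst_of_constantCoeff_zero ha0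
  have hσ := hasSubst_ltVec (σ := σ) π q hq
  have hτ := hasSubst_ltVec (σ := τ) π q hq
  have h1 : π • Φ + Φ ^ q = Φ.subst (ltVec π q) := sub_eq_zero.mp hΦ
  have h2 : ∀ i, π • a i + a i ^ q = (a i).subst (ltVec π q) := fun i => sub_eq_zero.mp (ha i)
  rw [ltDefect, sub_eq_zero]
  calc π • Φ.subst a + Φ.subst a ^ q = (π • Φ + Φ ^ q).subst a := by
        rw [subst_add hsa, subst_smul hsa, subst_pow hsa]
    _ = (Φ.subst (ltVec π q)).subst a := by rw [h1]
    _ = Φ.subst (fun i => (ltVec π q i).subst a) := subst_comp_subst_apply hσ hsa Φ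
    _ = Φ.subst (fun i => (a i).subst (ltVec π q)) := by
        congr 1
        funext i
        rw [← h2 i, ltVec, subst_add hsa, subst_smul hsa, subst_pow hsa, subst_X hsa]
    _ = (Φ.subst a).subst (ltVec π q) := (subst_comp_subst_apply hsa hτ Φ).symm

/-- one-variable version of the defect in terms of commutation with `f`. -/
lemma ltDefect_unit_iff (g : PowerSeries O) (hg : constantCoeff g = 0) :
    ltDefect π q g = 0 ↔
      PowerSeries.subst g (π • PowerSeries.X + PowerSeries.X ^ q : PowerSeries O) =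
        PowerSeries.subst (π • PowerSeries.X + PowerSeries.X ^ q : PowerSeries O) g := by
  rw [ltDefect_eq_zero_iff π _ g hg, ltVec_eq]
  have : (fun _ : Unit => (π • PowerSeries.X + PowerSeries.X ^ q : PowerSeries O)) =
      ltVec π q := by
    funext i
    rfl
  rw [PowerSeries.subst_def (π • PowerSeries.X + PowerSeries.X ^ q : PowerSeries O) g, this]

end Compose

end Groth.Agent.Lib.Helper61
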