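import Groth.Agent.Lib.Helper61.LT

set_option autoImplicit false

namespace Groth.Agent.Lib.Helper61

open MvPowerSeries

section Lin

variable {K : Type*} [CommRing K] {σ : Type*} (ϖ : K) (q : ℕ)

/-- the linear defect `H(ϖ X + X^q) - ϖ H` -/
noncomputable def linDefect (H : MvPowerSeries σ K) : MvPowerSeries σ K :=
  H.subst (ltVec ϖ q) - ϖ • H

variable [Finite σ]

lemma linDefect_add (hq : q ≠ 0) (H H' : MvPowerSeries σ K) :
    linDefect ϖ q (H + H') = linDefect ϖ q H + linDefect ϖ q H' := by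
  simp only [linDefect, subst_add (hasSubst_ltVec ϖ q hq), smul_add]
  ring

lemma linDefect_sub (hq : q ≠ 0) (H H' : MvPowerSeries σ K) :
    linDefect ϖ q (H - H') = linDefect ϖ q H - linDefect ϖ q H' := by
  simp only [linDefect, subst_sub (hasSubst_ltVec ϖ q hq), smul_sub]
  ring

lemma linDefect_smul (hq : q ≠ 0) (c : K) (H : MvPowerSeries σ K) :
    linDefect ϖ q (c • H) = c • linDefect ϖ q H := by
  simp only [linDefect, subst_smul (hasSubst_ltVec ϖ q hq), smul_sub, smul_smul, mul_comm]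

lemma le_order_linDefect (hq : q ≠ 0) (H : MvPowerSeries σ K) :
    H.order ≤ (linDefect ϖ q H).order := by
  refine le_trans (le_min ?_ ?_) (order_sub_ge _ _)
  · exact le_order_subst_of_one_le _ (hasSubst_ltVec ϖ q hq) (one_le_order_ltVec ϖ q hq)
  · exact le_order_smul

lemma coeff_linDefect (hq : 2 ≤ q) (H : MvPowerSeries σ K) (s : ℕ) (hs : (s : ℕ∞) ≤ H.order)
    (d : σ →₀ ℕ) (hd : d.degree ≤ s) :
    coeff d (linDefect ϖ q H) = (ϖ ^ d.degree - ϖ) * coeff d H := by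
  rw [linDefect, map_sub, coeff_subst_ltVec ϖ q hq H s hs d hd, coeff_smul]
  ring

lemma two_le_order_linDefect (hq : 2 ≤ q) (H : MvPowerSeries σ K) (h0 : constantCoeff H = 0) :
    (2 : ℕ∞) ≤ (linDefect ϖ q H).order := by
  have h1 : ((1 : ℕ) : ℕ∞) ≤ H.order := by
    exact_mod_cast one_le_order_iff_constCoeff_eq_zero.mpr h0
  apply two_le_order
  · have := coeff_linDefect ϖ q hq H 1 h1 0 (by simp)
    rw [coeff_zero_eq_constantCoeff_apply, coeff_zero_eq_constantCoeff_apply, h0, mul_zero] at this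
    exact this
  · intro i
    rw [coeff_linDefect ϖ q hq H 1 h1 _ (by rw [Finsupp.degree_single]), Finsupp.degree_single]
    ring

theorem lin_unique [IsDomain K] (hq : 2 ≤ q) (hϖ0 : ϖ ≠ 0) (hϖu : ∀ r : ℕ, 1 ≤ r → ϖ ^ r ≠ 1)
    (H : MvPowerSeries σ K) (h0 : constantCoeff H = 0)
    (hlin : ∀ i, coeff (Finsupp.single i 1) H = 0) (hH : linDefect ϖ q H = 0) : H = 0 := by
  have hind : ∀ r : ℕ, ((r + 2 : ℕ) : ℕ∞) ≤ H.order := by
    intro r
    induction r with
    | zero =>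
      have := two_le_order H h0 hlin
      exact_mod_cast this
    | succ r ih =>
      apply nat_le_order
      intro d hd
      rcases Nat.lt_or_ge d.degree (r + 2) with h | h
      · exact coeff_of_lt_order (lt_of_lt_of_le (by exact_mod_cast h) ih)
      · have hdeg : d.degree = r + 2 := by omega
        have h1 := coeff_linDefect ϖ q hq H (r + 2) ih d (by omega)
        rw [hH, map_zero, hdeg] at h1
        have h4 : ϖ * (ϖ ^ (r + 1) - 1) * coeff d H = 0 := by
          rw [pow_succ] at h1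
          linear_combination -h1
        rcases mul_eq_zero.mp h4 with h5 | h5
        · rcases mul_eq_zero.mp h5 with h6 | h6
          · exact absurd h6 hϖ0
          · exact absurd (sub_eq_zero.mp h6) (hϖu (r + 1) (by omega))
        · exact h5
  exact eq_zero_of_forall_le_order _
    (fun n => le_trans (by exact_mod_cast (Nat.le_add_right n 2)) (hind n))

end Lin

section LinExists

variable {K : Type*} [Field K] {σ : Type*} [Finite σ] (ϖ : K) (q : ℕ)

lemma lin_step (hq : 2 ≤ q) (hϖ0 : ϖ ≠ 0) (hϖu : ∀ r : ℕ, 1 ≤ r → ϖ ^ r ≠ 1)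
    (H : MvPowerSeries σ K) (r : ℕ) (hr : 1 ≤ r)
    (hD : ((r + 1 : ℕ) : ℕ∞) ≤ (linDefect ϖ q H).order) :
    ∃ E : MvPowerSeries σ K, ((r + 1 : ℕ) : ℕ∞) ≤ E.order ∧
      ((r + 2 : ℕ) : ℕ∞) ≤ (linDefect ϖ q (H + E)).order := by
  have hne : ϖ ^ (r + 1) - ϖ ≠ 0 := by
    intro h
    have h1 : ϖ * (ϖ ^ r - 1) = 0 := by rw [pow_succ] at h; linear_combination h
    rcases mul_eq_zero.mp h1 with h2 | h2
    · exact hϖ0 h2
    · exact hϖu r hr (sub_eq_zero.mp h2)
  let E : MvPowerSeries σ K := fun d =>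
    if d.degree = r + 1 then -(coeff d (linDefect ϖ q H)) / (ϖ ^ (r + 1) - ϖ) else 0
  have hEcoeff : ∀ d, coeff d E =
      if d.degree = r + 1 then -(coeff d (linDefect ϖ q H)) / (ϖ ^ (r + 1) - ϖ) else 0 :=
    fun d => rfl
  have hE : ((r + 1 : ℕ) : ℕ∞) ≤ E.order := by
    apply nat_le_order
    intro d hd
    rw [hEcoeff, if_neg (by omega)]
  refine ⟨E, hE, ?_⟩
  apply nat_le_order
  intro d hd
  rw [linDefect_add ϖ q (by omega), map_add, coeff_linDefect ϖ q hq E (r + 1) hE d (by omega),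
    hEcoeff]
  rcases Nat.lt_or_ge d.degree (r + 1) with h | h
  · rw [if_neg (by omega), coeff_of_lt_order (lt_of_lt_of_le (by exact_mod_cast h) hD)]
    ring
  · have hdeg : d.degree = r + 1 := by omega
    rw [if_pos hdeg, hdeg]
    field_simp
    ring

/-- invariant of the `n`-th approximation -/
def LinInv (a : σ → K) (n : ℕ) (H : MvPowerSeries σ K) : Prop :=
  constantCoeff H = 0 ∧ (∀ i, coeff (Finsupp.single i 1) H = a i) ∧
    ((n + 2 : ℕ) : ℕ∞) ≤ (linDefect ϖ q H).order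

lemma linInv_step (hq : 2 ≤ q) (hϖ0 : ϖ ≠ 0) (hϖu : ∀ r : ℕ, 1 ≤ r → ϖ ^ r ≠ 1)
    (a : σ → K) (n : ℕ) (H : MvPowerSeries σ K) (h : LinInv ϖ q a n H) :
    ∃ H' : MvPowerSeries σ K, LinInv ϖ q a (n + 1) H' ∧
      ((n + 2 : ℕ) : ℕ∞) ≤ (H' - H).order := by
  obtain ⟨h0, h1, h2⟩ := h
  obtain ⟨E, hE, hD⟩ := lin_step ϖ q hq hϖ0 hϖu H (n + 1) (by omega) h2
  have hcoeffE : ∀ d : σ →₀ ℕ, d.degree < 2 → coeff d E = 0 := by
    intro d hd
    apply coeff_of_lt_order
    refine lt_of_lt_of_le ?_ hE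
    exact_mod_cast (by omega : d.degree < n + 1 + 1)
  refine ⟨H + E, ⟨?_, ?_, hD⟩, ?_⟩
  · have := hcoeffE 0 (by simp)
    rw [map_add, h0, ← coeff_zero_eq_constantCoeff_apply, this, add_zero]
  · intro i
    rw [map_add, h1 i, hcoeffE _ (by rw [Finsupp.degree_single]; omega), add_zero]
  · have : H + E - H = E := by ring
    rw [this]
    exact hE

lemma exists_linInv_zero (hq : 2 ≤ q) (a : σ → K) : ∃ H : MvPowerSeries σ K, LinInv ϖ q a 0 H := by
  classical
  haveI := Fintype.ofFinite σ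
  let H₀ : MvPowerSeries σ K := ∑ i, C (a i) * X i
  have h0 : constantCoeff H₀ = 0 := by simp [H₀]
  refine ⟨H₀, h0, ?_, ?_⟩
  · intro j
    simp only [H₀, map_sum, coeff_C_mul, coeff_index_single_X]
    simp
  · have := two_le_order_linDefect ϖ q hq H₀ h0
    simpa using this

theorem lin_exists (hq : 2 ≤ q) (hϖ0 : ϖ ≠ 0) (hϖu : ∀ r : ℕ, 1 ≤ r → ϖ ^ r ≠ 1) (a : σ → K) :
    ∃ H : MvPowerSeries σ K, constantCoeff H = 0 ∧ (∀ i, coeff (Finsupp.single i 1) H = a i) ∧
      linDefect ϖ q H = 0 := by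
  obtain ⟨H₀, hH₀⟩ := exists_linInv_zero ϖ q hq a
  let s : (n : ℕ) → {H : MvPowerSeries σ K // LinInv ϖ q a n H} := fun n =>
    Nat.rec ⟨H₀, hH₀⟩
      (fun n Hn => ⟨Classical.choose (linInv_step ϖ q hq hϖ0 hϖu a n Hn.1 Hn.2),
        (Classical.choose_spec (linInv_step ϖ q hq hϖ0 hϖu a n Hn.1 Hn.2)).1⟩) n
  have hs : ∀ n : ℕ, ((n + 2 : ℕ) : ℕ∞) ≤ ((s (n + 1)).1 - (s n).1).order := fun n =>
    (Classical.choose_spec (linInv_step ϖ q hq hϖ0 hϖu a n (s n).1 (s n).2)).2
  obtain ⟨H, hH⟩ := exists_limit (fun n => (s n).1)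
    (fun n => le_trans (by exact_mod_cast (Nat.le_add_right n 2)) (hs n))
  have hcoeff : ∀ d : σ →₀ ℕ, d.degree < 2 → coeff d H = coeff d (s 2).1 := by
    intro d hd
    have := coeff_of_lt_order (f := H - (s 2).1) (d := d)
      (lt_of_lt_of_le (by exact_mod_cast hd) (hH 2))
    rw [map_sub, sub_eq_zero] at this
    exact this
  refine ⟨H, ?_, ?_, ?_⟩
  · have := hcoeff 0 (by simp)
    rw [← coeff_zero_eq_constantCoeff_apply, this, coeff_zero_eq_constantCoeff_apply]
    exact (s 2).2.1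
  · intro i
    rw [hcoeff _ (by rw [Finsupp.degree_single]; omega)]
    exact (s 2).2.2.1 i
  · apply eq_zero_of_forall_le_order
    intro n
    have hsplit : linDefect ϖ q H = linDefect ϖ q (s n).1 + linDefect ϖ q (H - (s n).1) := by
      rw [← linDefect_add ϖ q (by omega)]
      congr 1
      ring
    rw [hsplit]
    have h1 : (n : ℕ∞) ≤ (linDefect ϖ q (s n).1).order :=
      le_trans (by exact_mod_cast (Nat.le_add_right n 2)) (s n).2.2.2
    have h2 : (n : ℕ∞) ≤ (linDefect ϖ q (H - (s n).1)).order :=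
      le_trans (hH n) (le_order_linDefect ϖ q (by omega) _)
    exact le_trans (le_min h1 h2) min_order_le_add

end LinExists

section LinCompose

variable {K : Type*} [CommRing K] {σ τ : Type*} [Finite σ] [Finite τ] (ϖ : K) (q : ℕ)

/-- solutions of the linear equation composed with Lubin–Tate solutions are solutions -/
lemma linDefect_subst (hq : q ≠ 0) (ℓ : MvPowerSeries σ K) (hℓ : linDefect ϖ q ℓ = 0)
    (a : σ → MvPowerSeries τ K) (ha0 : ∀ i, constantCoeff (a i) = 0)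
    (ha : ∀ i, ltDefect ϖ q (a i) = 0) :
    linDefect ϖ q (ℓ.subst a) = 0 := by
  have hsa : HasSubst a := hasSubst_of_constantCoeff_zero ha0
  have hσ := hasSubst_ltVec (σ := σ) ϖ q hq
  have hτ := hasSubst_ltVec (σ := τ) ϖ q hq
  have h1 : ℓ.subst (ltVec ϖ q) = ϖ • ℓ := sub_eq_zero.mp hℓ
  have h2 : ∀ i, ϖ • a i + a i ^ q = (a i).subst (ltVec ϖ q) := fun i => sub_eq_zero.mp (ha i)
  rw [linDefect, sub_eq_zero]
  calc (ℓ.subst a).subst (ltVec ϖ q) = ℓ.subst (fun i => (a i).subst (ltVec ϖ q)) :=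
        subst_comp_subst_apply hsa hτ ℓ
    _ = ℓ.subst (fun i => (ltVec ϖ q i).subst a) := by
        congr 1
        funext i
        rw [← h2 i, ltVec, subst_add hsa, subst_smul hsa, subst_pow hsa, subst_X hsa]
    _ = (ℓ.subst (ltVec ϖ q)).subst a := (subst_comp_subst_apply hσ hsa ℓ).symm
    _ = (ϖ • ℓ).subst a := by rw [h1]
    _ = ϖ • ℓ.subst a := subst_smul hsa ϖ ℓ

end LinCompose

section MapCompat

variable {O K : Type*} [CommRing O] [CommRing K] (φ : O →+* K) {σ : Type*} [Finite σ]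

lemma map_ltVec (π : O) (q : ℕ) (i : σ) : map φ (ltVec π q i) = ltVec (φ π) q i := by
  rw [ltVec, ltVec, map_add, map_pow, smul_eq_C_mul, map_mul, map_C, map_X, smul_eq_C_mul]

lemma map_ltDefect (π : O) (q : ℕ) (hq : q ≠ 0) (Φ : MvPowerSeries σ O) :
    map φ (ltDefect π q Φ) = ltDefect (φ π) q (map φ Φ) := by
  rw [ltDefect, ltDefect, map_sub, map_add, map_pow, smul_eq_C_mul, map_mul, map_C,
    map_subst (hasSubst_ltVec π q hq), smul_eq_C_mul]
  congr 2
  funext i
  exact map_ltVec φ π q i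

end MapCompat

end Groth.Agent.Lib.Helper61
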