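import Groth.Prelude.Def_LinTop
import Mathlib.Topology.Algebra.InfiniteSum.Nonarchimedean
import Mathlib.RingTheory.Jacobson.Ideal
import Mathlib.Algebra.Ring.GeomSum
import Mathlib.Tactic

/-!
Helper lemmas on admissible rings (`LinTop.IsAdmissible`): an ideal of definition of an
admissible ring lies in the Jacobson radical.
-/

set_option autoImplicit false
universe u

namespace Groth.Agent.Lib.Helper61.LinTopLib

open Filter Topology

/-- A linearly topologized topological ring is nonarchimedean. -/
theorem nonarchimedeanRing_of_isLinearTopology (A : Type u) [CommRing A] [TopologicalSpace A]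
    [IsTopologicalRing A] (h : IsLinearTopology A A) : NonarchimedeanRing A where
  is_nonarchimedean := by
    intro U hU
    obtain ⟨I, hIo, hIU⟩ := (IsLinearTopology.hasBasis_open_ideal (R := A)).mem_iff.mp hU
    exact ⟨⟨I.toAddSubgroup, hIo⟩, hIU⟩

/-- Elements of an ideal of definition are topologically nilpotent. -/
theorem tendsto_pow_of_mem {A : Type u} [CommRing A] [TopologicalSpace A] {J : Ideal A}
    (hJ : LinTop.IsIdealOfDefinition A J) {x : A} (hx : x ∈ J) :
    Tendsto (fun n : ℕ => x ^ n) atTop (𝓝 0) := by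
  rw [tendsto_def]
  intro U hU
  obtain ⟨n, _, hn⟩ := hJ.2 U hU
  rw [mem_atTop_sets]
  refine ⟨n, fun m hm => hn ?_⟩
  exact Ideal.pow_le_pow_right hm (Ideal.pow_mem_pow hx m)

/-- In an admissible ring, `1 - x` is a unit for `x` in an ideal of definition. -/
theorem isUnit_one_sub_of_mem {A : Type u} [CommRing A] [UniformSpace A] [IsUniformAddGroup A]
    [IsTopologicalRing A] (hA : LinTop.IsAdmissible A) {J : Ideal A}
    (hJ : LinTop.IsIdealOfDefinition A J) {x : A} (hx : x ∈ J) : IsUnit (1 - x) := by
  obtain ⟨⟨hlin, _⟩, hT2, hC⟩ := hA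
  have := nonarchimedeanRing_of_isLinearTopology A hlin
  have hpow := tendsto_pow_of_mem hJ hx
  set S : ℕ → A := fun n => ∑ i ∈ Finset.range n, x ^ i with hS
  have hcs : CauchySeq S := by
    apply NonarchimedeanAddGroup.cauchySeq_of_tendsto_sub_nhds_zero
    have : (fun n => S (n + 1) - S n) = fun n => x ^ n := by
      funext n
      simp [hS, Finset.sum_range_succ]
    rw [this]; exact hpow
  obtain ⟨L, hL⟩ := cauchySeq_tendsto_of_complete hcs
  have h1 : Tendsto (fun n => (1 - x) * S n) atTop (𝓝 ((1 - x) * L)) :=
    hL.const_mul _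
  have h2 : Tendsto (fun n => (1 - x) * S n) atTop (𝓝 1) := by
    have : (fun n => (1 - x) * S n) = fun n => 1 - x ^ n := by
      funext n
      simp only [hS]
      rw [mul_comm, geom_sum_mul_neg]
    rw [this]
    simpa using hpow.const_sub 1
  have := tendsto_nhds_unique h1 h2
  exact IsUnit.of_mul_eq_one _ this

/-- An ideal of definition of an admissible ring is contained in the Jacobson radical. -/
theorem le_jacobson_bot {A : Type u} [CommRing A] [UniformSpace A] [IsUniformAddGroup A]
    [IsTopologicalRing A] (hA : LinTop.IsAdmissible A) {J : Ideal A}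
    (hJ : LinTop.IsIdealOfDefinition A J) : J ≤ Ideal.jacobson ⊥ := by
  intro x hx
  rw [Ideal.mem_jacobson_bot]
  intro y
  have h : -(x * y) ∈ J := J.neg_mem (J.mul_mem_right y hx)
  have := isUnit_one_sub_of_mem hA hJ h
  rwa [sub_neg_eq_add, add_comm] at this

end Groth.Agent.Lib.Helper61.LinTopLib
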