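import Mathlib.RingTheory.MvPowerSeries.Substitution
import Mathlib.RingTheory.MvPowerSeries.Order
import Mathlib.RingTheory.PowerSeries.Substitution
import Mathlib.Tactic

set_option autoImplicit false

namespace Groth.Agent.Lib.Helper61

open MvPowerSeries

section Order

variable {τ : Type*} {S : Type*} [CommRing S]

lemma order_sub_ge (x y : MvPowerSeries τ S) : min x.order y.order ≤ (x - y).order := by
  rw [sub_eq_add_neg]
  have := min_order_le_add (f := x) (g := -y)
  rwa [order_neg] at this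

lemma eq_zero_of_forall_le_order (f : MvPowerSeries τ S) (h : ∀ n : ℕ, (n : ℕ∞) ≤ f.order) :
    f = 0 := by
  rw [← order_eq_top_iff]
  exact ENat.eq_top_iff_forall_ge.mpr h

/-- Key estimate on products. -/
lemma order_prod_sub_prod {ι : Type*} (s : Finset ι) (u v : ι → MvPowerSeries τ S) (d : ι → ℕ)
    (r : ℕ) (hu : ∀ i ∈ s, (d i : ℕ∞) ≤ (u i).order) (hv : ∀ i ∈ s, (d i : ℕ∞) ≤ (v i).order)
    (huv : ∀ i ∈ s, ((d i + r : ℕ) : ℕ∞) ≤ (u i - v i).order + 1) :
    (((∑ i ∈ s, d i) + r : ℕ) : ℕ∞) ≤ (∏ i ∈ s, u i - ∏ i ∈ s, v i).order + 1 := by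
  classical
  induction s using Finset.induction_on with
  | empty => simp
  | insert j s hj ih =>
    have ih' := ih (fun i hi => hu i (Finset.mem_insert_of_mem hi))
      (fun i hi => hv i (Finset.mem_insert_of_mem hi))
      (fun i hi => huv i (Finset.mem_insert_of_mem hi))
    rw [Finset.prod_insert hj, Finset.prod_insert hj, Finset.sum_insert hj]
    have hsplit : u j * ∏ i ∈ s, u i - v j * ∏ i ∈ s, v i =
        (u j - v j) * ∏ i ∈ s, u i + v j * (∏ i ∈ s, u i - ∏ i ∈ s, v i) := by ring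
    rw [hsplit]
    have hprodu : ((∑ i ∈ s, d i : ℕ) : ℕ∞) ≤ (∏ i ∈ s, u i).order := by
      refine le_trans ?_ (le_order_prod u s)
      push_cast
      exact Finset.sum_le_sum (fun i hi => hu i (Finset.mem_insert_of_mem hi))
    have h1 : ((d j + ∑ i ∈ s, d i + r : ℕ) : ℕ∞) ≤
        ((u j - v j) * ∏ i ∈ s, u i).order + 1 := by
      have h := le_order_mul (f := u j - v j) (g := ∏ i ∈ s, u i)
      have h2 := huv j (Finset.mem_insert_self j s)
      calc ((d j + ∑ i ∈ s, d i + r : ℕ) : ℕ∞)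
          = ((d j + r : ℕ) : ℕ∞) + ((∑ i ∈ s, d i : ℕ) : ℕ∞) := by push_cast; ring
        _ ≤ ((u j - v j).order + 1) + (∏ i ∈ s, u i).order := add_le_add h2 hprodu
        _ = ((u j - v j).order + (∏ i ∈ s, u i).order) + 1 := by ring
        _ ≤ _ := add_le_add_left h 1
    have h2 : ((d j + ∑ i ∈ s, d i + r : ℕ) : ℕ∞) ≤
        (v j * (∏ i ∈ s, u i - ∏ i ∈ s, v i)).order + 1 := by
      have h := le_order_mul (f := v j) (g := ∏ i ∈ s, u i - ∏ i ∈ s, v i)
      have h3 := hv j (Finset.mem_insert_self j s)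
      calc ((d j + ∑ i ∈ s, d i + r : ℕ) : ℕ∞)
          = (d j : ℕ∞) + ((∑ i ∈ s, d i + r : ℕ) : ℕ∞) := by push_cast; ring
        _ ≤ (v j).order + ((∏ i ∈ s, u i - ∏ i ∈ s, v i).order + 1) := add_le_add h3 ih'
        _ = ((v j).order + (∏ i ∈ s, u i - ∏ i ∈ s, v i).order) + 1 := by ring
        _ ≤ _ := add_le_add_left h 1
    have hmin := min_order_le_add (f := (u j - v j) * ∏ i ∈ s, u i)
      (g := v j * (∏ i ∈ s, u i - ∏ i ∈ s, v i))
    rcases le_total (((u j - v j) * ∏ i ∈ s, u i).order)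
        ((v j * (∏ i ∈ s, u i - ∏ i ∈ s, v i)).order) with h | h
    · rw [min_eq_left h] at hmin
      exact le_trans h1 (add_le_add_left hmin 1)
    · rw [min_eq_right h] at hmin
      exact le_trans h2 (add_le_add_left hmin 1)

lemma enat_aux (x : ℕ∞) (k n : ℕ) (h : ((n : ℕ) : ℕ∞) ≤ x + 1) (hk : k + 2 ≤ n) :
    (k : ℕ∞) < x := by
  induction x using ENat.recTopCoe with
  | top => exact ENat.coe_lt_top k
  | coe x =>
    norm_cast at h ⊢
    omega

lemma order_pow_sub_pow (x y : MvPowerSeries τ S) (n r : ℕ) (hx : 1 ≤ x.order) (hy : 1 ≤ y.order)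
    (hxy : (r : ℕ∞) ≤ (x - y).order) :
    ((n + r : ℕ) : ℕ∞) ≤ (x ^ n - y ^ n).order + 1 := by
  have := order_prod_sub_prod (Finset.range n) (fun _ => x) (fun _ => y) (fun _ => 1) r
    (fun _ _ => by simpa using hx) (fun _ _ => by simpa using hy)
    (fun _ _ => by push_cast; rw [add_comm]; exact add_le_add_left hxy 1)
  simpa using this

lemma order_monomial_sub {σ : Type*} (a b : σ → MvPowerSeries τ S) (ha1 : ∀ i, 1 ≤ (a i).order)
    (hb1 : ∀ i, 1 ≤ (b i).order) (r : ℕ) (hab : ∀ i, (r : ℕ∞) ≤ (a i - b i).order)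
    (d : σ →₀ ℕ) :
    ((d.degree + r : ℕ) : ℕ∞) ≤
      ((d.prod fun s e => a s ^ e) - (d.prod fun s e => b s ^ e)).order + 1 := by
  have := order_prod_sub_prod d.support (fun i => a i ^ d i) (fun i => b i ^ d i) (fun i => d i) r
    (fun i _ => le_order_pow_of_constantCoeff_eq_zero _
      (one_le_order_iff_constCoeff_eq_zero.mp (ha1 i)))
    (fun i _ => le_order_pow_of_constantCoeff_eq_zero _
      (one_le_order_iff_constCoeff_eq_zero.mp (hb1 i)))
    (fun i _ => order_pow_sub_pow (a i) (b i) (d i) r (ha1 i) (hb1 i) (hab i))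
  exact this

end Order

section Subst

variable {σ τ : Type*} {R S : Type*} [CommRing R] [CommRing S] [Algebra R S]

/-- Main estimate: if `f` has order at least `s` and `a`, `b` agree up to order `r`,
then `f(a)` and `f(b)` agree up to order `s + r - 1`. -/
theorem le_order_subst_sub_subst (f : MvPowerSeries σ R) {a b : σ → MvPowerSeries τ S}
    (ha : HasSubst a) (hb : HasSubst b)
    (ha1 : ∀ i, 1 ≤ (a i).order) (hb1 : ∀ i, 1 ≤ (b i).order) (s r : ℕ)
    (hf : (s : ℕ∞) ≤ f.order) (hab : ∀ i, (r : ℕ∞) ≤ (a i - b i).order) :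
    ((s + r : ℕ) : ℕ∞) ≤ (f.subst a - f.subst b).order + 1 := by
  rcases Nat.eq_zero_or_pos (s + r) with h0 | hpos
  · rw [h0]; simp
  obtain ⟨m, hm⟩ : ∃ m, s + r = m + 1 := ⟨s + r - 1, by omega⟩
  rw [hm]
  push_cast
  apply add_le_add_left
  apply le_order
  intro e he
  rw [map_sub, coeff_subst ha, coeff_subst hb,
    ← finsum_sub_distrib (coeff_subst_finite ha f e) (coeff_subst_finite hb f e)]
  apply finsum_eq_zero_of_forall_eq_zero
  intro d
  rw [← smul_sub, ← map_sub]
  by_cases hd : d.degree < s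
  · rw [coeff_of_lt_order (lt_of_lt_of_le (by exact_mod_cast hd) hf), zero_smul]
  · have h1 := order_monomial_sub a b ha1 hb1 r hab d
    have he' : e.degree < m := by exact_mod_cast he
    have h2 : coeff e ((d.prod fun s e => a s ^ e) - d.prod fun s e => b s ^ e) = 0 :=
      coeff_of_lt_order (enat_aux _ _ _ h1 (by omega))
    rw [h2, smul_zero]

end Subst

section Limit

variable {σ : Type*} {R : Type*} [CommRing R]

lemma le_order_sub_of_le (φ : ℕ → MvPowerSeries σ R)
    (h : ∀ n : ℕ, (n : ℕ∞) ≤ (φ (n + 1) - φ n).order) :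
    ∀ n m : ℕ, n ≤ m → (n : ℕ∞) ≤ (φ m - φ n).order := by
  intro n m hnm
  induction m, hnm using Nat.le_induction with
  | base => simp
  | succ m hnm ih =>
    have : φ (m + 1) - φ n = (φ (m + 1) - φ m) + (φ m - φ n) := by ring
    rw [this]
    refine le_trans (le_min ?_ ih) min_order_le_add
    exact le_trans (by exact_mod_cast hnm) (h m)

theorem exists_limit (φ : ℕ → MvPowerSeries σ R)
    (h : ∀ n : ℕ, (n : ℕ∞) ≤ (φ (n + 1) - φ n).order) :
    ∃ Φ : MvPowerSeries σ R, ∀ n : ℕ, (n : ℕ∞) ≤ (Φ - φ n).order := by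
  refine ⟨fun d => coeff d (φ (d.degree + 1)), fun n => ?_⟩
  apply le_order
  intro d hd
  have hd' : d.degree < n := by exact_mod_cast hd
  rw [map_sub]
  have h1 : coeff d (fun d => coeff d (φ (d.degree + 1))) = coeff d (φ (d.degree + 1)) := rfl
  rw [h1, ← map_sub]
  have h2 := le_order_sub_of_le φ h (d.degree + 1) n (by omega)
  have h3 : coeff d (φ n - φ (d.degree + 1)) = 0 :=
    coeff_of_lt_order (lt_of_lt_of_le (by exact_mod_cast Nat.lt_succ_self _) h2)
  rw [← neg_sub, map_neg, h3, neg_zero]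

lemma exists_single_of_degree_eq_one (d : σ →₀ ℕ) (h : d.degree = 1) :
    ∃ i, d = Finsupp.single i 1 := by
  classical
  have hne : d ≠ 0 := by rintro rfl; simp at h
  obtain ⟨i, hi⟩ : ∃ i, d i ≠ 0 := by
    by_contra hcon
    push Not at hcon
    exact hne (Finsupp.ext hcon)
  have hle : Finsupp.single i 1 ≤ d := by
    intro j
    by_cases hj : j = i
    · subst hj; simp; omega
    · simp [Finsupp.single_apply, Ne.symm hj]
  refine ⟨i, ?_⟩
  have h1 : d - Finsupp.single i 1 + Finsupp.single i 1 = d := tsub_add_cancel_of_le hle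
  have h2 : (d - Finsupp.single i 1).degree = 0 := by
    have := congrArg Finsupp.degree h1
    rw [map_add, Finsupp.degree_single, h] at this
    omega
  rw [Finsupp.degree_eq_zero_iff] at h2
  rw [← h1, h2, zero_add]

/-- A power series whose constant and linear coefficients vanish has order at least `2`. -/
lemma two_le_order (f : MvPowerSeries σ R) (h0 : constantCoeff f = 0)
    (h1 : ∀ i, coeff (Finsupp.single i 1) f = 0) : (2 : ℕ∞) ≤ f.order := by
  have : ((2 : ℕ) : ℕ∞) ≤ f.order := by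
    apply nat_le_order
    intro d hd
    have : d.degree = 0 ∨ d.degree = 1 := by omega
    rcases this with h | h
    · rw [Finsupp.degree_eq_zero_iff] at h
      subst h
      simpa using h0
    · obtain ⟨i, rfl⟩ := exists_single_of_degree_eq_one d h
      exact h1 i
  exact_mod_cast this

end Limit

end Groth.Agent.Lib.Helper61
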