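import Mathlib
import Groth.Agent.Lib.Helper57.EtRes6

set_option autoImplicit false
universe u
open CategoryTheory CategoryTheory.Limits AlgebraicGeometry

namespace Groth.Agent.Lib.Helper61.NeronUnqQS

open MvPolynomial in
theorem exists_etale_section_data' {R A : Type u} [CommRing R] [CommRing A] [Algebra R A]
    (n : ℕ) (g : MvPolynomial (Fin n) R →ₐ[R] A)
    (p : Ideal R) [p.IsPrime] (L : Type u) [Field L] [Algebra p.ResidueField L]
    [FiniteDimensional p.ResidueField L] [Algebra.IsSeparable p.ResidueField L]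
    (θA : A →+* L)
    (hθ : ∀ r : R, θA (algebraMap R A r) =
      algebraMap p.ResidueField L (algebraMap R p.ResidueField r)) :
    ∃ (R₂ : Type u) (_ : CommRing R₂) (_ : Algebra R R₂) (_ : Algebra.Etale R R₂)
      (𝔮₂ : Ideal R₂) (_ : 𝔮₂.IsPrime) (σ : MvPolynomial (Fin n) R →ₐ[R] R₂),
      𝔮₂.comap (algebraMap R R₂) = p ∧
        (RingHom.ker θA).comap g.toRingHom = 𝔮₂.comap σ.toRingHom := by
  classical
  obtain ⟨R₁, _, _, _, 𝔮, _, h, ψ, hψ⟩ :=
    Groth.Agent.Lib.Helper57.EtRes.exists_etale_residueField_equiv p L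
  let θ : MvPolynomial (Fin n) R →+* L := θA.comp g.toRingHom
  let y : Fin n → 𝔮.ResidueField := fun i => ψ.symm (θ (X i))
  -- common denominator
  obtain ⟨⟨gb, hgb⟩, hint⟩ := IsLocalization.exist_integer_multiples_of_finset
    (nonZeroDivisors (R₁ ⧸ 𝔮)) (Finset.univ.image y)
  obtain ⟨g₁, rfl⟩ := Ideal.Quotient.mk_surjective gb
  have hg₁ : g₁ ∉ 𝔮 := by
    intro hmem
    exact nonZeroDivisors.ne_zero hgb (Ideal.Quotient.eq_zero_iff_mem.mpr hmem)
  have hg₁' : algebraMap R₁ 𝔮.ResidueField g₁ ≠ 0 := by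
    rwa [Ne, Ideal.algebraMap_residueField_eq_zero]
  have hb : ∀ i, ∃ b : R₁, algebraMap R₁ 𝔮.ResidueField g₁ * y i =
      algebraMap R₁ 𝔮.ResidueField b := by
    intro i
    obtain ⟨bb, hbb⟩ := hint (y i) (Finset.mem_image_of_mem _ (Finset.mem_univ i))
    obtain ⟨b, rfl⟩ := Ideal.Quotient.mk_surjective bb
    refine ⟨b, ?_⟩
    rw [Ideal.algebraMap_quotient_residueField_mk] at hbb
    rw [hbb]
    change _ = (Ideal.Quotient.mk 𝔮 g₁) • y i
    rw [Algebra.smul_def, Ideal.algebraMap_quotient_residueField_mk]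
  choose b hb using hb
  let R₂ := Localization.Away g₁
  have hE₂ : Algebra.Etale R₁ R₂ := Algebra.Etale.of_isLocalizationAway g₁
  have hE : Algebra.Etale R R₂ := Algebra.Etale.comp R R₁ R₂
  let ι₂ : R₂ →+* 𝔮.ResidueField :=
    IsLocalization.Away.lift g₁ (g := algebraMap R₁ 𝔮.ResidueField) (isUnit_iff_ne_zero.mpr hg₁')
  have hι₂ : ∀ r : R₁, ι₂ (algebraMap R₁ R₂ r) = algebraMap R₁ 𝔮.ResidueField r := fun r =>
    IsLocalization.Away.lift_eq g₁ _ r
  let c : Fin n → R₂ := fun i =>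
    IsLocalization.mk' R₂ (b i) (⟨g₁, Submonoid.mem_powers g₁⟩ : Submonoid.powers g₁)
  have hc : ∀ i, ι₂ (c i) = y i := by
    intro i
    have h1 : algebraMap R₁ R₂ g₁ * c i = algebraMap R₁ R₂ (b i) := by
      rw [mul_comm]
      exact IsLocalization.mk'_spec R₂ (b i) (⟨g₁, Submonoid.mem_powers g₁⟩ : Submonoid.powers g₁)
    have h2 := congrArg ι₂ h1
    rw [map_mul, hι₂, hι₂, ← hb i] at h2
    exact mul_left_cancel₀ hg₁' h2
  let σ : MvPolynomial (Fin n) R →ₐ[R] R₂ := MvPolynomial.aeval c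
  let 𝔮₂ : Ideal R₂ := RingHom.ker ι₂
  have h𝔮₂ : 𝔮₂.IsPrime := RingHom.ker_isPrime ι₂
  have hR : ∀ r : R, (ψ : 𝔮.ResidueField →+* L) (algebraMap R₁ 𝔮.ResidueField (algebraMap R R₁ r)) =
      algebraMap p.ResidueField L (algebraMap R p.ResidueField r) := by
    intro r
    have := congr($hψ (algebraMap R p.ResidueField r))
    rw [RingHom.comp_apply, Ideal.ResidueField.map_algebraMap] at this
    exact this
  have hcomp : (ψ : 𝔮.ResidueField →+* L).comp (ι₂.comp σ.toRingHom) = θ := by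
    apply MvPolynomial.ringHom_ext
    · intro r
      simp only [RingHom.comp_apply, AlgHom.toRingHom_eq_coe, RingHom.coe_coe, θ]
      rw [← MvPolynomial.algebraMap_eq, AlgHom.commutes, AlgHom.commutes,
        IsScalarTower.algebraMap_apply R R₁ R₂, hι₂, hθ]
      exact hR r
    · intro i
      simp only [RingHom.comp_apply, AlgHom.toRingHom_eq_coe, RingHom.coe_coe]
      rw [show σ (X i) = c i from MvPolynomial.aeval_X c i, hc]
      exact ψ.apply_symm_apply _
  refine ⟨R₂, inferInstance, inferInstance, hE, 𝔮₂, h𝔮₂, σ, ?_, ?_⟩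
  · ext r
    rw [Ideal.mem_comap, RingHom.mem_ker, IsScalarTower.algebraMap_apply R R₁ R₂, hι₂,
      Ideal.algebraMap_residueField_eq_zero, h, Ideal.mem_comap]
  · ext f
    rw [Ideal.mem_comap, Ideal.mem_comap, RingHom.mem_ker, RingHom.mem_ker]
    have h1 : θA (g.toRingHom f) = θ f := rfl
    rw [h1, ← hcomp, RingHom.comp_apply, RingHom.comp_apply]
    exact (map_eq_zero_iff _ (ψ : 𝔮.ResidueField →+* L).injective)

theorem ker_evaluation {X : Scheme.{u}} {V : X.Opens} (hV : IsAffineOpen V) (x : X) (hx : x ∈ V) :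
    RingHom.ker (X.evaluation V x hx).hom = (hV.primeIdealOf ⟨x, hx⟩).asIdeal := by
  rw [hV.primeIdealOf_eq_map_closedPoint]
  ext a
  rw [RingHom.mem_ker]
  change _ ↔ a ∈ Ideal.comap (X.presheaf.germ V x hx).hom (IsLocalRing.maximalIdeal _)
  rw [Ideal.mem_comap, ← IsLocalRing.residue_eq_zero_iff]
  rfl

theorem exists_etale_section_through {X S : Scheme.{u}} (f : X ⟶ S) [Smooth f] (x : X) (hfin : (f.residueFieldMap x).hom.Finite) (hsep : letI := (f.residueFieldMap x).hom.toAlgebra ; Algebra.IsSeparable (S.residueField (f x)) (X.residueField x)) : ∃ (S' : Scheme.{u}) (g : S' ⟶ S) (s' : S'), Etale g ∧ ∃ h : S' ⟶ X, h ≫ f = g ∧ h s' = x := by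
  obtain ⟨U, hU, V, hV, hxV, e, hf⟩ := Smooth.exists_isStandardSmooth f x
  obtain ⟨n, g, hgC, hg⟩ := hf.exists_etale_mvPolynomial
  algebraize [(f.appLE U V e).hom]
  let gA : MvPolynomial (Fin n) Γ(S, U) →ₐ[Γ(S, U)] Γ(X, V) :=
    { g with commutes' := fun r => congr($hgC r) }
  let p : PrimeSpectrum Γ(S, U) := hU.primeIdealOf ⟨f x, e hxV⟩
  let P : PrimeSpectrum Γ(X, V) := hV.primeIdealOf ⟨x, hxV⟩
  let L := X.residueField x
  let θA : Γ(X, V) →+* L := (X.evaluation V x hxV).hom
  have hker : RingHom.ker θA = P.asIdeal := ker_evaluation hV x hxV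
  let ev : Γ(S, U) →+* S.residueField (f x) := (S.evaluation U (f x) (e hxV)).hom
  have hkerev : RingHom.ker ev = p.asIdeal := ker_evaluation hU (f x) (e hxV)
  have hunit : ∀ r : Γ(S, U), r ∉ p.asIdeal → IsUnit (ev r) := by
    intro r hr
    rw [isUnit_iff_ne_zero]
    intro h0
    exact hr (hkerev ▸ (RingHom.mem_ker.mpr h0))
  let j : p.asIdeal.ResidueField →+* S.residueField (f x) :=
    Ideal.ResidueField.lift p.asIdeal ev hkerev.ge (fun r hr => hunit r hr)
  have hj : ∀ r, j (algebraMap _ _ r) = ev r := fun r =>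
    Ideal.ResidueField.lift_algebraMap p.asIdeal ev hkerev.ge (fun r hr => hunit r hr) r
  have hjsurj : Function.Surjective j := by
    intro y
    obtain ⟨s, rfl⟩ := S.residue_surjective (f x) y
    letI := S.presheaf.algebra_section_stalk ⟨f x, e hxV⟩
    haveI : IsLocalization.AtPrime (S.presheaf.stalk (f x)) p.asIdeal :=
      hU.isLocalization_stalk ⟨f x, e hxV⟩
    obtain ⟨⟨a, t⟩, hat⟩ := IsLocalization.surj p.asIdeal.primeCompl s
    have h1 : (S.residue (f x)).hom s * ev t.1 = ev a := by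
      have := congrArg (S.residue (f x)).hom hat
      rw [map_mul] at this
      exact this
    have h2 : ev t.1 ≠ 0 := (hunit t.1 t.2).ne_zero
    refine ⟨algebraMap _ _ a / algebraMap _ _ t.1, ?_⟩
    rw [map_div₀, hj, hj]
    exact (div_eq_iff h2).2 h1.symm
  let je : p.asIdeal.ResidueField ≃+* S.residueField (f x) :=
    RingEquiv.ofBijective j ⟨j.injective, hjsurj⟩
  letI algL : Algebra p.asIdeal.ResidueField L := ((f.residueFieldMap x).hom.comp j).toAlgebra
  letI algL' : Algebra (S.residueField (f x)) L := (f.residueFieldMap x).hom.toAlgebra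
  have he : (algebraMap p.asIdeal.ResidueField L).comp (je.symm : S.residueField (f x) →+* p.asIdeal.ResidueField) =
      ((RingEquiv.refl L : L ≃+* L) : L →+* L).comp (algebraMap (S.residueField (f x)) L) := by
    ext y
    simp only [RingHom.comp_apply, RingHom.coe_coe, RingEquiv.refl_apply]
    rw [RingHom.algebraMap_toAlgebra, RingHom.algebraMap_toAlgebra, RingHom.comp_apply]
    congr 1
    exact je.apply_symm_apply y
  haveI : Module.Finite (S.residueField (f x)) L := hfin
  haveI : FiniteDimensional p.asIdeal.ResidueField L :=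
    Module.Finite.of_equiv_equiv je.symm (RingEquiv.refl L) he
  haveI : Algebra.IsSeparable (S.residueField (f x)) L := hsep
  haveI : Algebra.IsSeparable p.asIdeal.ResidueField L :=
    Algebra.IsSeparable.of_equiv_equiv je.symm (RingEquiv.refl L) he
  have hθ : ∀ r : Γ(S, U), θA (algebraMap Γ(S, U) Γ(X, V) r) =
      algebraMap p.asIdeal.ResidueField L (algebraMap Γ(S, U) p.asIdeal.ResidueField r) := by
    intro r
    rw [RingHom.algebraMap_toAlgebra (R := p.asIdeal.ResidueField), RingHom.comp_apply, hj]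
    have h1 := Scheme.evaluation_naturality_apply f x (e hxV) r
    refine Eq.trans ?_ h1.symm
    change (X.evaluation V x hxV).hom ((f.appLE U V e).hom r) = _
    rw [Scheme.Hom.appLE]
    exact congrArg (X.residue x).hom (X.presheaf.germ_res_apply (homOfLE e) x hxV ((f.app U).hom r))
  obtain ⟨R₂, _, _, hE, 𝔮₂, _, σ, h1, h2⟩ :=
    exists_etale_section_data' n gA p.asIdeal L θA hθ
  rw [hker] at h2
  -- the schemes
  let a : Spec Γ(X, V) ⟶ Spec (.of (MvPolynomial (Fin n) Γ(S, U))) :=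
    Spec.map (CommRingCat.ofHom g)
  let bσ : Spec (.of R₂) ⟶ Spec (.of (MvPolynomial (Fin n) Γ(S, U))) :=
    Spec.map (CommRingCat.ofHom σ.toRingHom)
  let c : Spec (.of R₂) ⟶ Spec Γ(S, U) := Spec.map (CommRingCat.ofHom (algebraMap Γ(S, U) R₂))
  have ha : Etale a := HasRingHomProperty.Spec_iff.mpr hg
  have hc : Etale c := HasRingHomProperty.Spec_iff.mpr (RingHom.etale_algebraMap.mpr hE)
  let gfin : pullback a bσ ⟶ S := pullback.snd a bσ ≫ c ≫ hU.fromSpec
  let hfin' : pullback a bσ ⟶ X := pullback.fst a bσ ≫ hV.fromSpec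
  have hpt : a P = bσ ⟨𝔮₂, inferInstance⟩ := PrimeSpectrum.ext h2
  obtain ⟨z, hz1, hz2⟩ := Scheme.Pullback.exists_preimage_pullback (f := a) (g := bσ)
    P ⟨𝔮₂, inferInstance⟩ hpt
  refine ⟨pullback a bσ, gfin, z, inferInstance, hfin', ?_, ?_⟩
  · change (pullback.fst a bσ ≫ hV.fromSpec) ≫ f = pullback.snd a bσ ≫ c ≫ hU.fromSpec
    rw [Category.assoc, ← IsAffineOpen.SpecMap_appLE_fromSpec f hU hV e]
    have hfac : Spec.map (f.appLE U V e) =
        a ≫ Spec.map (CommRingCat.ofHom (MvPolynomial.C : Γ(S, U) →+* _)) := by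
      rw [← Spec.map_comp]
      congr 1
      ext r
      exact congr($hgC r).symm
    have hfac2 : c = bσ ≫ Spec.map (CommRingCat.ofHom (MvPolynomial.C : Γ(S, U) →+* _)) := by
      change Spec.map _ = Spec.map _ ≫ Spec.map _
      rw [← Spec.map_comp]
      congr 1
      ext r
      exact (σ.commutes r).symm
    rw [hfac, hfac2, Category.assoc, Category.assoc, pullback.condition_assoc]
  · change hV.fromSpec (pullback.fst a bσ z) = x
    rw [hz1]
    exact hV.fromSpec_primeIdealOf ⟨x, hxV⟩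

end Groth.Agent.Lib.Helper61.NeronUnqQS
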