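import Mathlib

universe u
set_option autoImplicit false
open CategoryTheory CategoryTheory.Limits AlgebraicGeometry

namespace Groth.Agent.Lib.Helper61.NeutRepK6

/-- a morphism from the spectrum of a local ring whose closed point lands in the range of an open
immersion factors through it -/
theorem exists_factor_of_closedPoint {X : Scheme.{u}} (R : Type u) [CommRing R] [IsLocalRing R]
    (g : Spec (CommRingCat.of R) ⟶ X) {B : CommRingCat.{u}} (j : Spec B ⟶ X) [IsOpenImmersion j]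
    (hc : g (IsLocalRing.closedPoint R) ∈ Set.range j) :
    ∃ θ : B ⟶ CommRingCat.of R, Spec.map θ ≫ j = g := by
  have hr : Set.range g ⊆ Set.range j := by
    rintro _ ⟨p, rfl⟩
    have hsp : p ⤳ IsLocalRing.closedPoint R := IsLocalRing.specializes_closedPoint p
    have h2 : g p ⤳ g (IsLocalRing.closedPoint R) := hsp.map g.continuous
    exact h2.mem_open j.isOpenEmbedding.isOpen_range hc
  refine ⟨Spec.preimage (IsOpenImmersion.lift j g hr), ?_⟩
  rw [Spec.map_preimage, IsOpenImmersion.lift_fac]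

theorem exists_lift_pi {X Y : Scheme.{u}} (i : Y ⟶ X) [Mono i] (A : Type u) [CommRing A]
    [IsLocalRing A] (h : Spec (CommRingCat.of A) ⟶ X) {J : Type u} [Nonempty J] (I : J → Ideal A)
    (hI : ∀ a, I a ≠ ⊤)
    (hz : ∀ a, ∃ z : Spec (CommRingCat.of (A ⧸ I a)) ⟶ Y,
      z ≫ i = Spec.map (CommRingCat.ofHom (Ideal.Quotient.mk (I a))) ≫ h) :
    ∃ z : Spec (CommRingCat.of (∀ a, A ⧸ I a)) ⟶ Y,
      z ≫ i = Spec.map (CommRingCat.ofHom (RingHom.pi (fun a => Ideal.Quotient.mk (I a)))) ≫ h := by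
  choose z hzi using hz
  haveI hnt : ∀ a, Nontrivial (A ⧸ I a) := fun a => Ideal.Quotient.nontrivial_iff.2 (hI a)
  haveI hloc : ∀ a, IsLocalRing (A ⧸ I a) := fun a =>
    IsLocalRing.of_surjective' (Ideal.Quotient.mk (I a)) Ideal.Quotient.mk_surjective
  haveI hlh : ∀ a, IsLocalHom (Ideal.Quotient.mk (I a)) := fun a =>
    IsLocalHom.of_surjective _ Ideal.Quotient.mk_surjective
  -- the common image point
  obtain ⟨x, hx⟩ : ∃ x : X, x = h (IsLocalRing.closedPoint A) := ⟨_, rfl⟩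
  have hix : ∀ a, i (z a (IsLocalRing.closedPoint (A ⧸ I a))) = x := by
    intro a
    have e1 : i (z a (IsLocalRing.closedPoint (A ⧸ I a))) =
        (z a ≫ i) (IsLocalRing.closedPoint (A ⧸ I a)) := (Scheme.Hom.comp_apply _ _ _).symm
    have e2 : (Spec.map (CommRingCat.ofHom (Ideal.Quotient.mk (I a))) ≫ h)
        (IsLocalRing.closedPoint (A ⧸ I a)) =
        h (Spec.map (CommRingCat.ofHom (Ideal.Quotient.mk (I a)))
          (IsLocalRing.closedPoint (A ⧸ I a))) := Scheme.Hom.comp_apply _ _ _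
    rw [e1, hzi a, e2, hx]
    congr 1
    exact IsLocalRing.comap_closedPoint (Ideal.Quotient.mk (I a))
  obtain ⟨a₀⟩ := ‹Nonempty J›
  obtain ⟨y, hy⟩ : ∃ y : Y, y = z a₀ (IsLocalRing.closedPoint (A ⧸ I a₀)) := ⟨_, rfl⟩
  have hzy : ∀ a, z a (IsLocalRing.closedPoint (A ⧸ I a)) = y := by
    intro a
    apply i.injective
    rw [hix a, hy, hix a₀]
  have hiy : i y = x := by rw [hy, hix a₀]
  -- affine charts
  obtain ⟨B, jX, hjX, hxj, -⟩ :=
    Scheme.exists_affine_mem_range_and_range_subset (X := X) (x := x) (U := ⊤) trivial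
  have hyU : y ∈ i ⁻¹ᵁ jX.opensRange := by
    show i y ∈ Set.range jX
    rw [hiy]; exact hxj
  obtain ⟨B₀, jY, hjY, hyj, hjYsub⟩ := Scheme.exists_affine_mem_range_and_range_subset hyU
  -- factor everything
  obtain ⟨θ, hθ⟩ := exists_factor_of_closedPoint A h jX (by rw [← hx]; exact hxj)
  have hψ : ∀ a, ∃ ψ : B₀ ⟶ CommRingCat.of (A ⧸ I a), Spec.map ψ ≫ jY = z a := fun a =>
    exists_factor_of_closedPoint (A ⧸ I a) (z a) jY (by rw [hzy a]; exact hyj)
  choose ψ hψz using hψ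
  have hr : Set.range (jY ≫ i) ⊆ Set.range jX := by
    rintro _ ⟨p, rfl⟩
    rw [Scheme.Hom.comp_apply]
    exact hjYsub ⟨p, rfl⟩
  obtain ⟨β, hβ⟩ : ∃ β : B ⟶ B₀, Spec.map β ≫ jX = jY ≫ i :=
    ⟨Spec.preimage (IsOpenImmersion.lift jX (jY ≫ i) hr), by
      rw [Spec.map_preimage, IsOpenImmersion.lift_fac]⟩
  -- componentwise identity of ring maps
  have hcomp : ∀ a, β ≫ ψ a = θ ≫ CommRingCat.ofHom (Ideal.Quotient.mk (I a)) := by
    intro a
    apply Spec.map_injective
    rw [← cancel_mono jX, Spec.map_comp, Spec.map_comp, Category.assoc, Category.assoc, hβ,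
      ← Category.assoc, hψz a, hθ, hzi a]
  refine ⟨Spec.map (CommRingCat.ofHom (RingHom.pi (fun a => (ψ a).hom))) ≫ jY, ?_⟩
  rw [Category.assoc, ← hβ, ← hθ, ← Category.assoc, ← Category.assoc, ← Spec.map_comp,
    ← Spec.map_comp]
  congr 2
  ext b a
  have := congrArg (fun m => m.hom b) (hcomp a)
  simpa using this

end Groth.Agent.Lib.Helper61.NeutRepK6
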