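import Mathlib.RingTheory.LocalRing.Module
import Mathlib.Algebra.Module.Projective
import Mathlib.LinearAlgebra.FreeModule.Basic

/-!
A flat module over a local ring with nilpotent maximal ideal is free (no finiteness).
-/

set_option autoImplicit false
universe u

namespace Groth.Agent.Lib.Helper61.NilpFree

open IsLocalRing TensorProduct

/-- Nakayama for a nilpotent ideal, without finiteness. -/
theorem eq_top_of_sup_smul_eq_top {R : Type*} [CommRing R] {M : Type*} [AddCommGroup M]
    [Module R M] {I : Ideal R} (hI : IsNilpotent I) (N : Submodule R M)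
    (h : N ⊔ I • (⊤ : Submodule R M) = ⊤) : N = ⊤ := by
  obtain ⟨k, hk⟩ := hI
  rw [Ideal.zero_eq_bot] at hk
  have key : ∀ j : ℕ, (⊤ : Submodule R M) ≤ N ⊔ (I ^ j) • (⊤ : Submodule R M) := by
    intro j
    induction j with
    | zero => simp
    | succ j ih =>
      calc (⊤ : Submodule R M) ≤ N ⊔ (I ^ j) • (⊤ : Submodule R M) := ih
        _ = N ⊔ (I ^ j) • (N ⊔ I • (⊤ : Submodule R M)) := by rw [h]
        _ = N ⊔ ((I ^ j) • N ⊔ (I ^ j) • I • (⊤ : Submodule R M)) := by rw [Submodule.smul_sup]
        _ ≤ N ⊔ (I ^ (j + 1)) • (⊤ : Submodule R M) := by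
          rw [← Submodule.smul_assoc, smul_eq_mul, ← pow_succ]
          exact sup_le le_sup_left (sup_le (Submodule.smul_le_right.trans le_sup_left) le_sup_right)
  have := key k
  rw [hk, Submodule.bot_smul, sup_bot_eq] at this
  exact top_le_iff.mp this

theorem free_of_flat_of_isNilpotent {R : Type u} [CommRing R] [IsLocalRing R]
    (hnil : IsNilpotent (maximalIdeal R)) (M : Type u) [AddCommGroup M] [Module R M]
    [Module.Flat R M] : Module.Free R M := by
  let k := ResidueField R
  let b := Module.Free.chooseBasis k (k ⊗[R] M)
  have hsurj : Function.Surjective (TensorProduct.mk R k M 1) := by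
    intro t
    induction t using TensorProduct.induction_on with
    | zero => exact ⟨0, by simp⟩
    | tmul c m =>
      obtain ⟨r, rfl⟩ := IsLocalRing.residue_surjective c
      refine ⟨r • m, ?_⟩
      rw [map_smul, TensorProduct.mk_apply, TensorProduct.smul_tmul', Algebra.smul_def, mul_one]
      rfl
    | add x y hx hy =>
      obtain ⟨a, ha⟩ := hx
      obtain ⟨c, hc⟩ := hy
      exact ⟨a + c, by rw [map_add, ha, hc]⟩
  choose v hv using fun i => hsurj (b i)
  have hcomp : TensorProduct.mk R k M 1 ∘ v = b := funext hv
  have hli : LinearIndependent R v :=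
    Module.IsLocalRing.linearIndependent_of_flat v (by rw [hcomp]; exact b.linearIndependent)
  have hspan : Submodule.span R (Set.range v) = ⊤ := by
    apply eq_top_of_sup_smul_eq_top hnil
    have hker : LinearMap.ker (TensorProduct.mk R k M 1) =
        maximalIdeal R • (⊤ : Submodule R M) := LinearMap.ker_tensorProductMk M
    rw [← hker, ← Submodule.comap_map_eq, Submodule.map_span,
      ← Set.range_comp, hcomp]
    have : Submodule.span R (Set.range b) = ⊤ := by
      rw [← Submodule.restrictScalars_span R k IsLocalRing.residue_surjective, b.span_eq]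
      rfl
    rw [this, Submodule.comap_top]
  exact Module.Free.of_basis (Module.Basis.mk hli hspan.ge)

end Groth.Agent.Lib.Helper61.NilpFree
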