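import Groth.Agent.Lib.Helper61.CompleteLE

/-!
# Successive approximation for the node `xy = α`
-/

set_option autoImplicit false

namespace Groth.Agent.Lib.Helper61.NodeApprox

open IsLocalRing

variable {A : Type*} [CommRing A] (𝔪 : Ideal A) {T : Type*} [CommRing T] [Algebra A T]
  [IsLocalRing T]

local notation "𝔫" => Ideal.map (algebraMap A T) 𝔪

section decomp

variable (u v : T) (h1 : ∀ t : T, ∃ a : A, t - algebraMap A T a ∈ maximalIdeal T)
  (h2 : maximalIdeal T = (Ideal.span {u, v} : Ideal T) ⊔ Ideal.map (algebraMap A T) 𝔪)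

include h2 in
theorem maxdecomp (U V : T) (hU : U - u ∈ 𝔫) (hV : V - v ∈ 𝔫) (m : T)
    (hm : m ∈ maximalIdeal T) : ∃ p q : T, ∃ n₁ ∈ 𝔫, m = U * p + V * q + n₁ := by
  rw [h2] at hm
  obtain ⟨s, hs, n₀, hn₀, rfl⟩ := Submodule.mem_sup.mp hm
  obtain ⟨p, q, rfl⟩ := Ideal.mem_span_pair.mp hs
  refine ⟨p, q, n₀ - p * (U - u) - q * (V - v), ?_, by ring⟩
  exact sub_mem (sub_mem hn₀ (Ideal.mul_mem_left _ _ hU)) (Ideal.mul_mem_left _ _ hV)

include h1 h2 in
theorem decomp (U V : T) (hU : U - u ∈ 𝔫) (hV : V - v ∈ 𝔫) (k : ℕ) (δ : T) (hδ : δ ∈ 𝔫 ^ k) :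
    ∃ c ∈ 𝔪 ^ k, ∃ P ∈ 𝔫 ^ k, ∃ Q ∈ 𝔫 ^ k,
      δ - (algebraMap A T c + U * P + V * Q) ∈ 𝔫 ^ (k + 1) := by
  rw [← Ideal.map_pow] at hδ
  have hpow : ∀ c ∈ 𝔪 ^ k, algebraMap A T c ∈ 𝔫 ^ k := fun c hc => by
    rw [← Ideal.map_pow]; exact Ideal.mem_map_of_mem _ hc
  refine Submodule.span_induction ?_ ?_ ?_ ?_ hδ
  · rintro _ ⟨c, hc, rfl⟩
    exact ⟨c, hc, 0, zero_mem _, 0, zero_mem _, by simp⟩
  · exact ⟨0, zero_mem _, 0, zero_mem _, 0, zero_mem _, by simp⟩
  · rintro x y _ _ ⟨c₁, hc₁, P₁, hP₁, Q₁, hQ₁, h₁⟩ ⟨c₂, hc₂, P₂, hP₂, Q₂, hQ₂, h₂⟩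
    refine ⟨c₁ + c₂, add_mem hc₁ hc₂, P₁ + P₂, add_mem hP₁ hP₂, Q₁ + Q₂, add_mem hQ₁ hQ₂, ?_⟩
    have : x + y - (algebraMap A T (c₁ + c₂) + U * (P₁ + P₂) + V * (Q₁ + Q₂)) =
        (x - (algebraMap A T c₁ + U * P₁ + V * Q₁)) +
          (y - (algebraMap A T c₂ + U * P₂ + V * Q₂)) := by
      rw [map_add]; ring
    rw [this]
    exact add_mem h₁ h₂
  · rintro t x _ ⟨c, hc, P, hP, Q, hQ, h⟩
    obtain ⟨a, ha⟩ := h1 t
    obtain ⟨p, q, n₁, hn₁, hm⟩ := maxdecomp 𝔪 u v h2 U V hU hV _ ha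
    refine ⟨a * c, Ideal.mul_mem_left _ _ hc,
      t * P + p * algebraMap A T c, add_mem (Ideal.mul_mem_left _ _ hP)
        (Ideal.mul_mem_left _ _ (hpow c hc)),
      t * Q + q * algebraMap A T c, add_mem (Ideal.mul_mem_left _ _ hQ)
        (Ideal.mul_mem_left _ _ (hpow c hc)), ?_⟩
    have ht : t = algebraMap A T a + (U * p + V * q + n₁) := by rw [← hm]; ring
    have : t • x - (algebraMap A T (a * c) + U * (t * P + p * algebraMap A T c) +
        V * (t * Q + q * algebraMap A T c)) =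
        t * (x - (algebraMap A T c + U * P + V * Q)) +
          (t - algebraMap A T a - (U * p + V * q)) * algebraMap A T c := by
      rw [map_mul, smul_eq_mul]; ring
    rw [this]
    apply add_mem (Ideal.mul_mem_left _ _ h)
    have h4 : t - algebraMap A T a - (U * p + V * q) = n₁ := by rw [ht]; ring
    rw [h4, pow_succ']
    exact Ideal.mul_mem_mul hn₁ (hpow c hc)

end decomp

section approx

variable [IsNoetherianRing T] [IsAdicComplete (maximalIdeal T) T]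
variable (u v : T) (h1 : ∀ t : T, ∃ a : A, t - algebraMap A T a ∈ maximalIdeal T)
  (h2 : maximalIdeal T = (Ideal.span {u, v} : Ideal T) ⊔ Ideal.map (algebraMap A T) 𝔪) (h3 : u * v ∈ Ideal.map (algebraMap A T) 𝔪)

/-- the invariant of the approximation -/
def Inv (n : ℕ) (s : T × T × A) : Prop :=
  s.1 - u ∈ 𝔫 ∧ s.2.1 - v ∈ 𝔫 ∧ s.2.2 ∈ 𝔪 ∧ s.1 * s.2.1 - algebraMap A T s.2.2 ∈ 𝔫 ^ (n + 1)

include h1 h2 in
theorem next (n : ℕ) (s : T × T × A) (hs : Inv 𝔪 u v n s) :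
    ∃ s' : T × T × A, Inv 𝔪 u v (n + 1) s' ∧ s'.1 - s.1 ∈ 𝔫 ^ (n + 1) ∧
      s'.2.1 - s.2.1 ∈ 𝔫 ^ (n + 1) ∧ s'.2.2 - s.2.2 ∈ 𝔪 ^ (n + 1) := by
  obtain ⟨U, V, a⟩ := s
  obtain ⟨hU, hV, ha, hδ⟩ := hs
  simp only at hU hV ha hδ
  obtain ⟨c, hc, P, hP, Q, hQ, h⟩ := decomp 𝔪 u v h1 h2 U V hU hV (n + 1) _ hδ
  have hle : (𝔫 ^ (n + 1) : Ideal T) ≤ 𝔫 := Ideal.pow_le_self (Nat.succ_ne_zero n)
  refine ⟨(U - Q, V - P, a + c), ⟨?_, ?_, ?_, ?_⟩, ?_, ?_, ?_⟩
  · have : U - Q - u = (U - u) - Q := by ring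
    simp only; rw [this]; exact sub_mem hU (hle hQ)
  · have : V - P - v = (V - v) - P := by ring
    simp only; rw [this]; exact sub_mem hV (hle hP)
  · exact add_mem ha (Ideal.pow_le_self (Nat.succ_ne_zero n) hc)
  · have : (U - Q) * (V - P) - algebraMap A T (a + c) =
        (U * V - algebraMap A T a - (algebraMap A T c + U * P + V * Q)) + P * Q := by
      rw [map_add]; ring
    simp only; rw [this]
    apply add_mem h
    have h5 : P * Q ∈ 𝔫 ^ (n + 1) * 𝔫 ^ (n + 1) := Ideal.mul_mem_mul hP hQ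
    rw [← pow_add] at h5
    exact Ideal.pow_le_pow_right (by omega) h5
  · have : U - Q - U = -Q := by ring
    simp only; rw [this]; exact neg_mem hQ
  · have : V - P - V = -P := by ring
    simp only; rw [this]; exact neg_mem hP
  · simp only [add_sub_cancel_left]; exact hc

open Classical in
/-- the approximating sequence -/
noncomputable def seq : ℕ → T × T × A
  | 0 => (u, v, 0)
  | n + 1 => if h : ∃ s' : T × T × A, Inv 𝔪 u v (n + 1) s' ∧
        s'.1 - (seq n).1 ∈ 𝔫 ^ (n + 1) ∧ s'.2.1 - (seq n).2.1 ∈ 𝔫 ^ (n + 1) ∧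
          s'.2.2 - (seq n).2.2 ∈ 𝔪 ^ (n + 1) then h.choose else seq n

include h1 h2 h3 in
theorem seq_spec (n : ℕ) : Inv 𝔪 u v n (seq 𝔪 u v n) ∧
    (seq 𝔪 u v (n + 1)).1 - (seq 𝔪 u v n).1 ∈ 𝔫 ^ (n + 1) ∧
    (seq 𝔪 u v (n + 1)).2.1 - (seq 𝔪 u v n).2.1 ∈ 𝔫 ^ (n + 1) ∧
    (seq 𝔪 u v (n + 1)).2.2 - (seq 𝔪 u v n).2.2 ∈ 𝔪 ^ (n + 1) := by
  have hinv : ∀ n, Inv 𝔪 u v n (seq 𝔪 u v n) := by
    intro n
    induction n with
    | zero =>
      refine ⟨by simp [seq], by simp [seq], by simp [seq], ?_⟩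
      simpa [seq] using h3
    | succ n ih =>
      have hex := next 𝔪 u v h1 h2 n _ ih
      rw [seq, dif_pos hex]
      exact hex.choose_spec.1
  refine ⟨hinv n, ?_⟩
  have hex := next 𝔪 u v h1 h2 n _ (hinv n)
  rw [seq, dif_pos hex]
  exact hex.choose_spec.2

include h1 h2 h3 in
theorem exists_approx :
    ∃ (U V : T) (a : ℕ → A), U - u ∈ 𝔫 ∧ V - v ∈ 𝔫 ∧ (∀ n, a n ∈ 𝔪) ∧
      (∀ n, a (n + 1) - a n ∈ 𝔪 ^ (n + 1)) ∧
      ∀ n, U * V - algebraMap A T (a n) ∈ 𝔫 ^ n := by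
  classical
  have hspec := seq_spec 𝔪 u v h1 h2 h3
  set s := seq 𝔪 u v with hs
  have h𝔫le : (𝔫 : Ideal T) ≤ maximalIdeal T := by
    rw [h2]; exact le_sup_right (a := Ideal.span {u, v})
  haveI : IsAdicComplete 𝔫 T :=
    Groth.Agent.Lib.Helper61.CompleteLE.isAdicComplete_of_le _ _ h𝔫le (IsNoetherian.noetherian _)
  have hsmul : ∀ n : ℕ, (𝔫 ^ n • ⊤ : Submodule T T) = 𝔫 ^ n := fun n => by
    rw [smul_eq_mul, Ideal.mul_top]
  -- limits
  have hlim : ∀ (w : ℕ → T), (∀ n, w (n + 1) - w n ∈ 𝔫 ^ (n + 1)) →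
      ∃ W : T, ∀ n, W - w n ∈ 𝔫 ^ n := by
    intro w hw
    have hc : AdicCompletion.IsAdicCauchy 𝔫 T w := by
      rw [AdicCompletion.isAdicCauchy_iff]
      intro n
      rw [SModEq.sub_mem, hsmul, ← neg_sub]
      exact neg_mem (Ideal.pow_le_pow_right (Nat.le_succ n) (hw n))
    obtain ⟨W, hW⟩ := IsPrecomplete.prec (inferInstance : IsPrecomplete 𝔫 T)
      (fun {m n} hmn => hc hmn)
    refine ⟨W, fun n => ?_⟩
    have := hW n
    rw [SModEq.sub_mem, hsmul] at this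
    rw [← neg_sub]
    exact neg_mem this
  obtain ⟨U, hU⟩ := hlim (fun n => (s n).1) (fun n => (hspec n).2.1)
  obtain ⟨V, hV⟩ := hlim (fun n => (s n).2.1) (fun n => (hspec n).2.2.1)
  refine ⟨U, V, fun n => (s n).2.2, ?_, ?_, fun n => (hspec n).1.2.2.1,
    fun n => (hspec n).2.2.2, ?_⟩
  · have : U - u = (U - (s 1).1) + ((s 1).1 - u) := by ring
    rw [this]
    refine add_mem ?_ (hspec 1).1.1
    have := hU 1
    rwa [pow_one] at this
  · have : V - v = (V - (s 1).2.1) + ((s 1).2.1 - v) := by ring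
    rw [this]
    refine add_mem ?_ (hspec 1).1.2.1
    have := hV 1
    rwa [pow_one] at this
  · intro n
    have : U * V - algebraMap A T (s n).2.2 =
        (U - (s n).1) * V + (s n).1 * (V - (s n).2.1) +
          ((s n).1 * (s n).2.1 - algebraMap A T (s n).2.2) := by ring
    rw [this]
    refine add_mem (add_mem (Ideal.mul_mem_right _ _ (hU n)) (Ideal.mul_mem_left _ _ (hV n))) ?_
    exact Ideal.pow_le_pow_right (Nat.le_succ n) (hspec n).1.2.2.2

end approx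

section surj

theorem span_pair_sup_eq {R : Type*} [CommRing R] (N : Ideal R) (u v U V : R) (hU : U - u ∈ N)
    (hV : V - v ∈ N) : (Ideal.span {U, V} : Ideal R) ⊔ N = Ideal.span {u, v} ⊔ N := by
  have key : ∀ (u v U V : R), U - u ∈ N → V - v ∈ N →
      (Ideal.span {U, V} : Ideal R) ⊔ N ≤ Ideal.span {u, v} ⊔ N := by
    intro u v U V hU hV
    refine sup_le ?_ le_sup_right
    rw [Ideal.span_le]
    rintro x (rfl | rfl)
    · have : x = u + (x - u) := by ring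
      rw [this]
      exact add_mem (Ideal.mem_sup_left (Ideal.subset_span (by simp))) (Ideal.mem_sup_right hU)
    · have : x = v + (x - v) := by ring
      rw [this]
      exact add_mem (Ideal.mem_sup_left (Ideal.subset_span (by simp))) (Ideal.mem_sup_right hV)
  apply le_antisymm (key u v U V hU hV)
  apply key U V u v
  · rw [← neg_sub]; exact neg_mem hU
  · rw [← neg_sub]; exact neg_mem hV

variable {K : Type*} [CommRing K] (𝔪' : Ideal K) [IsPrecomplete 𝔪' K]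
  {T : Type*} [CommRing T] [IsLocalRing T] [IsNoetherianRing T] [Algebra K T]

theorem surjective_eval (U V : T)
    (hmax : maximalIdeal T = (Ideal.span {U, V} : Ideal T) ⊔ Ideal.map (algebraMap K T) 𝔪')
    (hres : ∀ t : T, ∃ a : K, t - algebraMap K T a ∈ maximalIdeal T)
    (ψ₀ : MvPowerSeries (Fin 2) K →ₐ[K] T) (h0 : ψ₀ (MvPowerSeries.X 0) = U)
    (h1 : ψ₀ (MvPowerSeries.X 1) = V) : Function.Surjective ψ₀ := by
  classical
  have hUVle : (Ideal.span {U, V} : Ideal T) ≤ maximalIdeal T := by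
    rw [hmax]; exact le_sup_left
  -- stage 2
  have hstage2 : ∀ t : T, ∃ a : K, t - algebraMap K T a ∈ (Ideal.span {U, V} : Ideal T) := by
    let S := T ⧸ (Ideal.span {U, V} : Ideal T)
    haveI : Nontrivial S := Ideal.Quotient.nontrivial_iff.mpr
      (fun h => (IsLocalRing.maximalIdeal.isMaximal T).ne_top (top_le_iff.mp (h ▸ hUVle)))
    haveI : IsLocalRing S :=
      IsLocalRing.of_surjective' (Ideal.Quotient.mk _) Ideal.Quotient.mk_surjective
    let g : K →+* S := (Ideal.Quotient.mk _).comp (algebraMap K T)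
    have hmapg : 𝔪'.map g = (Ideal.map (algebraMap K T) 𝔪').map (Ideal.Quotient.mk _) := by
      rw [Ideal.map_map]
    have hne : 𝔪'.map g ≠ ⊤ := by
      intro htop
      have hle : 𝔪'.map g ≤ maximalIdeal S := by
        rw [hmapg, ← IsLocalRing.map_maximalIdeal_of_surjective (Ideal.Quotient.mk _)
          Ideal.Quotient.mk_surjective]
        apply Ideal.map_mono
        rw [hmax]; exact le_sup_right
      exact (IsLocalRing.maximalIdeal.isMaximal S).ne_top (top_le_iff.mp (htop ▸ hle))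
    haveI : IsHausdorff (𝔪'.map g) S := IsHausdorff.of_isLocalRing _ _ hne
    have hg : Function.Surjective g := by
      apply _root_.surjective_of_mk_map_comp_surjective (I := 𝔪') g
      intro y
      obtain ⟨s, rfl⟩ := Ideal.Quotient.mk_surjective y
      obtain ⟨t, rfl⟩ := Ideal.Quotient.mk_surjective s
      obtain ⟨a, ha⟩ := hres t
      rw [hmax] at ha
      obtain ⟨s₁, hs₁, n₁, hn₁, hsum⟩ := Submodule.mem_sup.mp ha
      refine ⟨a, ?_⟩
      rw [RingHom.comp_apply, Ideal.Quotient.eq]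
      have h5 : g a - Ideal.Quotient.mk _ t = - Ideal.Quotient.mk _ n₁ := by
        have h6 : t = algebraMap K T a + (s₁ + n₁) := by rw [hsum]; ring
        have h7 : Ideal.Quotient.mk (Ideal.span {U, V} : Ideal T) s₁ = 0 :=
          Ideal.Quotient.eq_zero_iff_mem.mpr hs₁
        rw [h6, map_add, map_add, h7, zero_add]
        simp only [g, RingHom.comp_apply]
        ring
      rw [h5, hmapg]
      exact neg_mem (Ideal.mem_map_of_mem _ hn₁)
    intro t
    obtain ⟨a, ha⟩ := hg (Ideal.Quotient.mk _ t)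
    refine ⟨a, ?_⟩
    rw [← Ideal.Quotient.eq]
    exact ha.symm
  -- stage 1
  let I : Ideal (MvPowerSeries (Fin 2) K) := Ideal.span (Set.range MvPowerSeries.X)
  have hIle : (Ideal.span {U, V} : Ideal T) ≤ I.map (ψ₀ : MvPowerSeries (Fin 2) K →+* T) := by
    rw [Ideal.span_le]
    rintro x hx
    rcases hx with hx | hx
    · rw [hx, ← h0]
      exact Ideal.mem_map_of_mem _ (Ideal.subset_span ⟨0, rfl⟩)
    · rw [Set.mem_singleton_iff] at hx
      rw [hx, ← h1]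
      exact Ideal.mem_map_of_mem _ (Ideal.subset_span ⟨1, rfl⟩)
  have hImax : I.map (ψ₀ : MvPowerSeries (Fin 2) K →+* T) ≤ maximalIdeal T := by
    rw [Ideal.map_le_iff_le_comap, Ideal.span_le]
    rintro _ ⟨i, rfl⟩
    rw [SetLike.mem_coe, Ideal.mem_comap]
    fin_cases i
    · change ψ₀ (MvPowerSeries.X 0) ∈ _
      rw [h0]; exact hUVle (Ideal.subset_span (by simp))
    · change ψ₀ (MvPowerSeries.X 1) ∈ _
      rw [h1]; exact hUVle (Ideal.subset_span (by simp))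
  haveI : IsHausdorff (I.map (ψ₀ : MvPowerSeries (Fin 2) K →+* T)) T :=
    IsHausdorff.of_isLocalRing _ _
      (fun htop => (IsLocalRing.maximalIdeal.isMaximal T).ne_top (top_le_iff.mp (htop ▸ hImax)))
  have hsurj : Function.Surjective (ψ₀ : MvPowerSeries (Fin 2) K →+* T) := by
    apply _root_.surjective_of_mk_map_comp_surjective (I := I)
    intro y
    obtain ⟨t, rfl⟩ := Ideal.Quotient.mk_surjective y
    obtain ⟨a, ha⟩ := hstage2 t
    refine ⟨algebraMap K _ a, ?_⟩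
    rw [RingHom.comp_apply, Ideal.Quotient.eq]
    have : (ψ₀ : MvPowerSeries (Fin 2) K →+* T) (algebraMap K _ a) = algebraMap K T a :=
      ψ₀.commutes a
    rw [this, ← neg_sub]
    exact neg_mem (hIle ha)
  exact hsurj

end surj

end Groth.Agent.Lib.Helper61.NodeApprox
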