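import Groth.Prelude.Def_EGA41
import Mathlib.Algebra.CharP.Reduced
import Mathlib.FieldTheory.Perfect
import Mathlib.LinearAlgebra.Basis.Basic
import Mathlib.RingTheory.Smooth.Basic
import Mathlib.Tactic

/-!
Lifting homomorphisms out of an algebra with a `p`-basis over a perfect ring
(EGA 0_IV 21.2.7, discrete case).
-/

set_option autoImplicit false
universe u

namespace Groth.Agent.Lib.Helper61.PBasis

open EGA41

section monomials

variable {ι : Type u}

theorem pMonomial_zero {B : Type u} [CommRing B] (x : ι → B) : pMonomial x 0 = 1 :=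
  Finsupp.prod_zero_index

theorem pMonomial_add {B : Type u} [CommRing B] (x : ι → B) (e e' : ι →₀ ℕ) :
    pMonomial x (e + e') = pMonomial x e * pMonomial x e' :=
  Finsupp.prod_add_index' (fun _ => pow_zero _) (fun _ _ _ => pow_add _ _ _)

theorem pMonomial_nsmul {B : Type u} [CommRing B] (x : ι → B) (n : ℕ) (q : ι →₀ ℕ) :
    pMonomial x (n • q) = pMonomial x q ^ n := by
  induction n with
  | zero => simp [pMonomial_zero]
  | succ n ih => rw [succ_nsmul, pMonomial_add, ih, pow_succ]

theorem pMonomial_single {B : Type u} [CommRing B] (x : ι → B) (i : ι) :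
    pMonomial x (Finsupp.single i 1) = x i := by
  unfold pMonomial
  rw [Finsupp.prod_single_index (h := fun i n => x i ^ n) (pow_zero _), pow_one]

theorem map_pMonomial {B C : Type u} [CommRing B] [CommRing C] {F : Type*} [FunLike F B C]
    [RingHomClass F B C] (f : F) (x : ι → B)
    (e : ι →₀ ℕ) : f (pMonomial x e) = pMonomial (fun i => f (x i)) e := by
  unfold pMonomial
  rw [map_finsuppProd]
  simp only [map_pow]

/-- Quotient of an exponent vector by `p`. -/
noncomputable def qt (p : ℕ) (e : ι →₀ ℕ) : ι →₀ ℕ := e.mapRange (· / p) (Nat.zero_div p)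

/-- Remainder of an exponent vector modulo `p`. -/
noncomputable def rm (p : ℕ) (e : ι →₀ ℕ) : ι →₀ ℕ := e.mapRange (· % p) (Nat.zero_mod p)

theorem qt_add_rm (p : ℕ) (e : ι →₀ ℕ) : p • qt p e + rm p e = e := by
  ext i
  simp only [qt, rm, Finsupp.coe_add, Finsupp.coe_smul, Pi.add_apply, Pi.smul_apply,
    Finsupp.mapRange_apply, smul_eq_mul]
  exact Nat.div_add_mod _ _

theorem rm_lt {p : ℕ} (hp : 0 < p) (e : ι →₀ ℕ) (i : ι) : rm p e i < p := by
  simp only [rm, Finsupp.mapRange_apply]
  exact Nat.mod_lt _ hp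

end monomials

section abstract

variable {S B E I : Type*} [CommRing S] [CommRing B] [Module S B] [IsScalarTower S B B]
  [SMulCommClass S B B] [CommRing E]

/-- A semilinear map defined on a basis by values compatible with the multiplication table is a
ring homomorphism. -/
theorem exists_ringHom_of_basis (w₀ : S →+* E) (b : Module.Basis I S B) (zz : I → E)
    (i₀ : I) (h1 : b i₀ = 1) (hz1 : zz i₀ = 1)
    (hmul : ∀ i j, ∃ (s : S) (k : I), b i * b j = s • b k ∧ zz i * zz j = w₀ s * zz k) :
    ∃ w : B →+* E, (∀ (s : S) (x : B), w (s • x) = w₀ s * w x) ∧ ∀ i, w (b i) = zz i := by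
  letI : Module S E := Module.compHom E w₀
  have hsm : ∀ (s : S) (e : E), s • e = w₀ s * e := fun _ _ => rfl
  let w : B →ₗ[S] E := b.constr ℕ zz
  have hwb : ∀ i, w (b i) = zz i := b.constr_basis ℕ zz
  have hwsm : ∀ (s : S) (x : B), w (s • x) = w₀ s * w x := fun s x => by rw [map_smul, hsm]
  have hmul1 : ∀ i j, w (b i * b j) = w (b i) * w (b j) := by
    intro i j
    obtain ⟨s, k, h1, h2⟩ := hmul i j
    rw [h1, hwsm, hwb, hwb, hwb, h2]
  have hmul2 : ∀ i y, w (b i * y) = w (b i) * w y := by
    intro i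
    let f₁ : B →ₗ[S] E :=
      { toFun := fun y => w (b i * y)
        map_add' := fun y y' => by rw [mul_add, map_add]
        map_smul' := fun s y => by rw [mul_smul_comm, map_smul, RingHom.id_apply] }
    let f₂ : B →ₗ[S] E :=
      { toFun := fun y => w (b i) * w y
        map_add' := fun y y' => by rw [map_add, mul_add]
        map_smul' := fun s y => by
          rw [hwsm, RingHom.id_apply, hsm]
          ring }
    have : f₁ = f₂ := b.ext (fun j => hmul1 i j)
    exact fun y => DFunLike.congr_fun this y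
  have hmul3 : ∀ x y, w (x * y) = w x * w y := by
    intro x y
    let f₁ : B →ₗ[S] E :=
      { toFun := fun x => w (x * y)
        map_add' := fun x x' => by rw [add_mul, map_add]
        map_smul' := fun s x => by rw [smul_mul_assoc, map_smul, RingHom.id_apply] }
    let f₂ : B →ₗ[S] E :=
      { toFun := fun x => w x * w y
        map_add' := fun x x' => by rw [map_add, add_mul]
        map_smul' := fun s x => by
          rw [hwsm, RingHom.id_apply, hsm]
          ring }
    have : f₁ = f₂ := b.ext (fun i => hmul2 i y)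
    exact DFunLike.congr_fun this x
  refine ⟨{ toFun := w
            map_one' := by rw [← h1, hwb, hz1]
            map_mul' := hmul3
            map_zero' := map_zero w
            map_add' := map_add w }, hwsm, hwb⟩

theorem ringHom_ext_of_basis (w₀ : S →+* E) (b : Module.Basis I S B) (w w' : B →+* E)
    (h : ∀ (s : S) (x : B), w (s • x) = w₀ s * w x)
    (h' : ∀ (s : S) (x : B), w' (s • x) = w₀ s * w' x)
    (hb : ∀ i, w (b i) = w' (b i)) : w = w' := by
  let f : B →ₛₗ[w₀] E :=
    { toFun := w
      map_add' := map_add w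
      map_smul' := fun s x => by rw [h, smul_eq_mul] }
  let f' : B →ₛₗ[w₀] E :=
    { toFun := w'
      map_add' := map_add w'
      map_smul' := fun s x => by rw [h', smul_eq_mul] }
  have : f = f' := b.ext hb
  exact RingHom.ext fun x => DFunLike.congr_fun this x

end abstract

section root

variable (p : ℕ) [Fact p.Prime] {A B : Type u} [CommRing A] [CharP A p] [PerfectRing A p]
  [CommRing B] [Algebra A B] [CharP B p]

theorem exists_pow_eq_of_mem {s : B} (hs : s ∈ pPowerSubalgebra p A B) : ∃ c : B, c ^ p = s := by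
  unfold pPowerSubalgebra at hs
  induction hs using Algebra.adjoin_induction with
  | mem x hx =>
    obtain ⟨c, rfl⟩ := hx
    exact ⟨c, rfl⟩
  | algebraMap a =>
    exact ⟨algebraMap A B ((frobeniusEquiv A p).symm a), by
      rw [← map_pow, frobeniusEquiv_symm_pow_p]⟩
  | add x y _ _ hx hy =>
    obtain ⟨c, rfl⟩ := hx
    obtain ⟨d, rfl⟩ := hy
    exact ⟨c + d, add_pow_char c d p⟩
  | mul x y _ _ hx hy =>
    obtain ⟨c, rfl⟩ := hx
    obtain ⟨d, rfl⟩ := hy
    exact ⟨c * d, mul_pow c d p⟩

omit [Fact p.Prime] [CharP A p] [PerfectRing A p] [CharP B p] in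
theorem pow_mem (c : B) : c ^ p ∈ pPowerSubalgebra p A B := Algebra.subset_adjoin ⟨c, rfl⟩

/-- The `p`-th root of an element of `A[B^p]`. -/
noncomputable def root (s : pPowerSubalgebra p A B) : B :=
  Classical.choose (exists_pow_eq_of_mem p s.2)

theorem root_pow (s : pPowerSubalgebra p A B) : root p s ^ p = s :=
  Classical.choose_spec (exists_pow_eq_of_mem p s.2)

variable [IsReduced B]

theorem eq_root {c : B} {s : pPowerSubalgebra p A B} (h : c ^ p = s) : c = root p s := by
  apply frobenius_inj B p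
  rw [frobenius_def, frobenius_def, h, root_pow]

theorem root_mk_pow (c : B) : root p (⟨c ^ p, pow_mem p c⟩ : pPowerSubalgebra p A B) = c :=
  (eq_root p rfl).symm

end root

section base

variable (p : ℕ) [Fact p.Prime] {A B : Type u} [CommRing A] [CharP A p] [PerfectRing A p]
  [CommRing B] [Algebra A B] [CharP B p] [IsReduced B]
  {E E' : Type u} [CommRing E] [CommRing E'] [Algebra A E] [Algebra A E']

omit [PerfectRing A p] in
theorem natCast_p_eq_zero (A : Type u) [CommRing A] [CharP A p] (E : Type u) [CommRing E]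
    [Algebra A E] : ((p : ℕ) : E) = 0 := by
  rw [← map_natCast (algebraMap A E), CharP.cast_eq_zero, map_zero]

omit [PerfectRing A p] in
theorem add_pow_p (A : Type u) [CommRing A] [CharP A p] {E : Type u} [CommRing E]
    [Algebra A E] (e₁ e₂ : E) : (e₁ + e₂) ^ p = e₁ ^ p + e₂ ^ p := by
  rcases subsingleton_or_nontrivial E with h | h
  · exact Subsingleton.elim _ _
  · haveI : CharP E p :=
      ringChar.of_eq (CharP.ringChar_of_prime_eq_zero Fact.out (natCast_p_eq_zero p A E))
    exact add_pow_char e₁ e₂ p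

variable (π : E →ₐ[A] E') (hπ : Function.Surjective π) (hK : ∀ k : E, π k = 0 → k ^ p = 0)
  (v : B →ₐ[A] E')

include hK in
omit [PerfectRing A p] in
theorem pow_eq_of_map_eq {e₁ e₂ : E} (h : π e₁ = π e₂) : e₁ ^ p = e₂ ^ p := by
  have h1 : e₁ = e₂ + (e₁ - e₂) := by ring
  rw [h1, add_pow_p p A, hK (e₁ - e₂) (by rw [map_sub, h, sub_self]), add_zero]

/-- The forced value of a lift on `A[B^p]`. -/
noncomputable def w₀ : pPowerSubalgebra p A B →+* E where
  toFun s := (Function.surjInv hπ (v (root p s))) ^ p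
  map_one' := by
    rw [pow_eq_of_map_eq p π hK (e₂ := 1), one_pow]
    rw [Function.surjInv_eq hπ, map_one]
    rw [← eq_root p (s := (1 : pPowerSubalgebra p A B)) (c := 1) (by simp), map_one]
  map_mul' s t := by
    rw [← mul_pow]
    apply pow_eq_of_map_eq p π hK
    rw [map_mul, Function.surjInv_eq hπ, Function.surjInv_eq hπ, Function.surjInv_eq hπ, ← map_mul]
    congr 1
    symm
    apply eq_root
    rw [mul_pow, root_pow, root_pow]
    rfl
  map_zero' := by
    rw [pow_eq_of_map_eq p π hK (e₂ := 0), zero_pow (Fact.out : p.Prime).ne_zero]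
    rw [Function.surjInv_eq hπ, map_zero]
    rw [← eq_root p (s := (0 : pPowerSubalgebra p A B)) (c := 0)
      (by simp [(Fact.out : p.Prime).ne_zero]), map_zero]
  map_add' s t := by
    rw [← add_pow_p p A]
    apply pow_eq_of_map_eq p π hK
    rw [map_add, Function.surjInv_eq hπ, Function.surjInv_eq hπ, Function.surjInv_eq hπ, ← map_add]
    congr 1
    symm
    apply eq_root
    rw [add_pow_char, root_pow, root_pow]
    rfl

theorem w₀_eq {s : pPowerSubalgebra p A B} {e : E} (he : π e = v (root p s)) :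
    w₀ p π hπ hK v s = e ^ p :=
  pow_eq_of_map_eq p π hK (by rw [Function.surjInv_eq hπ, he])

theorem w₀_mk_pow {c : B} {e : E} (he : π e = v c) :
    w₀ p π hπ hK v ⟨c ^ p, pow_mem p c⟩ = e ^ p :=
  w₀_eq p π hπ hK v (by rw [root_mk_pow, he])

theorem map_w₀ (s : pPowerSubalgebra p A B) : π (w₀ p π hπ hK v s) = v s := by
  change π ((Function.surjInv hπ (v (root p s))) ^ p) = v s
  rw [map_pow, Function.surjInv_eq hπ, ← map_pow, root_pow]

theorem w₀_algebraMap (a : A) :
    w₀ p π hπ hK v (algebraMap A (pPowerSubalgebra p A B) a) = algebraMap A E a := by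
  have h1 : root p (algebraMap A (pPowerSubalgebra p A B) a) =
      algebraMap A B ((frobeniusEquiv A p).symm a) := by
    symm
    apply eq_root
    rw [← map_pow, frobeniusEquiv_symm_pow_p]
    rfl
  rw [w₀_eq p π hπ hK v (e := algebraMap A E ((frobeniusEquiv A p).symm a)), ← map_pow,
    frobeniusEquiv_symm_pow_p]
  rw [h1, AlgHom.commutes, AlgHom.commutes]

end base

section basecase

variable (p : ℕ) [Fact p.Prime] {A B : Type u} [CommRing A] [CharP A p] [PerfectRing A p]
  [CommRing B] [Algebra A B] [CharP B p] [IsReduced B] {ι : Type u} (x : ι → B)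
  (hx : IsPBasis p A x)
  {E E' : Type u} [CommRing E] [CommRing E'] [Algebra A E] [Algebra A E']
  (π : E →ₐ[A] E') (hπ : Function.Surjective π) (hK : ∀ k : E, π k = 0 → k ^ p = 0)
  (v : B →ₐ[A] E')

/-- The basis of reduced monomials. -/
noncomputable def pbasis : Module.Basis {e : ι →₀ ℕ // ∀ i, e i < p} (pPowerSubalgebra p A B) B :=
  Module.Basis.mk hx.1 hx.2.ge

omit [Fact p.Prime] [CharP A p] [PerfectRing A p] [CharP B p] [IsReduced B] in
theorem pbasis_apply (e : {e : ι →₀ ℕ // ∀ i, e i < p}) :
    pbasis p x hx e = pMonomial x e.1 := by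
  unfold pbasis
  rw [Module.Basis.mk_apply]

include hx hπ hK in
theorem exists_lift_base (z : ι → E) (hz : ∀ i, π (z i) = v (x i)) :
    ∃ w : B →ₐ[A] E, π.comp w = v ∧ ∀ i, w (x i) = z i := by
  have hp0 : 0 < p := (Fact.out : p.Prime).pos
  have hp1 : 1 < p := (Fact.out : p.Prime).one_lt
  have hzmon : ∀ e : ι →₀ ℕ, π (pMonomial z e) = v (pMonomial x e) := by
    intro e
    rw [map_pMonomial π, map_pMonomial v]
    congr 1
    funext i
    exact hz i
  obtain ⟨w, hw1, hw2⟩ := exists_ringHom_of_basis (w₀ p π hπ hK v) (pbasis p x hx)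
    (fun e => pMonomial z e.1) ⟨0, fun i => hp0⟩
    (by rw [pbasis_apply, pMonomial_zero]) (pMonomial_zero z)
    (by
      intro e e'
      refine ⟨⟨pMonomial x (qt p (e.1 + e'.1)) ^ p, pow_mem p _⟩,
        ⟨rm p (e.1 + e'.1), rm_lt hp0 _⟩, ?_, ?_⟩
      · rw [pbasis_apply, pbasis_apply, pbasis_apply, ← pMonomial_add]
        change _ = pMonomial x (qt p (e.1 + e'.1)) ^ p * pMonomial x (rm p (e.1 + e'.1))
        rw [← pMonomial_nsmul, ← pMonomial_add, qt_add_rm]
      · rw [w₀_mk_pow p π hπ hK v (hzmon _), ← pMonomial_add, ← pMonomial_nsmul,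
          ← pMonomial_add, qt_add_rm])
  have hwalg : ∀ a, w (algebraMap A B a) = algebraMap A E a := by
    intro a
    have h1 : algebraMap A B a = (algebraMap A (pPowerSubalgebra p A B) a) • (1 : B) := by
      change _ = ((algebraMap A (pPowerSubalgebra p A B) a : pPowerSubalgebra p A B) : B) * 1
      rw [mul_one]
      rfl
    rw [h1, hw1, w₀_algebraMap, map_one, mul_one]
  let wA : B →ₐ[A] E := { w with commutes' := hwalg }
  have hwA : ∀ b, wA b = w b := fun b => rfl
  refine ⟨wA, ?_, ?_⟩
  · have h2 : (π : E →+* E').comp w = (v : B →+* E') :=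
      ringHom_ext_of_basis ((π : E →+* E').comp (w₀ p π hπ hK v)) (pbasis p x hx) _ _
        (fun s b => by
          simp only [RingHom.comp_apply, RingHom.coe_coe]
          rw [hw1, map_mul])
        (fun s b => by
          simp only [RingHom.comp_apply, RingHom.coe_coe]
          rw [map_w₀]
          change v ((s : B) * b) = _
          rw [map_mul])
        (fun e => by
          simp only [RingHom.comp_apply, RingHom.coe_coe]
          rw [hw2, pbasis_apply, hzmon])
    exact AlgHom.ext fun b => DFunLike.congr_fun h2 b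
  · intro i
    have h3 : x i = pbasis p x hx ⟨Finsupp.single i 1, fun j => by
        classical
        rw [Finsupp.single_apply]
        split_ifs
        · exact hp1
        · exact hp0⟩ := by
      rw [pbasis_apply, pMonomial_single]
    rw [hwA, h3, hw2, pMonomial_single]

theorem apply_coe_eq_w₀ (w : B →ₐ[A] E) (h : π.comp w = v) (s : pPowerSubalgebra p A B) :
    w (s : B) = w₀ p π hπ hK v s := by
  rw [w₀_eq p π hπ hK v (e := w (root p s)) (DFunLike.congr_fun h (root p s)), ← map_pow,
    root_pow]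

include hx hπ hK in
theorem lift_base_unique (w w' : B →ₐ[A] E) (h : π.comp w = v) (h' : π.comp w' = v)
    (hxz : ∀ i, w (x i) = w' (x i)) : w = w' := by
  have h2 : (w : B →+* E) = (w' : B →+* E) :=
    ringHom_ext_of_basis (w₀ p π hπ hK v) (pbasis p x hx) _ _
      (fun s b => by
        simp only [RingHom.coe_coe]
        change w ((s : B) * b) = _
        rw [map_mul, apply_coe_eq_w₀ p π hπ hK v w h])
      (fun s b => by
        simp only [RingHom.coe_coe]
        change w' ((s : B) * b) = _
        rw [map_mul, apply_coe_eq_w₀ p π hπ hK v w' h'])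
      (fun e => by
        simp only [RingHom.coe_coe]
        rw [pbasis_apply, map_pMonomial w, map_pMonomial w']
        congr 1
        funext i
        exact hxz i)
  exact AlgHom.ext fun b => DFunLike.congr_fun h2 b

end basecase

section tower

variable (p : ℕ) [Fact p.Prime] {A B : Type u} [CommRing A] [CharP A p] [PerfectRing A p]
  [CommRing B] [Algebra A B] [CharP B p] [IsReduced B] {ι : Type u} (x : ι → B)
  (hx : IsPBasis p A x)

include hx in
theorem existsUnique_lift_base {E E' : Type u} [CommRing E] [CommRing E'] [Algebra A E]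
    [Algebra A E'] (π : E →ₐ[A] E') (hπ : Function.Surjective π)
    (hK : ∀ k : E, π k = 0 → k ^ p = 0) (v : B →ₐ[A] E') (z : ι → E)
    (hz : ∀ i, π (z i) = v (x i)) :
    ∃! w : B →ₐ[A] E, π.comp w = v ∧ ∀ i, w (x i) = z i := by
  obtain ⟨w, hw1, hw2⟩ := exists_lift_base p x hx π hπ hK v z hz
  refine ⟨w, ⟨hw1, hw2⟩, ?_⟩
  rintro w' ⟨hw'1, hw'2⟩
  exact lift_base_unique p x hx π hπ hK v w' w hw'1 hw1 (fun i => by rw [hw2, hw'2])

include hx in
theorem existsUnique_lift_of_pow (N : ℕ) :
    ∀ (E E' : Type u) [CommRing E] [CommRing E'] [Algebra A E] [Algebra A E']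
      (π : E →ₐ[A] E'), Function.Surjective π → RingHom.ker π ^ N = ⊥ →
      ∀ (v : B →ₐ[A] E') (z : ι → E), (∀ i, π (z i) = v (x i)) →
        ∃! w : B →ₐ[A] E, π.comp w = v ∧ ∀ i, w (x i) = z i := by
  have hp2 : 2 ≤ p := (Fact.out : p.Prime).two_le
  induction N with
  | zero =>
    intro E E' _ _ _ _ π hπ hker v z hz
    refine existsUnique_lift_base p x hx π hπ (fun k _ => ?_) v z hz
    have : k ∈ RingHom.ker π ^ 0 := by
      rw [pow_zero, Ideal.one_eq_top]
      trivial
    rw [hker, Ideal.mem_bot] at this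
    rw [this, zero_pow (by omega)]
  | succ N ih =>
    intro E E' _ _ _ _ π hπ hker v z hz
    rcases Nat.eq_zero_or_pos N with hN | hN
    · subst hN
      rw [zero_add, pow_one] at hker
      refine existsUnique_lift_base p x hx π hπ (fun k hk => ?_) v z hz
      have : k ∈ RingHom.ker π := hk
      rw [hker, Ideal.mem_bot] at this
      rw [this, zero_pow (by omega)]
    · let K : Ideal E := RingHom.ker π ^ N
      have hKle : K ≤ RingHom.ker π := Ideal.pow_le_self (by omega)
      have hKp : K ^ p = ⊥ := by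
        rw [eq_bot_iff, ← hker]
        calc K ^ p ≤ K ^ 2 := Ideal.pow_le_pow_right hp2
          _ = RingHom.ker π ^ (N * 2) := by rw [pow_mul]
          _ ≤ RingHom.ker π ^ (N + 1) := Ideal.pow_le_pow_right (by omega)
      let π₁ : E ⧸ K →ₐ[A] E' := Ideal.Quotient.liftₐ K π (fun a ha => hKle ha)
      have hπ₁mk : ∀ e, π₁ (Ideal.Quotient.mk K e) = π e := fun e => rfl
      have hπ₁ : Function.Surjective π₁ := fun y => by
        obtain ⟨e, rfl⟩ := hπ y
        exact ⟨Ideal.Quotient.mk K e, rfl⟩
      have hker₁ : RingHom.ker π₁ ^ N = ⊥ := by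
        rw [eq_bot_iff]
        have h1 : RingHom.ker π₁ ≤ (RingHom.ker π).map (Ideal.Quotient.mk K) := by
          intro y hy
          obtain ⟨e, rfl⟩ := Ideal.Quotient.mk_surjective y
          rw [RingHom.mem_ker, hπ₁mk] at hy
          exact Ideal.mem_map_of_mem _ hy
        calc RingHom.ker π₁ ^ N ≤ ((RingHom.ker π).map (Ideal.Quotient.mk K)) ^ N :=
              Ideal.pow_right_mono h1 N
          _ = K.map (Ideal.Quotient.mk K) := (Ideal.map_pow _ _ _).symm
          _ = ⊥ := Ideal.map_quotient_self K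
      obtain ⟨w₁, ⟨hw₁1, hw₁2⟩, hw₁u⟩ := ih (E ⧸ K) E' π₁ hπ₁ hker₁ v
        (fun i => Ideal.Quotient.mk K (z i)) (fun i => by rw [hπ₁mk, hz])
      have hKK : ∀ k : E, (Ideal.Quotient.mkₐ A K) k = 0 → k ^ p = 0 := by
        intro k hk
        have h1 : k ∈ K := Ideal.Quotient.eq_zero_iff_mem.mp hk
        have h2 : k ^ p ∈ K ^ p := Ideal.pow_mem_pow h1 p
        rwa [hKp, Ideal.mem_bot] at h2
      obtain ⟨w, ⟨hw1, hw2⟩, hwu⟩ := existsUnique_lift_base p x hx (Ideal.Quotient.mkₐ A K)
        (Ideal.Quotient.mkₐ_surjective A K) hKK w₁ z (fun i => (hw₁2 i).symm)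
      have hπfac : π₁.comp (Ideal.Quotient.mkₐ A K) = π := AlgHom.ext fun e => rfl
      refine ⟨w, ⟨?_, hw2⟩, ?_⟩
      · rw [← hπfac, AlgHom.comp_assoc, hw1, hw₁1]
      · rintro w' ⟨hw'1, hw'2⟩
        apply hwu
        refine ⟨?_, hw'2⟩
        apply hw₁u
        refine ⟨?_, fun i => ?_⟩
        · rw [← AlgHom.comp_assoc, hπfac, hw'1]
        · rw [AlgHom.comp_apply, hw'2]
          rfl

include hx in
/-- EGA 0_IV 21.2.7 for discrete rings. -/
theorem existsUnique_lift {E : Type u} [CommRing E] [Algebra A E] (R : Ideal E)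
    (hR : IsNilpotent R) (v : B →ₐ[A] E ⧸ R) (z : ι → E)
    (hz : ∀ i, Ideal.Quotient.mk R (z i) = v (x i)) :
    ∃! w : B →ₐ[A] E, (Ideal.Quotient.mkₐ A R).comp w = v ∧ ∀ i, w (x i) = z i := by
  obtain ⟨N, hN⟩ := hR
  exact existsUnique_lift_of_pow p x hx N E (E ⧸ R) (Ideal.Quotient.mkₐ A R)
    (Ideal.Quotient.mkₐ_surjective A R) (by
      have : RingHom.ker (Ideal.Quotient.mkₐ A R) = R := by
        ext e
        exact Ideal.Quotient.eq_zero_iff_mem
      rw [this]
      exact hN) v z hz

include hx in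
theorem formallySmooth : Algebra.FormallySmooth A B := by
  refine Algebra.FormallySmooth.of_comp_surjective ?_
  intro C _ _ I hI f
  obtain ⟨w, ⟨hw, -⟩, -⟩ := existsUnique_lift p x hx I ⟨2, hI⟩ f
    (fun i => Function.surjInv Ideal.Quotient.mk_surjective (f (x i)))
    (fun i => Function.surjInv_eq _ _)
  exact ⟨w, hw⟩

end tower

end Groth.Agent.Lib.Helper61.PBasis
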