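import Mathlib

/-!
# Finite algebras over semilocal Noetherian rings

`A₀` Noetherian semilocal, `A` a module-finite `A₀`-algebra.  Then `rad(A₀) A ⊆ rad(A)` and a power
of `rad(A)` lies in `rad(A₀) A`.
-/

set_option autoImplicit false
universe u

namespace Groth.Agent.Lib.Helper61.SemilocalFinite

/-- In a semilocal ring a prime ideal containing the Jacobson radical is maximal. -/
theorem isMaximal_of_jacobson_le {R : Type*} [CommRing R] [Finite (MaximalSpectrum R)]
    (q : Ideal R) [hq : q.IsPrime] (h : Ideal.jacobson (⊥ : Ideal R) ≤ q) : q.IsMaximal := by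
  classical
  haveI : Fintype (MaximalSpectrum R) := Fintype.ofFinite _
  have h1 : (Finset.univ : Finset (MaximalSpectrum R)).inf (fun m => m.asIdeal) ≤ q := by
    refine le_trans ?_ h
    refine le_sInf ?_
    rintro J ⟨-, hJ⟩
    exact Finset.inf_le (f := fun m : MaximalSpectrum R => m.asIdeal)
      (Finset.mem_univ (⟨J, hJ⟩ : MaximalSpectrum R))
  obtain ⟨m, -, hm⟩ := (Ideal.IsPrime.inf_le' hq).mp h1
  have : m.asIdeal = q := m.isMaximal.eq_of_le hq.ne_top hm
  exact this ▸ m.isMaximal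

variable {A₀ A : Type*} [CommRing A₀] [CommRing A] [Algebra A₀ A]

theorem map_jacobson_le [Algebra.IsIntegral A₀ A] :
    (Ideal.jacobson (⊥ : Ideal A₀)).map (algebraMap A₀ A) ≤ Ideal.jacobson (⊥ : Ideal A) := by
  rw [Ideal.map_le_iff_le_comap]
  intro x hx
  rw [Ideal.mem_comap, Ideal.jacobson, Ideal.mem_sInf]
  rintro M ⟨-, hM⟩
  haveI := hM
  have h1 : (M.comap (algebraMap A₀ A)).IsMaximal :=
    Ideal.isMaximal_comap_of_isIntegral_of_isMaximal M
  have h2 : Ideal.jacobson ⊥ ≤ M.comap (algebraMap A₀ A) := sInf_le ⟨bot_le, h1⟩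
  exact h2 hx

theorem exists_pow_jacobson_le [IsNoetherianRing A₀] [Finite (MaximalSpectrum A₀)]
    [Module.Finite A₀ A] :
    ∃ c : ℕ, (Ideal.jacobson (⊥ : Ideal A)) ^ c ≤
      (Ideal.jacobson (⊥ : Ideal A₀)).map (algebraMap A₀ A) := by
  set K : Ideal A := (Ideal.jacobson (⊥ : Ideal A₀)).map (algebraMap A₀ A) with hK
  haveI : IsNoetherianRing A := IsNoetherianRing.of_finite A₀ A
  haveI : Ring.KrullDimLE 0 (A ⧸ K) := by
    rw [Ring.krullDimLE_zero_iff]
    intro P hP
    haveI := hP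
    set p : Ideal A := P.comap (Ideal.Quotient.mk K) with hp
    haveI : p.IsPrime := Ideal.comap_isPrime _ _
    have hKp : K ≤ p := by
      intro x hx
      rw [hp, Ideal.mem_comap, Ideal.Quotient.eq_zero_iff_mem.mpr hx]
      exact zero_mem _
    have hq : Ideal.jacobson (⊥ : Ideal A₀) ≤ p.comap (algebraMap A₀ A) :=
      Ideal.map_le_iff_le_comap.mp hKp
    have hqmax : (p.comap (algebraMap A₀ A)).IsMaximal := isMaximal_of_jacobson_le _ hq
    have hpmax : p.IsMaximal := Ideal.isMaximal_of_isIntegral_of_isMaximal_comap p hqmax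
    have hPeq : P = p.map (Ideal.Quotient.mk K) :=
      (Ideal.map_comap_of_surjective _ Ideal.Quotient.mk_surjective P).symm
    rw [hPeq]
    exact Ideal.IsMaximal.map_of_surjective_of_ker_le Ideal.Quotient.mk_surjective
      (by rw [Ideal.mk_ker]; exact hKp)
  haveI : IsArtinianRing (A ⧸ K) := isArtinianRing_iff_krullDimLE_zero.mpr inferInstance
  obtain ⟨c, hc⟩ := IsArtinianRing.isNilpotent_jacobson_bot (R := A ⧸ K)
  refine ⟨c, ?_⟩
  have h1 : (Ideal.jacobson (⊥ : Ideal A)).map (Ideal.Quotient.mk K) ≤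
      Ideal.jacobson (⊥ : Ideal (A ⧸ K)) := by
    rw [Ideal.map_le_iff_le_comap]
    intro x hx
    rw [Ideal.mem_comap, Ideal.jacobson, Ideal.mem_sInf]
    rintro M ⟨-, hM⟩
    haveI := hM
    have h2 : (M.comap (Ideal.Quotient.mk K)).IsMaximal :=
      Ideal.comap_isMaximal_of_surjective _ Ideal.Quotient.mk_surjective
    have h3 : Ideal.jacobson (⊥ : Ideal A) ≤ M.comap (Ideal.Quotient.mk K) :=
      sInf_le ⟨bot_le, h2⟩
    exact h3 hx
  have h4 : ((Ideal.jacobson (⊥ : Ideal A)) ^ c).map (Ideal.Quotient.mk K) ≤ ⊥ := by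
    rw [Ideal.map_pow]
    refine le_trans (Ideal.pow_right_mono h1 c) ?_
    rw [hc]
    exact le_of_eq rfl
  intro x hx
  have h5 : Ideal.Quotient.mk K x ∈ (⊥ : Ideal (A ⧸ K)) := h4 (Ideal.mem_map_of_mem _ hx)
  rw [Ideal.mem_bot] at h5
  exact Ideal.Quotient.eq_zero_iff_mem.mp h5

end Groth.Agent.Lib.Helper61.SemilocalFinite
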