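import Mathlib
import Groth.Agent.Lib.Helper61.AlgClosedIn

/-!
# Idempotents of `A ⊗[F] C` for `F` algebraically closed in `A` and `C/F` algebraic

If `F` is algebraically closed in the field `A` and `C/F` is an algebraic field extension, then
`A ⊗[F] C` has only the trivial idempotents: the separable closure `B` of `F` in `C` gives a field
`A ⊗[F] B`, and a power `w ^ (q ^ n)` of every element of `A ⊗[F] C` comes from `A ⊗[F] B`.
-/

set_option autoImplicit false

namespace Groth.Agent.Lib.Helper61.TensorIdem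

open TensorProduct Groth.Agent.Lib.Helper61.AlgClosedIn

universe u v w

variable {F : Type u} {A : Type v} {C : Type w} [Field F] [Field A] [Field C] [Algebra F A]
  [Algebra F C]

theorem exists_pow_mem_range (B : IntermediateField F C) (q : ℕ) [ExpChar (A ⊗[F] C) q]
    (hB : ∀ c : C, ∃ n : ℕ, c ^ q ^ n ∈ B) (w : A ⊗[F] C) :
    ∃ n : ℕ, w ^ q ^ n ∈ (Algebra.TensorProduct.map (AlgHom.id F A) B.val).range := by
  induction w using TensorProduct.induction_on with
  | zero =>
    refine ⟨0, ?_⟩
    rw [pow_zero, pow_one]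
    exact Subalgebra.zero_mem _
  | tmul a c =>
    obtain ⟨n, hn⟩ := hB c
    refine ⟨n, ⟨(a ^ q ^ n) ⊗ₜ ⟨c ^ q ^ n, hn⟩, ?_⟩⟩
    rw [Algebra.TensorProduct.tmul_pow]
    rfl
  | add w₁ w₂ h₁ h₂ =>
    obtain ⟨n₁, hn₁⟩ := h₁
    obtain ⟨n₂, hn₂⟩ := h₂
    refine ⟨n₁ + n₂, ?_⟩
    rw [add_pow_expChar_pow]
    refine Subalgebra.add_mem _ ?_ ?_
    · rw [pow_add, pow_mul]
      exact Subalgebra.pow_mem _ hn₁ _
    · rw [add_comm n₁ n₂, pow_add, pow_mul]
      exact Subalgebra.pow_mem _ hn₂ _

theorem idempotent_trivial [Algebra.IsAlgebraic F C] (hA : IsAlgClosedIn F A) (e : A ⊗[F] C)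
    (he : e * e = e) : e = 0 ∨ e = 1 := by
  haveI : Nontrivial (A ⊗[F] C) :=
    Algebra.TensorProduct.nontrivial_of_algebraMap_injective_of_isDomain F A C
      (algebraMap F A).injective (algebraMap F C).injective
  obtain ⟨q, hq⟩ := ExpChar.exists F
  haveI := hq
  haveI : ExpChar (A ⊗[F] C) q :=
    expChar_of_injective_algebraMap (algebraMap F (A ⊗[F] C)).injective q
  let B : IntermediateField F C := separableClosure F C
  have hB : ∀ c : C, ∃ n : ℕ, c ^ q ^ n ∈ B := by
    intro c
    haveI : ExpChar B q := expChar_of_injective_algebraMap (algebraMap F B).injective q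
    obtain ⟨n, b, hb⟩ := (isPurelyInseparable_iff_pow_mem B q).mp
      (separableClosure.isPurelyInseparable F C) c
    exact ⟨n, by rw [← hb]; exact b.2⟩
  obtain ⟨n, e₀, he₀⟩ := exists_pow_mem_range B q hB e
  have hpow : ∀ m : ℕ, m ≠ 0 → e ^ m = e := by
    intro m hm
    induction m with
    | zero => exact absurd rfl hm
    | succ m ih =>
      rcases Nat.eq_zero_or_pos m with h0 | hpos
      · rw [h0, zero_add, pow_one]
      · rw [pow_succ, ih hpos.ne', he]
  have hqn : q ^ n ≠ 0 := pow_ne_zero _ (expChar_pos F q).ne'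
  rw [hpow _ hqn] at he₀
  have hfield : IsField (A ⊗[F] B) := isField_tensor A B hA
  by_cases h0 : e₀ = 0
  · left
    rw [← he₀, h0, map_zero]
  · right
    obtain ⟨y, hy⟩ := hfield.mul_inv_cancel h0
    have hunit : e * (Algebra.TensorProduct.map (AlgHom.id F A) B.val y) = 1 := by
      rw [← he₀]
      change (Algebra.TensorProduct.map (AlgHom.id F A) B.val) e₀ *
        (Algebra.TensorProduct.map (AlgHom.id F A) B.val) y = 1
      rw [← map_mul, hy, map_one]
    calc e = e * 1 := (mul_one e).symm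
      _ = e * (e * (Algebra.TensorProduct.map (AlgHom.id F A) B.val y)) := by rw [hunit]
      _ = (e * e) * (Algebra.TensorProduct.map (AlgHom.id F A) B.val y) := by ring
      _ = 1 := by rw [he, hunit]

end Groth.Agent.Lib.Helper61.TensorIdem
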